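import Mathlib
import Cfsg.Agent.Blocks.OrbitSum
import Cfsg.Agent.Blocks.Central

/-!
# The algebra behind Knörr's theorem on covering blocks (helper592)

`k` a field of characteristic `p`, `N` normal in the finite group `G`, `Q ≤ N` a `p`-subgroup.
The elements of `k[G]` commuting with `N` form a ring graded by `G / N`; those vanishing on
`C_G(Q)` form a graded right ideal.  `eq_zero_of_van` : an idempotent `e` in this ideal with
`e f = e`, `f ∈ Z(k[N])`, is zero if `z f` is nilpotent for every `z ∈ Z(k[N])` vanishing on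
`C_N(Q)`.
-/

set_option autoImplicit false
set_option linter.unusedSectionVars false

namespace Cfsg.Agent.H592.KnorrAlg

open MonoidAlgebra
open Cfsg.Agent.Blocks.Central (ofFun coeff_ofFun ext_coeff coeff_mul_eq_sum mem_center_iff)

variable {k : Type*} [Field k] {G : Type*} [Group G]

/-- Invariance of an element of the group algebra under conjugation by `N`. -/
def Inv (N : Subgroup G) (a : MonoidAlgebra k G) : Prop :=
  ∀ n ∈ N, ∀ g : G, a.coeff (n * g * n⁻¹) = a.coeff g

/-- The coefficients on `C_G(Q)` are zero. -/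
def Van (Q : Subgroup G) (a : MonoidAlgebra k G) : Prop :=
  ∀ c ∈ Subgroup.centralizer (Q : Set G), a.coeff c = 0

/-- Support in a coset. -/
def Deg (N : Subgroup G) [N.Normal] (d : G ⧸ N) (a : MonoidAlgebra k G) : Prop :=
  ∀ g : G, a.coeff g ≠ 0 → (g : G ⧸ N) = d

variable [Fintype G] (N : Subgroup G)

theorem Inv.mul {N : Subgroup G} {a b : MonoidAlgebra k G} (ha : Inv N a) (hb : Inv N b) :
    Inv N (a * b) := by
  intro n hn g
  rw [coeff_mul_eq_sum, coeff_mul_eq_sum]
  symm
  refine Fintype.sum_equiv (MulAut.conj n).toEquiv _ _ fun x => ?_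
  have h1 : a.coeff ((MulAut.conj n).toEquiv x) = a.coeff x := ha n hn x
  have h2 : ((MulAut.conj n).toEquiv x)⁻¹ * (n * g * n⁻¹) = n * (x⁻¹ * g) * n⁻¹ := by
    change (n * x * n⁻¹)⁻¹ * (n * g * n⁻¹) = n * (x⁻¹ * g) * n⁻¹
    group
  rw [h1, h2, hb n hn]

/-- Brauer's argument. -/
theorem Van.mul {p : ℕ} [Fact p.Prime] [CharP k p] {N Q : Subgroup G} (hQN : Q ≤ N)
    (hQ : IsPGroup p Q) {a b : MonoidAlgebra k G} (ha : Inv N a) (hav : Van Q a)
    (hb : Inv N b) : Van Q (a * b) := by
  classical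
  intro c hc
  rw [coeff_mul_eq_sum]
  obtain ⟨r, hr⟩ := Cfsg.Agent.Blocks.OrbitSum.sum_eq_sum_centralizer_add_smul Q hQ
    (fun x => a.coeff x * b.coeff (x⁻¹ * c)) (by
      intro u hu x
      have h1 : (u * x * u⁻¹)⁻¹ * c = u * (x⁻¹ * c) * u⁻¹ := by
        have h2 : u * c = c * u := Subgroup.mem_centralizer_iff.1 hc u hu
        calc (u * x * u⁻¹)⁻¹ * c = u * x⁻¹ * u⁻¹ * (c * u) * u⁻¹ := by group
          _ = u * x⁻¹ * u⁻¹ * (u * c) * u⁻¹ := by rw [h2]
          _ = u * (x⁻¹ * c) * u⁻¹ := by group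
      change a.coeff (u * x * u⁻¹) * b.coeff ((u * x * u⁻¹)⁻¹ * c) = _
      rw [h1, ha u (hQN hu), hb u (hQN hu)])
  rw [hr, Finset.sum_eq_zero, zero_add, ← Nat.cast_smul_eq_nsmul k p r, CharP.cast_eq_zero,
    zero_smul]
  intro x hx
  rw [hav x (Finset.mem_filter.1 hx).2, zero_mul]

section comp

variable [N.Normal]

/-- The component of degree `d`. -/
noncomputable def comp (d : G ⧸ N) (a : MonoidAlgebra k G) : MonoidAlgebra k G :=
  haveI := Classical.decEq (G ⧸ N)
  ofFun (fun g => if (g : G ⧸ N) = d then a.coeff g else 0)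

theorem coeff_comp (d : G ⧸ N) [DecidableEq (G ⧸ N)] (a : MonoidAlgebra k G) (g : G) :
    (comp N d a).coeff g = if (g : G ⧸ N) = d then a.coeff g else 0 := by
  unfold comp
  rw [coeff_ofFun]
  congr

theorem deg_comp (d : G ⧸ N) (a : MonoidAlgebra k G) : Deg N d (comp N d a) := by
  classical
  intro g hg
  rw [coeff_comp] at hg
  by_contra h
  rw [if_neg h] at hg
  exact hg rfl

theorem coeff_finsetSum {ι : Type*} (s : Finset ι) (f : ι → MonoidAlgebra k G) (g : G) :
    (∑ i ∈ s, f i).coeff g = ∑ i ∈ s, (f i).coeff g := by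
  classical
  induction s using Finset.induction_on with
  | empty => simp
  | insert i s hi ih =>
    rw [Finset.sum_insert hi, Finset.sum_insert hi, ← ih]
    simp

theorem sum_comp [Fintype (G ⧸ N)] (a : MonoidAlgebra k G) : ∑ d : G ⧸ N, comp N d a = a := by
  classical
  refine ext_coeff fun g => ?_
  rw [coeff_finsetSum, Finset.sum_congr rfl fun d _ => coeff_comp N d a g]
  simp

theorem comp_mul {s : G ⧸ N} {u : MonoidAlgebra k G} (hu : Deg N s u) (d : G ⧸ N)
    (x : MonoidAlgebra k G) : comp N d (u * x) = u * comp N (s⁻¹ * d) x := by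
  classical
  refine ext_coeff fun g => ?_
  rw [coeff_comp, coeff_mul_eq_sum, coeff_mul_eq_sum]
  have h1 : ∀ y : G, u.coeff y * (comp N (s⁻¹ * d) x).coeff (y⁻¹ * g) =
      if (g : G ⧸ N) = d then u.coeff y * x.coeff (y⁻¹ * g) else 0 := by
    intro y
    by_cases hy : u.coeff y = 0
    · rw [hy]
      simp
    · have h2 := hu y hy
      rw [coeff_comp]
      have h3 : ((y⁻¹ * g : G) : G ⧸ N) = s⁻¹ * d ↔ (g : G ⧸ N) = d := by
        rw [QuotientGroup.mk_mul, QuotientGroup.mk_inv, h2, mul_right_inj]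
      by_cases hg : (g : G ⧸ N) = d
      · rw [if_pos (h3.2 hg), if_pos hg]
      · rw [if_neg (fun h => hg (h3.1 h)), if_neg hg, mul_zero]
  rw [Finset.sum_congr rfl fun y _ => h1 y]
  split_ifs with hg
  · rfl
  · rw [Finset.sum_const_zero]

theorem Inv.comp {N : Subgroup G} [N.Normal] {a : MonoidAlgebra k G} (ha : Inv N a)
    (d : G ⧸ N) : Inv N (comp N d a) := by
  classical
  intro n hn g
  rw [coeff_comp, coeff_comp, ha n hn]
  have h1 : ((n * g * n⁻¹ : G) : G ⧸ N) = (g : G ⧸ N) := by
    have h2 : ((n : G) : G ⧸ N) = 1 := (QuotientGroup.eq_one_iff n).2 hn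
    rw [QuotientGroup.mk_mul, QuotientGroup.mk_mul, QuotientGroup.mk_inv, h2]
    simp
  rw [h1]

theorem Van.comp {Q : Subgroup G} {a : MonoidAlgebra k G} (ha : Van Q a)
    (d : G ⧸ N) : Van Q (comp N d a) := by
  classical
  intro c hc
  rw [coeff_comp, ha c hc, ite_self]

end comp

/-! ### The group algebra of `N` -/

/-- The inclusion of group algebras. -/
noncomputable def inc : MonoidAlgebra k N →+* MonoidAlgebra k G :=
  MonoidAlgebra.mapDomainRingHom k N.subtype

theorem coeff_inc (a : MonoidAlgebra k N) (n : N) : (inc N a).coeff (n : G) = a.coeff n :=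
  Finsupp.mapDomain_apply (f := N.subtype) N.subtype_injective _ n

theorem coeff_inc_of_notMem (a : MonoidAlgebra k N) {g : G} (hg : g ∉ N) :
    (inc N a).coeff g = 0 :=
  Finsupp.mapDomain_of_notMem_range (f := N.subtype) _ _ (by simpa using hg)

theorem deg_inc [N.Normal] (a : MonoidAlgebra k N) : Deg N 1 (inc N a) := by
  intro g hg
  rw [QuotientGroup.eq_one_iff]
  by_contra h
  exact hg (coeff_inc_of_notMem N a h)

/-- Elements of degree one come from `N`. -/
theorem exists_inc [N.Normal] {a : MonoidAlgebra k G} (ha : Deg N 1 a) :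
    a = inc N (ofFun fun n : N => a.coeff n) := by
  refine ext_coeff fun g => ?_
  by_cases hg : g ∈ N
  · exact ((coeff_inc N (ofFun fun n : N => a.coeff n) ⟨g, hg⟩).trans (coeff_ofFun _ _)).symm
  · rw [coeff_inc_of_notMem N _ hg]
    by_contra h
    exact hg ((QuotientGroup.eq_one_iff g).1 (ha g h))

/-- Elements of `k[N]` commute with the invariant elements. -/
theorem inc_mul_comm (z : MonoidAlgebra k N) {a : MonoidAlgebra k G} (ha : Inv N a) :
    inc N z * a = a * inc N z := by
  classical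
  refine ext_coeff fun g => ?_
  rw [coeff_mul_eq_sum, coeff_mul_eq_sum]
  symm
  refine Fintype.sum_equiv ((Equiv.inv G).trans (Equiv.mulRight g)) _ _ fun x => ?_
  change a.coeff x * (inc N z).coeff (x⁻¹ * g) =
    (inc N z).coeff (x⁻¹ * g) * a.coeff ((x⁻¹ * g)⁻¹ * g)
  by_cases hg : x⁻¹ * g ∈ N
  · have h1 : (x⁻¹ * g)⁻¹ * g = (x⁻¹ * g)⁻¹ * x * ((x⁻¹ * g)⁻¹)⁻¹ := by group
    rw [h1, ha _ (inv_mem hg), mul_comm]
  · rw [coeff_inc_of_notMem N z hg, zero_mul, mul_zero]

theorem inv_inc [N.Normal] {z : MonoidAlgebra k N}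
    (hz : z ∈ Subalgebra.center k (MonoidAlgebra k N)) : Inv N (inc N z) := by
  intro n hn g
  by_cases hg : g ∈ N
  · have h1 := coeff_inc N z (⟨n, hn⟩ * ⟨g, hg⟩ * ⟨n, hn⟩⁻¹)
    have h2 := coeff_inc N z ⟨g, hg⟩
    have h3 := mem_center_iff.1 hz ⟨g, hg⟩ ⟨n, hn⟩
    rw [← h1] at h3
    rw [← h2] at h3
    exact h3
  · have h1 : n * g * n⁻¹ ∉ N := by
      intro h
      apply hg
      have h2 := mul_mem (mul_mem (inv_mem hn) h) hn
      have h3 : n⁻¹ * (n * g * n⁻¹) * n = g := by group
      rwa [h3] at h2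
    rw [coeff_inc_of_notMem N z hg, coeff_inc_of_notMem N z h1]

/-- The centre of `k[N]` inside `k[G]`. -/
noncomputable def incZ : Subalgebra.center k (MonoidAlgebra k N) →+* MonoidAlgebra k G :=
  (inc N).comp (Subalgebra.center k (MonoidAlgebra k N)).val.toRingHom

theorem incZ_apply (z : Subalgebra.center k (MonoidAlgebra k N)) :
    incZ N z = inc N (z : MonoidAlgebra k N) := rfl

theorem inv_incZ [N.Normal] (z : Subalgebra.center k (MonoidAlgebra k N)) :
    Inv N (incZ N z) := by
  rw [incZ_apply]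
  exact inv_inc N z.2

theorem incZ_mul_comm (z : Subalgebra.center k (MonoidAlgebra k N)) {a : MonoidAlgebra k G}
    (ha : Inv N a) : incZ N z * a = a * incZ N z := by
  have h1 := inc_mul_comm N (z : MonoidAlgebra k N) ha
  rw [incZ_apply]
  exact h1

theorem comp_incZ_mul [N.Normal] (z : Subalgebra.center k (MonoidAlgebra k N)) (d : G ⧸ N)
    (a : MonoidAlgebra k G) : comp N d (incZ N z * a) = incZ N z * comp N d a := by
  have h1 := comp_mul N (deg_inc N (z : MonoidAlgebra k N)) d a
  rw [inv_one, one_mul] at h1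
  rw [incZ_apply]
  exact h1

theorem comp_zero [N.Normal] (d : G ⧸ N) : comp N d (0 : MonoidAlgebra k G) = 0 := by
  classical
  refine ext_coeff fun g => ?_
  rw [coeff_comp]
  simp

theorem exists_incZ [N.Normal] {x : MonoidAlgebra k G} (hx : Inv N x) {Q : Subgroup G}
    (hxv : Van Q x) : ∃ z : Subalgebra.center k (MonoidAlgebra k N), comp N 1 x = incZ N z ∧
      ∀ c : N, (c : G) ∈ Subgroup.centralizer (Q : Set G) →
        (z : MonoidAlgebra k N).coeff c = 0 := by
  have h1 := exists_inc N (deg_comp N 1 x)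
  have h2 : (ofFun fun n : N => (comp N 1 x).coeff n) ∈
      Subalgebra.center k (MonoidAlgebra k N) := by
    rw [mem_center_iff]
    intro g h
    rw [coeff_ofFun, coeff_ofFun]
    exact (hx.comp 1) h h.2 g
  have h3 : ∀ c : N, (c : G) ∈ Subgroup.centralizer (Q : Set G) →
      (ofFun fun n : N => (comp N 1 x).coeff n).coeff c = 0 := by
    intro c hc
    rw [coeff_ofFun]
    exact hxv.comp N 1 _ hc
  generalize (ofFun fun n : N => (comp N 1 x).coeff n) = y at h1 h2 h3
  exact ⟨⟨y, h2⟩, h1, h3⟩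

theorem exists_annihilated (J : Ideal (Subalgebra.center k (MonoidAlgebra k N))) {n : ℕ}
    (hn : J ^ n = 0) {e : MonoidAlgebra k G} (hne : e ≠ 0) :
    ∃ y : Subalgebra.center k (MonoidAlgebra k N), incZ N y * e ≠ 0 ∧
      ∀ z ∈ J, incZ N z * (incZ N y * e) = 0 := by
  classical
  by_contra hcon
  push Not at hcon
  have key : ∀ j : ℕ, ∃ y ∈ J ^ j, incZ N y * e ≠ 0 := by
    intro j
    induction j with
    | zero => exact ⟨1, by simp, by rw [map_one, one_mul]; exact hne⟩
    | succ j ih =>
      obtain ⟨y, hy, hye⟩ := ih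
      obtain ⟨z, hz, hze⟩ := hcon y hye
      refine ⟨z * y, ?_, ?_⟩
      · rw [pow_succ, mul_comm (J ^ j)]
        exact Ideal.mul_mem_mul hz hy
      · rw [map_mul, mul_assoc]
        exact hze
  obtain ⟨y, hy, hye⟩ := key n
  rw [hn] at hy
  have h2 : y = 0 := hy
  rw [h2, map_zero, zero_mul] at hye
  exact hye rfl

/-- **The main lemma.** -/
theorem eq_zero_of_van {p : ℕ} [Fact p.Prime] [CharP k p] [N.Normal] {Q : Subgroup G}
    (hQN : Q ≤ N) (hQ : IsPGroup p Q) (f : Subalgebra.center k (MonoidAlgebra k N))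
    (hf : ∀ z : Subalgebra.center k (MonoidAlgebra k N),
      (∀ c : N, (c : G) ∈ Subgroup.centralizer (Q : Set G) →
        (z : MonoidAlgebra k N).coeff c = 0) → IsNilpotent (z * f))
    {e : MonoidAlgebra k G} (he : Inv N e) (hv : Van Q e) (hee : e * e = e)
    (hef : e * incZ N f = e) : e = 0 := by
  classical
  by_contra hne
  have : Finite N := inferInstance
  have hfin : Module.Finite k (MonoidAlgebra k N) := inferInstance
  have : IsNoetherianRing (Subalgebra.center k (MonoidAlgebra k N)) := by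
    have h1 : IsNoetherian k (Subalgebra.center k (MonoidAlgebra k N)) :=
      isNoetherian_of_injective (Subalgebra.center k (MonoidAlgebra k N)).val.toLinearMap
        Subtype.val_injective
    exact isNoetherian_of_tower k h1
  obtain ⟨n, hn⟩ := IsNoetherianRing.isNilpotent_nilradical
    (Subalgebra.center k (MonoidAlgebra k N))
  obtain ⟨y, hye, hyJ⟩ := exists_annihilated N
    (nilradical (Subalgebra.center k (MonoidAlgebra k N))) hn hne
  have hdeg1 : ∀ x : MonoidAlgebra k G, Inv N x → Van Q x →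
      ∃ z : Subalgebra.center k (MonoidAlgebra k N), comp N 1 x = incZ N z ∧
        z * f ∈ nilradical (Subalgebra.center k (MonoidAlgebra k N)) := by
    intro x hx hxv
    obtain ⟨z, hz1, hz2⟩ := exists_incZ N hx hxv
    exact ⟨z, hz1, mem_nilradical.2 (hf z hz2)⟩
  generalize nilradical (Subalgebra.center k (MonoidAlgebra k N)) = J at hn hyJ hdeg1
  -- the pigeonhole argument
  have : Fintype (G ⧸ N) := Fintype.ofFinite _
  have claim : ∀ (n : ℕ) (D : Finset (G ⧸ N)), (Finset.univ \ D).card ≤ n →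
      ∀ s ∈ D, ∀ u : MonoidAlgebra k G, Inv N u → Deg N s u → (∀ z ∈ J, incZ N z * u = 0) →
        u * incZ N f = u →
        (∀ x : MonoidAlgebra k G, Inv N x → Van Q x → ∀ d ∈ D, comp N d (u * x) = 0) →
        u * e ^ (n + 1) = 0 := by
    intro n
    induction n with
    | zero =>
      intro D hD s hs u hu hus hJu huf hux
      have hDu : ∀ d, d ∈ D := by
        intro d
        by_contra hd
        have h1 : d ∈ Finset.univ \ D := Finset.mem_sdiff.2 ⟨Finset.mem_univ _, hd⟩
        rw [Finset.card_eq_zero.1 (Nat.le_zero.1 hD)] at h1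
        exact absurd h1 (Finset.notMem_empty d)
      rw [zero_add, pow_one, ← sum_comp N (u * e)]
      exact Finset.sum_eq_zero fun d _ => hux e he hv d (hDu d)
    | succ n ih =>
      intro D hD s hs u hu hus hJu huf hux
      have h0 : u * e ^ (n + 1 + 1) = ∑ d : G ⧸ N, comp N d (u * e) * e ^ (n + 1) := by
        rw [← Finset.sum_mul, sum_comp, pow_succ' e (n + 1), mul_assoc]
      rw [h0]
      refine Finset.sum_eq_zero fun d _ => ?_
      by_cases hd : d ∈ D
      · rw [hux e he hv d hd, zero_mul]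
      · have hec : Inv N (comp N (s⁻¹ * d) e) := he.comp _
        have hevc : Van Q (comp N (s⁻¹ * d) e) := hv.comp N _
        have hu' : comp N d (u * e) = u * comp N (s⁻¹ * d) e := comp_mul N hus d e
        have hJu' : ∀ z ∈ J, incZ N z * comp N d (u * e) = 0 := by
          intro z hz
          rw [hu', ← mul_assoc, hJu z hz, zero_mul]
        have hinv' : Inv N (comp N d (u * e)) := (hu.mul he).comp d
        have huf' : comp N d (u * e) * incZ N f = comp N d (u * e) := by
          rw [hu', mul_assoc, ← incZ_mul_comm N f hec, ← mul_assoc, huf]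
        refine ih (insert d D) ?_ d (Finset.mem_insert_self d D) _ hinv' (deg_comp N d _) hJu'
          huf' ?_
        · have h1 : (Finset.univ \ insert d D : Finset (G ⧸ N)) = (Finset.univ \ D).erase d := by
            ext x
            simp only [Finset.mem_sdiff, Finset.mem_univ, true_and, Finset.mem_insert,
              Finset.mem_erase, not_or]
          rw [h1, Finset.card_erase_of_mem (Finset.mem_sdiff.2 ⟨Finset.mem_univ _, hd⟩)]
          omega
        · intro x hx hxv d' hd'
          rcases Finset.mem_insert.1 hd' with rfl | hd'D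
          · rw [comp_mul N (deg_comp N d' _), inv_mul_cancel]
            obtain ⟨z, hz1, hz2⟩ := hdeg1 x hx hxv
            rw [hz1, ← huf', mul_assoc, ← map_mul, ← incZ_mul_comm N _ hinv', mul_comm f z]
            exact hJu' _ hz2
          · rw [hu', mul_assoc]
            exact hux _ (hec.mul hx) (Van.mul hQN hQ hec hevc hx) d' hd'D
  -- conclusion
  have hye' : incZ N y * e = incZ N y * e * e ^ (Fintype.card (G ⧸ N) + 1) := by
    have h1 : ∀ m : ℕ, e ^ (m + 1) = e := by
      intro m
      induction m with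
      | zero => simp
      | succ m ih => rw [pow_succ, ih, hee]
    rw [h1, mul_assoc, hee]
  apply hye
  rw [hye', ← sum_comp N (incZ N y * e), Finset.sum_mul]
  refine Finset.sum_eq_zero fun d _ => ?_
  have hinvy : Inv N (incZ N y * e) := (inv_incZ N y).mul he
  have hJd : ∀ z ∈ J, incZ N z * comp N d (incZ N y * e) = 0 := by
    intro z hz
    rw [← comp_incZ_mul, hyJ z hz, comp_zero]
  have hfd : comp N d (incZ N y * e) * incZ N f = comp N d (incZ N y * e) := by
    rw [← incZ_mul_comm N f (hinvy.comp d), ← comp_incZ_mul, incZ_mul_comm N f hinvy, mul_assoc,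
      hef]
  refine claim _ {d} ?_ d (Finset.mem_singleton_self d) _ (hinvy.comp d) (deg_comp N d _) hJd hfd
    ?_
  · exact (Finset.card_le_univ _)
  · intro x hx hxv d' hd'
    rw [Finset.mem_singleton.1 hd', comp_mul N (deg_comp N d _), inv_mul_cancel]
    obtain ⟨z, hz1, hz2⟩ := hdeg1 x hx hxv
    rw [hz1, ← hfd, mul_assoc, ← map_mul, ← incZ_mul_comm N _ (hinvy.comp d), mul_comm f z]
    exact hJd _ hz2

end Cfsg.Agent.H592.KnorrAlg
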