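import Mathlib
import Cfsg.Prelude.Def_Blocks
import Cfsg.Agent.Characters.Core
import Cfsg.Agent.Blocks.Basic
import Cfsg.Agent.Blocks.Local
import Cfsg.Agent.Blocks.ClassSum
import Cfsg.Agent.Blocks.ConvCentral
import Cfsg.Agent.Blocks.BlockIdem
import Cfsg.Agent.Blocks.Central
import Cfsg.Agent.Blocks.CentralScalar
import Cfsg.Agent.S0913

/-!
# Reduction of functions modulo `M` to the group algebra over the residue field (helper592)

* `rd M f` : the element of `k[G]`, `k = ResField M`, with coefficients the residues of `f`;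
  multiplicative for convolution (`rd_conv`);
* `isNilpotent_rd` : a central element all of whose central characters vanish is nilpotent;
* `eB M B` : the block idempotent in `k[G]`, idempotent, central, nonzero.
-/

set_option autoImplicit false
set_option linter.unusedSectionVars false

open Cfsg

namespace Cfsg.Agent.H592.Reduce

open Cfsg.Agent.Characters.Core Cfsg.Agent.Blocks Cfsg.Agent.Blocks.Local
open Cfsg.Agent.Blocks.ConvCentral (conv conv_apply lin lin_def lin_conv isClassFunction_conv)
open Cfsg.Agent.Blocks.Central (ofFun coeff_ofFun ext_coeff coeff_mul_eq_sum mem_center_iff)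
open Cfsg.Agent.Blocks.BlockIdem (eq_zero_of_lin isClassFunction_blockCoeff lin_blockCoeff
  conv_blockCoeff_self)
open scoped ComplexConjugate

variable {G : Type*} [Group G]

/-- Reduction of a function modulo `M`. -/
noncomputable def rd [Finite G] (M : Ideal AlgInt) [M.IsPrime] (f : G → ℂ) :
    MonoidAlgebra (ResField M) G :=
  ofFun fun g => redC M (f g)

variable {p : ℕ} {M : Ideal AlgInt} [M.IsPrime]

theorem coeff_rd [Finite G] (f : G → ℂ) (g : G) : (rd M f).coeff g = redC M (f g) :=
  coeff_ofFun _ _

theorem coeff_rd_ne_zero [Finite G] {f : G → ℂ} (g : G) (h : (rd M f).coeff g ≠ 0) :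
    MemLocalRing M (f g) ∧ ¬ MemLocalIdeal M (f g) := by
  rw [coeff_rd] at h
  have h1 : MemLocalRing M (f g) := by
    by_contra hcon
    exact h (redC_of_not hcon)
  exact ⟨h1, fun h2 => h ((redC_eq_zero_iff h1).2 h2)⟩

theorem coeff_rd_eq_zero_iff [Finite G] {f : G → ℂ} (g : G) (h1 : MemLocalRing M (f g)) :
    (rd M f).coeff g = 0 ↔ MemLocalIdeal M (f g) := by
  rw [coeff_rd]
  exact redC_eq_zero_iff h1

theorem memLocalRing_conv [Fintype G] {f f' : G → ℂ} (hf : ∀ g, MemLocalRing M (f g))
    (hf' : ∀ g, MemLocalRing M (f' g)) (g : G) : MemLocalRing M (conv f f' g) := by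
  rw [conv_apply]
  exact memLocalRing_sum fun x _ => memLocalRing_mul (hf _) (hf' _)

theorem rd_conv [Fintype G] {f f' : G → ℂ} (hf : ∀ g, MemLocalRing M (f g))
    (hf' : ∀ g, MemLocalRing M (f' g)) : rd M (conv f f') = rd M f * rd M f' := by
  refine ext_coeff fun g => ?_
  rw [coeff_rd, coeff_mul_eq_sum, conv_apply,
    redC_sum (fun x _ => memLocalRing_mul (hf _) (hf' _))]
  refine Finset.sum_congr rfl fun x _ => ?_
  rw [redC_mul (hf _) (hf' _), coeff_rd, coeff_rd]

theorem rd_mem_center [Finite G] {f : G → ℂ} (hf : IsClassFunction G f) :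
    rd M f ∈ Subalgebra.center (ResField M) (MonoidAlgebra (ResField M) G) := by
  rw [mem_center_iff]
  intro g h
  rw [coeff_rd, coeff_rd, hf g h]

/-- **Nilpotency**: a central element killed by all central characters is nilpotent. -/
theorem isNilpotent_rd [Fintype G] {z : G → ℂ} (hz : IsClassFunction G z)
    (hzR : ∀ g, MemLocalRing M (z g))
    (hlin : ∀ χ : IrrCharacter G, MemLocalIdeal M (lin (χ : G → ℂ) z / (χ : G → ℂ) 1)) :
    IsNilpotent (rd M z) := by
  classical
  have hfin : Finite (IrrCharacter G) := finite_irr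
  have : Fintype (IrrCharacter G) := Fintype.ofFinite _
  have key : ∀ T : Finset (IrrCharacter G), ∃ f : G → ℂ, IsClassFunction G f ∧
      (∀ g, MemLocalRing M (f g)) ∧ rd M f = rd M z ^ (T.card + 1) ∧
      ∀ χ ∈ T, lin (χ : G → ℂ) f = 0 := by
    intro T
    induction T using Finset.induction_on with
    | empty => exact ⟨z, hz, hzR, by simp, by simp⟩
    | insert χ T hχT ih =>
      obtain ⟨f, hf, hfR, hfz, hfT⟩ := ih
      have hχ1 := Basic.irr_one_ne_zero χ.2
      set c : ℂ := lin (χ : G → ℂ) z / (χ : G → ℂ) 1 with hc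
      have hcR : MemLocalRing M c := memLocalRing_of_memLocalIdeal (hlin χ)
      refine ⟨fun g => conv z f g - c * f g, ?_, ?_, ?_, ?_⟩
      · intro g k
        change conv z f (k * g * k⁻¹) - c * f (k * g * k⁻¹) = conv z f g - c * f g
        rw [isClassFunction_conv hz hf g k, hf g k]
      · intro g
        exact memLocalRing_sub (memLocalRing_conv hzR hfR g) (memLocalRing_mul hcR (hfR g))
      · rw [Finset.card_insert_of_notMem hχT, pow_succ' (rd M z) (T.card + 1), ← hfz,
          ← rd_conv hzR hfR]
        refine ext_coeff fun g => ?_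
        rw [coeff_rd, coeff_rd]
        rw [redC_sub (memLocalRing_conv hzR hfR g) (memLocalRing_mul hcR (hfR g)),
          redC_mul hcR (hfR g), (redC_eq_zero_iff hcR).2 (hlin χ), zero_mul, sub_zero]
      · intro ψ hψ
        have hψ1 := Basic.irr_one_ne_zero ψ.2
        have h1 := lin_conv ψ.2 (f := z) (f' := f) hz
        have h2 : lin (ψ : G → ℂ) (fun g => conv z f g - c * f g) =
            lin (ψ : G → ℂ) (conv z f) - c * lin (ψ : G → ℂ) f := by
          rw [lin_def, lin_def, lin_def, Finset.mul_sum, ← Finset.sum_sub_distrib]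
          refine Finset.sum_congr rfl fun x _ => ?_
          ring
        rw [h2]
        rcases Finset.mem_insert.1 hψ with rfl | hψT
        · apply mul_right_cancel₀ hψ1
          rw [sub_mul, h1, hc]
          field_simp
          ring
        · rw [hfT ψ hψT, mul_zero] at h1
          rw [hfT ψ hψT, (mul_eq_zero.1 h1).resolve_right hψ1, mul_zero, sub_zero]
  obtain ⟨f, hf, -, hfz, hfT⟩ := key Finset.univ
  have hf0 : f = 0 := eq_zero_of_lin hf fun χ => hfT χ (Finset.mem_univ _)
  refine ⟨_, hfz.symm.trans ?_⟩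
  rw [hf0]
  refine ext_coeff fun g => ?_
  rw [coeff_rd]
  simp [redC_zero]

/-- The block idempotent over the residue field. -/
noncomputable def eB [Finite G] (M : Ideal AlgInt) [M.IsPrime] (B : Set (IrrCharacter G)) :
    MonoidAlgebra (ResField M) G :=
  rd M (blockCoeff B)

theorem coeff_eB [Finite G] (B : Set (IrrCharacter G)) (g : G) :
    (eB M B).coeff g = redC M (blockCoeff B g) := coeff_rd _ _

theorem eB_mem_center [Finite G] (B : Set (IrrCharacter G)) :
    eB M B ∈ Subalgebra.center (ResField M) (MonoidAlgebra (ResField M) G) :=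
  rd_mem_center (isClassFunction_blockCoeff B)

theorem eB_mul_self [Finite G] [Fact p.Prime] (hM : IsPModular p M) {B : Set (IrrCharacter G)}
    (hB : IsPBlock M B) : eB M B * eB M B = eB M B := by
  have := Fintype.ofFinite G
  have h1 : ∀ g, MemLocalRing M (blockCoeff B g) :=
    fun g => Cfsg.Agent.S0913.result p M hM B hB g
  unfold eB
  rw [← rd_conv h1 h1, conv_blockCoeff_self]

/-- Values of a central character of a class function with local values. -/
theorem memLocalRing_lin [Fintype G] {χ : IrrCharacter G} {f : G → ℂ}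
    (hf : IsClassFunction G f) (hfR : ∀ g, MemLocalRing M (f g)) :
    MemLocalRing M (lin (χ : G → ℂ) f / (χ : G → ℂ) 1) := by
  have h1 := ClassSum.memLocalRing_sum (isIrr_isClassFunction χ.2)
    (fun g => memLocalRing_of_isIntegral (CentralScalar.isIntegral_centralChar χ.2 g)) hf hfR
  have h2 : lin (χ : G → ℂ) f / (χ : G → ℂ) 1 =
      ∑ g : G, f g * ((χ : G → ℂ) g / (χ : G → ℂ) 1) := by
    rw [lin_def, Finset.sum_div]
    refine Finset.sum_congr rfl fun g _ => ?_
    ring
  rw [h2]
  exact h1

/-- The central character as a function of the reduction: if `rd M f = 0` then the value is in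
the local ideal. -/
theorem memLocalIdeal_lin [Fintype G] {χ : IrrCharacter G} {f : G → ℂ}
    (hf : IsClassFunction G f) (hfI : ∀ g, MemLocalIdeal M (f g)) :
    MemLocalIdeal M (lin (χ : G → ℂ) f / (χ : G → ℂ) 1) := by
  obtain ⟨T, hT⟩ := ClassSum.exists_reps (G := G)
  have h2 : lin (χ : G → ℂ) f / (χ : G → ℂ) 1 =
      ∑ g : G, f g * ((χ : G → ℂ) g / (χ : G → ℂ) 1) := by
    rw [lin_def, Finset.sum_div]
    refine Finset.sum_congr rfl fun g _ => ?_
    ring
  rw [h2, hT f _ hf]
  refine memLocalIdeal_sum fun t _ => ?_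
  rw [ClassSum.finsum_conj_div (isIrr_isClassFunction χ.2)]
  exact memLocalIdeal_mul_right (hfI t) (memLocalRing_of_isIntegral
    (CentralScalar.isIntegral_centralChar χ.2 t))

end Cfsg.Agent.H592.Reduce
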