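import Mathlib
import Cfsg.Prelude.Def_Blocks
import Cfsg.Agent.Characters.Core
import Cfsg.Agent.Characters.Clifford
import Cfsg.Agent.Blocks.Basic
import Cfsg.Agent.Blocks.Local
import Cfsg.Agent.Blocks.ClassSum
import Cfsg.Agent.Blocks.ConvCentral
import Cfsg.Agent.Blocks.BlockIdem
import Cfsg.Agent.Blocks.Central
import Cfsg.Agent.Blocks.CentralScalar
import Cfsg.Agent.Blocks.Covering
import Cfsg.Agent.Blocks.Over
import Cfsg.Agent.H592.KnorrAlg
import Cfsg.Agent.H592.Reduce
import Cfsg.Agent.H592.Defect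
import Cfsg.Agent.S0911
import Cfsg.Agent.S0913
import Cfsg.Agent.S0959
import Cfsg.Agent.S0964

/-!
# Knörr's theorem on defect groups of covering blocks (helper592)

`exists_coeff` : if `B` covers the block `b` of the normal subgroup `N` and `Q` is a defect group
of `b`, then the idempotent of `B` has a unit coefficient at some element of `C_G(Q)`.
`exists_conj_coeff` : if `P` is a `p`-subgroup on whose centralizer the idempotent of `B` has a
unit coefficient, then some conjugate of `b` has a unit coefficient at an element centralizing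
`P ∩ N`.
-/

set_option autoImplicit false
set_option linter.unusedSectionVars false

open Cfsg

namespace Cfsg.Agent.H592.Knorr

open Cfsg.Agent.Characters.Core Cfsg.Agent.Blocks Cfsg.Agent.Blocks.Local
open Cfsg.Agent.Blocks.ConvCentral (conv conv_apply lin lin_def lin_conv isClassFunction_conv)
open Cfsg.Agent.Blocks.Central (ofFun coeff_ofFun ext_coeff coeff_mul_eq_sum mem_center_iff)
open Cfsg.Agent.Blocks.BlockIdem (eq_zero_of_lin isClassFunction_blockCoeff lin_blockCoeff
  conv_blockCoeff_self)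
open Cfsg.Agent.Blocks.Covering (conjIrr conjIrr_apply sameBlock_conjIrr conjIrr_conjIrr
  conjIrr_one conjIrr_at_one)
open Cfsg.Agent.H592.Reduce Cfsg.Agent.H592.KnorrAlg
open scoped ComplexConjugate

variable {G : Type*} [Group G] {p : ℕ} [hp : Fact p.Prime] {M : Ideal AlgInt}

/-- The central characters of `B` vanish modulo `M` off the classes meeting `C(D)`. -/
theorem centralChar_memLocalIdeal [Finite G] (hM : IsPModular p M) {B : Set (IrrCharacter G)}
    (hB : IsPBlock M B) {D : Subgroup G} (hD : IsDefectGroup p M B D) {χ : IrrCharacter G}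
    (hχ : χ ∈ B) (h : G)
    (hh : ∀ c : G, IsConj h c → c ∉ Subgroup.centralizer (D : Set G)) :
    MemLocalIdeal M (centralChar (χ : G → ℂ) h) := by
  by_contra hcon
  obtain ⟨g, hg, S, hS⟩ := hD
  obtain ⟨x, Q', hle⟩ := (Cfsg.Agent.S0911.result p M hM B hB g hg S h).2 ⟨χ, hχ, hcon⟩
  rw [← hS] at hle
  refine hh (x⁻¹ * h * x) (isConj_iff.2 ⟨x⁻¹, by group⟩) ?_
  rw [Subgroup.mem_centralizer_iff]
  intro d hd
  have h1 : x * d * x⁻¹ ∈ Subgroup.centralizer ({h} : Set G) :=
    (Subgroup.map_subtype_le (Q' : Subgroup (Subgroup.centralizer ({h} : Set G))))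
      (hle ⟨d, hd, rfl⟩)
  rw [Subgroup.mem_centralizer_singleton_iff] at h1
  calc d * (x⁻¹ * h * x) = x⁻¹ * ((x * d * x⁻¹) * h) * x := by group
    _ = x⁻¹ * (h * (x * d * x⁻¹)) * x := by rw [h1]
    _ = x⁻¹ * h * x * d := by group

theorem exists_lift [M.IsMaximal] : ∃ σ : ResField M → ℂ, (∀ x, MemLocalRing M (σ x)) ∧
    (∀ x, redC M (σ x) = x) ∧ σ 0 = 0 := by
  classical
  choose a ha using fun x : ResField M => exists_algInt_redC_eq (M := M) x
  refine ⟨fun x => if x = 0 then 0 else (a x : ℂ), fun x => ?_, fun x => ?_, if_pos rfl⟩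
  · change MemLocalRing M (if x = 0 then 0 else (a x : ℂ))
    split_ifs
    · exact memLocalRing_zero
    · exact memLocalRing_algInt _
  · change redC M (if x = 0 then 0 else (a x : ℂ)) = x
    split_ifs with h
    · rw [h, redC_zero]
    · exact ha x

/-- Central elements vanishing on `C(D)` are nilpotent on the block with defect group `D`. -/
theorem isNilpotent_mul_eB [M.IsPrime] [Finite G] (hM : IsPModular p M)
    {B : Set (IrrCharacter G)}
    (hB : IsPBlock M B) {D : Subgroup G} (hD : IsDefectGroup p M B D)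
    {z : MonoidAlgebra (ResField M) G}
    (hz : z ∈ Subalgebra.center (ResField M) (MonoidAlgebra (ResField M) G))
    (hzD : ∀ c ∈ Subgroup.centralizer (D : Set G), z.coeff c = 0) :
    IsNilpotent (z * eB M B) := by
  classical
  have := Fintype.ofFinite G
  have : M.IsMaximal := isMaximal_of_isPModular hM
  obtain ⟨σ, hσR, hσ, hσ0⟩ := exists_lift (M := M)
  let F : G → ℂ := fun g => σ (z.coeff g)
  have hF : IsClassFunction G F := by
    intro g h
    change σ _ = σ _
    rw [mem_center_iff.1 hz g h]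
  have hFR : ∀ g, MemLocalRing M (F g) := fun g => hσR _
  have hFz : rd M F = z := by
    refine ext_coeff fun g => ?_
    rw [coeff_rd]
    exact hσ _
  have heR : ∀ g, MemLocalRing M (blockCoeff B g) :=
    fun g => Cfsg.Agent.S0913.result p M hM B hB g
  have h1 : z * eB M B = rd M (conv F (blockCoeff B)) := by
    rw [rd_conv hFR heR, hFz]
    rfl
  rw [h1]
  refine isNilpotent_rd (isClassFunction_conv hF (isClassFunction_blockCoeff B))
    (memLocalRing_conv hFR heR) fun χ => ?_
  have hχ1 := Basic.irr_one_ne_zero χ.2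
  have h2 := lin_conv χ.2 (f := F) (f' := blockCoeff B) hF
  rw [lin_blockCoeff] at h2
  by_cases hχ : χ ∈ B
  · rw [if_pos hχ] at h2
    have h3 : lin (χ : G → ℂ) (conv F (blockCoeff B)) = lin (χ : G → ℂ) F :=
      mul_right_cancel₀ hχ1 h2
    rw [h3]
    obtain ⟨T, hT⟩ := ClassSum.exists_reps (G := G)
    have h4 : lin (χ : G → ℂ) F / (χ : G → ℂ) 1 =
        ∑ g : G, F g * ((χ : G → ℂ) g / (χ : G → ℂ) 1) := by
      rw [lin_def, Finset.sum_div]
      refine Finset.sum_congr rfl fun g _ => ?_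
      ring
    rw [h4, hT F _ hF]
    refine memLocalIdeal_sum fun t _ => ?_
    rw [ClassSum.finsum_conj_div (isIrr_isClassFunction χ.2)]
    by_cases ht : ∃ c : G, IsConj t c ∧ c ∈ Subgroup.centralizer (D : Set G)
    · obtain ⟨c, hc, hcD⟩ := ht
      have h5 : F t = 0 := by
        rw [classFunction_apply_eq hF hc]
        change σ (z.coeff c) = 0
        rw [hzD c hcD, hσ0]
      rw [h5, zero_mul]
      exact memLocalIdeal_zero
    · push Not at ht
      exact memLocalIdeal_mul_left (hFR t) (centralChar_memLocalIdeal hM hB hD hχ t ht)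
  · rw [if_neg hχ, mul_zero] at h2
    rw [(mul_eq_zero.1 h2).resolve_right hχ1, zero_div]
    exact memLocalIdeal_zero

/-! ### Conjugates of a block of a normal subgroup -/

section Conj

variable (N : Subgroup G) [hN : N.Normal]

/-- The conjugate of a set of characters of `N`. -/
def conjSet (g : G) (b : Set (IrrCharacter N)) : Set (IrrCharacter N) :=
  {θ | conjIrr N g θ ∈ b}

theorem mem_conjSet {g : G} {b : Set (IrrCharacter N)} {θ : IrrCharacter N} :
    θ ∈ conjSet N g b ↔ conjIrr N g θ ∈ b := Iff.rfl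

theorem conjIrr_inv_conjIrr (g : G) (θ : IrrCharacter N) :
    conjIrr N g⁻¹ (conjIrr N g θ) = θ := by
  rw [conjIrr_conjIrr, mul_inv_cancel, conjIrr_one]

theorem conjIrr_conjIrr_inv (g : G) (θ : IrrCharacter N) :
    conjIrr N g (conjIrr N g⁻¹ θ) = θ := by
  rw [conjIrr_conjIrr, inv_mul_cancel, conjIrr_one]

theorem isPBlock_conjSet [M.IsPrime] (g : G) {b : Set (IrrCharacter N)} (hb : IsPBlock M b) :
    IsPBlock M (conjSet N g b) := by
  obtain ⟨θ, rfl⟩ := hb
  refine ⟨conjIrr N g⁻¹ θ, ?_⟩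
  ext ψ
  rw [mem_conjSet, Basic.mem_blockOf, Basic.mem_blockOf]
  constructor
  · intro h
    have h1 := sameBlock_conjIrr (N := N) g⁻¹ h
    rwa [conjIrr_inv_conjIrr] at h1
  · intro h
    have h1 := sameBlock_conjIrr (N := N) g h
    rwa [conjIrr_conjIrr_inv] at h1

theorem blockCoeff_conjSet (g : G) (b : Set (IrrCharacter N)) (n : N) :
    blockCoeff (conjSet N g b) n = blockCoeff b (MulAut.conjNormal g⁻¹ n) := by
  rw [Basic.blockCoeff_def, Basic.blockCoeff_def]
  congr 1
  refine finsum_mem_eq_of_bijOn (conjIrr N g) ⟨fun θ hθ => hθ, ?_, ?_⟩ ?_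
  · intro θ _ ψ _ h
    have := congrArg (conjIrr N g⁻¹) h
    rwa [conjIrr_inv_conjIrr, conjIrr_inv_conjIrr] at this
  · intro θ hθ
    refine ⟨conjIrr N g⁻¹ θ, ?_, conjIrr_conjIrr_inv N g θ⟩
    rw [mem_conjSet, conjIrr_conjIrr_inv]
    exact hθ
  · intro θ _
    rw [conjIrr_at_one, conjIrr_apply]
    congr 3
    rw [← MulAut.mul_apply, ← map_mul, mul_inv_cancel, map_one]
    rfl

theorem charDegree_conjIrr (g : G) (θ : IrrCharacter N) :
    charDegree (conjIrr N g θ : N → ℂ) = charDegree (θ : N → ℂ) := by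
  rw [Basic.charDegree_def, Basic.charDegree_def, conjIrr_at_one]

theorem blockDefect_conjSet (p : ℕ) (g : G) (b : Set (IrrCharacter N)) :
    blockDefect p (conjSet N g b) = blockDefect p b := by
  rw [Basic.blockDefect_def, Basic.blockDefect_def]
  congr 2
  ext m
  constructor
  · rintro ⟨θ, hθ, rfl⟩
    refine ⟨conjIrr N g θ, hθ, ?_⟩
    change (charDegree (conjIrr N g θ : N → ℂ)).factorization p = _
    rw [charDegree_conjIrr]
  · rintro ⟨θ, hθ, rfl⟩
    refine ⟨conjIrr N g⁻¹ θ, ?_, ?_⟩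
    · rw [mem_conjSet, conjIrr_conjIrr_inv]
      exact hθ
    · change (charDegree (conjIrr N g⁻¹ θ : N → ℂ)).factorization p = _
      rw [charDegree_conjIrr]

/-- The set of conjugates of `b`. -/
noncomputable def orb [Fintype G] (b : Set (IrrCharacter N)) : Finset (Set (IrrCharacter N)) :=
  haveI := Classical.decEq (Set (IrrCharacter N))
  Finset.univ.image fun g : G => conjSet N g b

theorem mem_orb [Fintype G] {b b' : Set (IrrCharacter N)} :
    b' ∈ orb N b ↔ ∃ g : G, b' = conjSet N g b := by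
  classical
  unfold orb
  rw [Finset.mem_image]
  constructor
  · rintro ⟨g, -, rfl⟩
    exact ⟨g, rfl⟩
  · rintro ⟨g, rfl⟩
    exact ⟨g, Finset.mem_univ _, rfl⟩

/-- The union of the conjugates of `b`. -/
def orbU [Fintype G] (b : Set (IrrCharacter N)) : Set (IrrCharacter N) :=
  ⋃ b' ∈ (orb N b : Set (Set (IrrCharacter N))), b'

theorem mem_orbU [Fintype G] {b : Set (IrrCharacter N)} {θ : IrrCharacter N} :
    θ ∈ orbU N b ↔ ∃ g : G, conjIrr N g θ ∈ b := by
  unfold orbU
  rw [Set.mem_iUnion₂]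
  constructor
  · rintro ⟨b', hb', hθ⟩
    obtain ⟨g, rfl⟩ := (mem_orb N).1 (Finset.mem_coe.1 hb')
    exact ⟨g, hθ⟩
  · rintro ⟨g, hg⟩
    exact ⟨conjSet N g b, Finset.mem_coe.2 ((mem_orb N).2 ⟨g, rfl⟩), hg⟩

theorem blockCoeff_orbU [Fintype G] [M.IsPrime] {b : Set (IrrCharacter N)} (hb : IsPBlock M b)
    (n : N) : blockCoeff (orbU N b) n = ∑ b' ∈ orb N b, blockCoeff b' n := by
  have hfin : Finite (IrrCharacter N) := finite_irr
  have h1 : ∑ᶠ θ ∈ orbU N b, (θ : N → ℂ) 1 * conj ((θ : N → ℂ) n) =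
      ∑ b' ∈ orb N b, ∑ᶠ θ ∈ b', (θ : N → ℂ) 1 * conj ((θ : N → ℂ) n) := by
    unfold orbU
    rw [finsum_mem_biUnion _ (Finset.finite_toSet _) (fun i _ => Set.toFinite i),
      finsum_mem_coe_finset]
    intro b₁ hb₁ b₂ hb₂ hne
    obtain ⟨g₁, rfl⟩ := (mem_orb N).1 (Finset.mem_coe.1 hb₁)
    obtain ⟨g₂, rfl⟩ := (mem_orb N).1 (Finset.mem_coe.1 hb₂)
    exact Basic.isPBlock_disjoint (isPBlock_conjSet N g₁ hb) (isPBlock_conjSet N g₂ hb) hne
  rw [Basic.blockCoeff_def, h1, Finset.mul_sum]
  refine Finset.sum_congr rfl fun b' _ => ?_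
  rw [Basic.blockCoeff_def]

theorem conjSet_orbU [Fintype G] (g : G) (b : Set (IrrCharacter N)) :
    conjSet N g (orbU N b) = orbU N b := by
  ext θ
  rw [mem_conjSet, mem_orbU, mem_orbU]
  constructor
  · rintro ⟨h, hh⟩
    rw [conjIrr_conjIrr] at hh
    exact ⟨_, hh⟩
  · rintro ⟨h, hh⟩
    refine ⟨g⁻¹ * h, ?_⟩
    rw [conjIrr_conjIrr, mul_inv_cancel_left]
    exact hh

theorem blockCoeff_orbU_conj [Fintype G] (b : Set (IrrCharacter N)) (g : G) (n : N) :
    blockCoeff (orbU N b) (MulAut.conjNormal g n) = blockCoeff (orbU N b) n := by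
  have h1 := blockCoeff_conjSet N g⁻¹ (orbU N b) n
  rw [conjSet_orbU, inv_inv] at h1
  exact h1.symm

theorem isClassFunction_extend [Fintype G] (b : Set (IrrCharacter N)) :
    IsClassFunction G (extendByZero N (blockCoeff (orbU N b))) := by
  intro x g
  by_cases hx : x ∈ N
  · have h1 : g * x * g⁻¹ ∈ N := hN.conj_mem x hx g
    rw [extendByZero_of_mem N _ h1, extendByZero_of_mem N _ hx,
      ← blockCoeff_orbU_conj N b g ⟨x, hx⟩]
    congr 1
  · have h1 : g * x * g⁻¹ ∉ N := by
      intro h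
      apply hx
      have h2 := hN.conj_mem _ h g⁻¹
      have h3 : g⁻¹ * (g * x * g⁻¹) * g⁻¹⁻¹ = x := by group
      rwa [h3] at h2
    rw [extendByZero_of_notMem N _ h1, extendByZero_of_notMem N _ hx]

/-- `e_B e_S = e_B`, `S` the union of the conjugates of a block covered by `B`. -/
theorem conv_extend [Fintype G] [Fintype N] (hM : IsPModular p M) {B : Set (IrrCharacter G)}
    (hB : IsPBlock M B) {b : Set (IrrCharacter N)} (hb : IsPBlock M b)
    (hcov : ∃ χ ∈ B, ∃ θ ∈ b, classInner (fun n : N => (χ : G → ℂ) n) (θ : N → ℂ) ≠ 0) :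
    conv (blockCoeff B) (extendByZero N (blockCoeff (orbU N b))) = blockCoeff B := by
  classical
  have hprime : M.IsPrime := isPrime_of_isPModular hM
  obtain ⟨χ₀, hχ₀, θ₀, hθ₀, hc₀⟩ := hcov
  have hcB := isClassFunction_blockCoeff (G := G) B
  have hcE := isClassFunction_extend N b
  have h : (fun g => conv (blockCoeff B) (extendByZero N (blockCoeff (orbU N b))) g -
      blockCoeff B g) = 0 := by
    refine eq_zero_of_lin (fun g k => ?_) fun ψ => ?_
    · change conv _ _ (k * g * k⁻¹) - blockCoeff B (k * g * k⁻¹) = conv _ _ g - blockCoeff B g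
      rw [isClassFunction_conv hcB hcE g k, hcB g k]
    · have h1 := lin_conv ψ.2 (f := blockCoeff B)
        (f' := extendByZero N (blockCoeff (orbU N b))) hcB
      have hψ1 := Basic.irr_one_ne_zero ψ.2
      have h2 : lin (ψ : G → ℂ) (fun g =>
          conv (blockCoeff B) (extendByZero N (blockCoeff (orbU N b))) g - blockCoeff B g) =
          lin (ψ : G → ℂ) (conv (blockCoeff B) (extendByZero N (blockCoeff (orbU N b)))) -
          lin (ψ : G → ℂ) (blockCoeff B) := by
        rw [lin_def, lin_def, lin_def, ← Finset.sum_sub_distrib]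
        refine Finset.sum_congr rfl fun x _ => ?_
        ring
      rw [h2]
      rw [lin_blockCoeff] at h1 ⊢
      by_cases hψ : ψ ∈ B
      · rw [if_pos hψ] at h1 ⊢
        -- a constituent of the restriction
        obtain ⟨c, hc⟩ : ∃ c : IrrCharacter N,
            classInner (fun n : N => (ψ : G → ℂ) n) (c : N → ℂ) ≠ 0 := by
          by_contra hcon
          push Not at hcon
          have h3 := classFunction_eq_zero (G := N) (f := fun n : N => (ψ : G → ℂ) n)
            (isCharacter_isClassFunction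
              (Cfsg.Agent.Characters.Clifford.isCharacter_restrict N (isIrr_isCharacter ψ.2)))
            (fun c hc => hcon ⟨c, hc⟩)
          exact isIrr_apply_one_ne_zero ψ.2 (congrFun h3 1)
        obtain ⟨g, θ', hθ', hconj⟩ := Cfsg.Agent.S0964.result p M hM N B hB b hb χ₀ hχ₀ θ₀ hθ₀
          hc₀ ψ hψ c hc
        have hcS : c ∈ orbU N b := by
          rw [mem_orbU]
          refine ⟨g⁻¹, ?_⟩
          have h3 : c = conjIrr N g θ' := Subtype.ext (funext fun n => hconj n)
          rw [h3, conjIrr_inv_conjIrr]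
          exact hθ'
        have h3 := Over.sum_mul_eq_of_over N ψ.2 c.2 hc (blockCoeff (orbU N b))
          (blockCoeff_orbU_conj N b)
        have h4 : ∑ n : N, blockCoeff (orbU N b) n * (c : N → ℂ) n = (c : N → ℂ) 1 := by
          have h5 := lin_blockCoeff (orbU N b) c
          rw [if_pos hcS] at h5
          exact h5
        rw [h4, div_self (Basic.irr_one_ne_zero c.2)] at h3
        have h5 : lin (ψ : G → ℂ) (extendByZero N (blockCoeff (orbU N b))) = (ψ : G → ℂ) 1 := by
          have h6 : lin (ψ : G → ℂ) (extendByZero N (blockCoeff (orbU N b))) =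
              ∑ n : N, blockCoeff (orbU N b) n * (ψ : G → ℂ) n := by
            rw [lin_def]
            have h7 : ∀ g : G, extendByZero N (blockCoeff (orbU N b)) g * (ψ : G → ℂ) g =
                if g ∈ N then extendByZero N (blockCoeff (orbU N b)) g * (ψ : G → ℂ) g
                  else 0 := by
              intro g
              split_ifs with hg
              · rfl
              · rw [extendByZero_of_notMem N _ hg, zero_mul]
            rw [Finset.sum_congr rfl fun g _ => h7 g, ← Finset.sum_filter]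
            rw [Finset.sum_subtype (Finset.univ.filter (· ∈ N)) (p := fun g => g ∈ N)
              (by intro x; simp)]
            refine Finset.sum_congr rfl fun n _ => ?_
            rw [extendByZero_of_mem N _ n.2]
          rw [h6]
          exact (div_eq_one_iff_eq hψ1).1 h3
        rw [h5] at h1
        rw [mul_right_cancel₀ hψ1 h1, sub_self]
      · rw [if_neg hψ, zero_mul] at h1
        rw [if_neg hψ, (mul_eq_zero.1 h1).resolve_right hψ1, sub_self]
  funext g
  exact sub_eq_zero.1 (congrFun h g)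

theorem inc_rd [Fintype G] [M.IsPrime] (f : N → ℂ) :
    inc N (rd M f) = rd M (extendByZero N f) := by
  refine ext_coeff fun g => ?_
  rw [coeff_rd]
  by_cases hg : g ∈ N
  · rw [extendByZero_of_mem N f hg]
    exact (coeff_inc N (rd M f) ⟨g, hg⟩).trans (coeff_rd _ _)
  · rw [extendByZero_of_notMem N f hg, coeff_inc_of_notMem N _ hg, redC_zero]

/-- The reduction of `e_B = e_B ∑ e_{b'}`. -/
theorem eB_eq_sum [Fintype G] [Fintype N] [M.IsPrime] (hM : IsPModular p M)
    {B : Set (IrrCharacter G)}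
    (hB : IsPBlock M B) {b : Set (IrrCharacter N)} (hb : IsPBlock M b)
    (hcov : ∃ χ ∈ B, ∃ θ ∈ b, classInner (fun n : N => (χ : G → ℂ) n) (θ : N → ℂ) ≠ 0) :
    eB M B = ∑ b' ∈ orb N b, eB M B * inc N (eB M b') := by
  have hBR : ∀ g, MemLocalRing M (blockCoeff B g) :=
    fun g => Cfsg.Agent.S0913.result p M hM B hB g
  have hbR : ∀ b' ∈ orb N b, ∀ n, MemLocalRing M (blockCoeff b' n) := by
    intro b' hb' n
    obtain ⟨g, rfl⟩ := (mem_orb N).1 hb'
    exact Cfsg.Agent.S0913.result p M hM _ (isPBlock_conjSet N g hb) n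
  have hSR : ∀ n, MemLocalRing M (blockCoeff (orbU N b) n) := by
    intro n
    rw [blockCoeff_orbU N hb n]
    exact memLocalRing_sum fun b' hb' => hbR b' hb' n
  have hER : ∀ g, MemLocalRing M (extendByZero N (blockCoeff (orbU N b)) g) := by
    intro g
    by_cases hg : g ∈ N
    · rw [extendByZero_of_mem N _ hg]
      exact hSR _
    · rw [extendByZero_of_notMem N _ hg]
      exact memLocalRing_zero
  have h1 : eB M B = eB M B * inc N (eB M (orbU N b)) := by
    unfold eB
    rw [inc_rd, ← rd_conv hBR hER, conv_extend N hM hB hb hcov]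
  have h2 : eB M (orbU N b) = ∑ b' ∈ orb N b, eB M b' := by
    refine ext_coeff fun n => ?_
    rw [coeff_finsetSum, coeff_eB, blockCoeff_orbU N hb n,
      redC_sum fun b' hb' => hbR b' hb' n]
    exact Finset.sum_congr rfl fun b' _ => (coeff_eB _ _).symm
  rw [← Finset.mul_sum, ← map_sum, ← h2]
  exact h1

theorem eB_ne_zero [Finite G] [M.IsPrime] (hM : IsPModular p M) {B : Set (IrrCharacter G)}
    (hB : IsPBlock M B) : eB M B ≠ 0 := by
  intro h
  obtain ⟨g, hg⟩ := Cfsg.Agent.S0906.result p M hM B hB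
  have h1 : (eB M B).coeff g = 0 := by rw [h]; simp
  rw [coeff_eB, redC_eq_zero_iff hg.1] at h1
  exact hg.2.1 h1

theorem inv_eB [Fintype G] [M.IsPrime] (B : Set (IrrCharacter G)) : Inv N (eB M B) := by
  intro n _ g
  exact mem_center_iff.1 (eB_mem_center B) g n

theorem inv_inc_eB [Fintype G] [M.IsPrime] (b : Set (IrrCharacter N)) :
    Inv N (inc N (eB M b)) := inv_inc N (eB_mem_center b)

/-- The product with a conjugate of `e_b` is the conjugate of the product. -/
theorem mul_inc_conjSet_eq_zero [Fintype G] [M.IsPrime] (B : Set (IrrCharacter G))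
    (b : Set (IrrCharacter N)) (g : G) (h : eB M B * inc N (eB M b) = 0) :
    eB M B * inc N (eB M (conjSet N g b)) = 0 := by
  refine ext_coeff fun x => ?_
  have h1 : (eB M B * inc N (eB M (conjSet N g b))).coeff x =
      (eB M B * inc N (eB M b)).coeff (g⁻¹ * x * g) := by
    rw [coeff_mul_eq_sum, coeff_mul_eq_sum]
    refine Fintype.sum_equiv (MulAut.conj g⁻¹).toEquiv _ _ fun y => ?_
    have h2 : (eB M B).coeff ((MulAut.conj g⁻¹).toEquiv y) = (eB M B).coeff y :=
      mem_center_iff.1 (eB_mem_center B) y g⁻¹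
    have h3 : ((MulAut.conj g⁻¹).toEquiv y)⁻¹ * (g⁻¹ * x * g) = g⁻¹ * (y⁻¹ * x) * g := by
      change (g⁻¹ * y * g⁻¹⁻¹)⁻¹ * (g⁻¹ * x * g) = g⁻¹ * (y⁻¹ * x) * g
      group
    rw [h2, h3]
    congr 1
    by_cases hy : y⁻¹ * x ∈ N
    · have hy' : g⁻¹ * (y⁻¹ * x) * g ∈ N := by
        have := hN.conj_mem _ hy g⁻¹
        rwa [inv_inv] at this
      have e1 := coeff_inc N (eB M (conjSet N g b)) ⟨_, hy⟩
      have e2 := coeff_inc N (eB M b) ⟨_, hy'⟩
      rw [coeff_eB, blockCoeff_conjSet] at e1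
      rw [coeff_eB] at e2
      refine e1.trans (Eq.trans ?_ e2.symm)
      congr 2
      apply Subtype.ext
      rw [MulAut.conjNormal_apply, inv_inv]
    · have hy' : g⁻¹ * (y⁻¹ * x) * g ∉ N := by
        intro h4
        apply hy
        have := hN.conj_mem _ h4 g
        have h5 : g * (g⁻¹ * (y⁻¹ * x) * g) * g⁻¹ = y⁻¹ * x := by group
        rwa [h5] at this
      rw [coeff_inc_of_notMem N _ hy, coeff_inc_of_notMem N _ hy']
  rw [h1, h]
  simp

theorem eB_mul_inc_ne_zero [Fintype G] [Fintype N] [M.IsPrime] (hM : IsPModular p M)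
    {B : Set (IrrCharacter G)}
    (hB : IsPBlock M B) {b : Set (IrrCharacter N)} (hb : IsPBlock M b)
    (hcov : ∃ χ ∈ B, ∃ θ ∈ b, classInner (fun n : N => (χ : G → ℂ) n) (θ : N → ℂ) ≠ 0) :
    eB M B * inc N (eB M b) ≠ 0 := by
  intro h
  apply eB_ne_zero hM hB
  rw [eB_eq_sum N hM hB hb hcov]
  refine Finset.sum_eq_zero fun b' hb' => ?_
  obtain ⟨g, rfl⟩ := (mem_orb N).1 hb'
  exact mul_inc_conjSet_eq_zero N B b g h

/-- **Knörr, first half.** -/
theorem exists_coeff [Fintype G] [Fintype N] (hM : IsPModular p M)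
    {b : Set (IrrCharacter N)} (hb : IsPBlock M b) {Q : Subgroup G} (hQN : Q ≤ N)
    (hQ : IsDefectGroup p M b (Q.subgroupOf N)) {B : Set (IrrCharacter G)} (hB : IsPBlock M B)
    (hcov : ∃ χ ∈ B, ∃ θ ∈ b, classInner (fun n : N => (χ : G → ℂ) n) (θ : N → ℂ) ≠ 0) :
    ∃ c ∈ Subgroup.centralizer (Q : Set G), ¬ MemLocalIdeal M (blockCoeff B c) := by
  classical
  have hprime : M.IsPrime := isPrime_of_isPModular hM
  have hchar : CharP (ResField M) p := charP_resField hM
  by_contra hcon
  push Not at hcon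
  have hBR : ∀ g, MemLocalRing M (blockCoeff B g) :=
    fun g => Cfsg.Agent.S0913.result p M hM B hB g
  have hQp : IsPGroup p Q := by
    have h1 := Defect.isPGroup_of_isDefectGroup hQ
    exact h1.of_equiv (Subgroup.subgroupOfEquivOfLe hQN)
  have hvan : Van Q (eB M B) := by
    intro c hc
    rw [coeff_eB, redC_eq_zero_iff (hBR c)]
    exact hcon c hc
  have hne := eB_mul_inc_ne_zero N hM hB hb hcov
  apply hne
  let f : Subalgebra.center (ResField M) (MonoidAlgebra (ResField M) N) :=
    ⟨eB M b, eB_mem_center b⟩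
  have hfinc : incZ N f = inc N (eB M b) := incZ_apply N f
  have hinvB : Inv N (eB M B) := inv_eB N B
  have hinvb : Inv N (inc N (eB M b)) := inv_inc_eB N b
  have hcomm : inc N (eB M b) * eB M B = eB M B * inc N (eB M b) :=
    inc_mul_comm N (eB M b) hinvB
  have hbb : inc N (eB M b) * inc N (eB M b) = inc N (eB M b) := by
    rw [← map_mul, eB_mul_self hM hb]
  refine eq_zero_of_van N hQN hQp f (fun z hz => ?_) (hinvB.mul hinvb)
    (Van.mul hQN hQp hinvB hvan hinvb) ?_ ?_
  · have h1 : IsNilpotent ((z : MonoidAlgebra (ResField M) N) * eB M b) := by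
      refine isNilpotent_mul_eB hM hb hQ z.2 fun c hc => hz c ?_
      rw [Subgroup.mem_centralizer_iff] at hc ⊢
      intro u hu
      have h2 := hc ⟨u, hQN hu⟩ (Subgroup.mem_subgroupOf.2 hu)
      exact congrArg Subtype.val h2
    obtain ⟨n, hn⟩ := h1
    refine ⟨n, Subtype.ext ?_⟩
    rw [Subalgebra.coe_pow]
    exact hn
  · calc eB M B * inc N (eB M b) * (eB M B * inc N (eB M b))
        = eB M B * (inc N (eB M b) * eB M B) * inc N (eB M b) := by noncomm_ring
      _ = eB M B * eB M B * (inc N (eB M b) * inc N (eB M b)) := by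
          rw [hcomm]; noncomm_ring
      _ = eB M B * inc N (eB M b) := by rw [hbb, eB_mul_self hM hB]
  · rw [hfinc, mul_assoc, hbb]

/-- **Knörr, second half.** -/
theorem exists_conj_coeff [Fintype G] [Fintype N] (hM : IsPModular p M)
    {b : Set (IrrCharacter N)} (hb : IsPBlock M b) {B : Set (IrrCharacter G)}
    (hB : IsPBlock M B)
    (hcov : ∃ χ ∈ B, ∃ θ ∈ b, classInner (fun n : N => (χ : G → ℂ) n) (θ : N → ℂ) ≠ 0)
    {P : Subgroup G} (hP : IsPGroup p P) {c : G} (hc : c ∈ Subgroup.centralizer (P : Set G))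
    (hcB : ¬ MemLocalIdeal M (blockCoeff B c)) :
    ∃ g : G, ∃ n : N, n ∈ Subgroup.centralizer (((P ⊓ N).subgroupOf N : Subgroup N) : Set N) ∧
      ¬ MemLocalIdeal M (blockCoeff (conjSet N g b) n) := by
  classical
  have hprime : M.IsPrime := isPrime_of_isPModular hM
  have hchar : CharP (ResField M) p := charP_resField hM
  by_contra hcon
  push Not at hcon
  have hBR : ∀ g, MemLocalRing M (blockCoeff B g) :=
    fun g => Cfsg.Agent.S0913.result p M hM B hB g
  have hPN : IsPGroup p (P ⊓ N : Subgroup G) :=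
    hP.to_le inf_le_left
  apply hcB
  rw [← redC_eq_zero_iff (hBR c), ← coeff_eB]
  rw [eB_eq_sum N hM hB hb hcov, coeff_finsetSum]
  refine Finset.sum_eq_zero fun b' hb' => ?_
  obtain ⟨g, rfl⟩ := (mem_orb N).1 hb'
  have hinvB : Inv N (eB M B) := inv_eB N B
  rw [← inc_mul_comm N (eB M (conjSet N g b)) hinvB]
  refine Van.mul (Q := P ⊓ N) (N := N) inf_le_right hPN (inv_inc_eB N _) ?_ hinvB c ?_
  · intro x hx
    by_cases hxN : x ∈ N
    · have h1 := coeff_inc N (eB M (conjSet N g b)) ⟨x, hxN⟩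
      refine h1.trans ?_
      rw [coeff_eB, redC_eq_zero_iff
        (Cfsg.Agent.S0913.result p M hM _ (isPBlock_conjSet N g hb) _)]
      refine hcon g ⟨x, hxN⟩ ?_
      rw [Subgroup.mem_centralizer_iff]
      intro u hu
      apply Subtype.ext
      exact Subgroup.mem_centralizer_iff.1 hx (u : G) (Subgroup.mem_subgroupOf.1 hu)
    · exact coeff_inc_of_notMem N _ hxN
  · rw [Subgroup.mem_centralizer_iff] at hc ⊢
    intro u hu
    exact hc u hu.1

end Conj

end Cfsg.Agent.H592.Knorr
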