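import Cfsg.Agent.H592.HarCover

/-!
# The correspondence of characters for a cover
-/

set_option autoImplicit false
open Cfsg

namespace Cfsg.Agent.H592.Har

open Cfsg.Agent Cfsg.Agent.Characters.Core Cfsg.Agent.OddOrderCharacters.IndRes
open scoped ComplexConjugate

universe u

/-- A cover of a character triple. -/
structure Cover (p : ℕ) {G : Type u} [Group G] (N : Subgroup G) (θ : N → ℂ) (D : Type u)
    [Group D] where
  /-- the projection -/
  π : D →* G
  /-- the section over `N` -/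
  s : N →* D
  /-- the extension of `θ` -/
  ψ : D → ℂ
  surj : Function.Surjective π
  ker_le : π.ker ≤ Subgroup.center D
  ker_p : ¬ p ∣ Nat.card π.ker
  sec : ∀ n, π (s n) = n
  normal : s.range.Normal
  irr : IsIrrCharacter D ψ
  ext : ∀ n, ψ (s n) = θ n
  ne : ∀ z ∈ π.ker, ψ z ≠ 0

attribute [instance] Cover.normal

namespace Cover

variable {p : ℕ} {G : Type u} [Group G] {N : Subgroup G} {θ : N → ℂ} {D : Type u} [Group D]
  (C : Cover p N θ D)

theorem s_injective : Function.Injective C.s := by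
  intro a b h
  apply Subtype.ext
  rw [← C.sec a, ← C.sec b, h]

/-- `N` is isomorphic to its image. -/
noncomputable def e : N ≃* C.s.range := MonoidHom.ofInjective C.s_injective

theorem e_apply (n : N) : ((C.e n : C.s.range) : D) = C.s n := rfl

theorem isIrr_res (hθ : IsIrrCharacter N θ) :
    IsIrrCharacter C.s.range (fun n : C.s.range => C.ψ n) := by
  have h1 : (fun n : C.s.range => C.ψ n) = θ ∘ C.e.symm.toMonoidHom := by
    funext n
    obtain ⟨m, rfl⟩ := C.e.surjective n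
    show C.ψ (C.e m : C.s.range) = θ (C.e.symm (C.e m))
    rw [e_apply, C.ext, MulEquiv.symm_apply_apply]
  rw [h1]
  exact isIrr_comp C.e.symm.toMonoidHom C.e.symm.surjective hθ

/-- The character of `D ⧸ s(N)` corresponding to `χ`. -/
theorem exists_star [Finite G] [Finite D] [Fintype N] (hθ : IsIrrCharacter N θ)
    (χ : IrrCharacter G) (h : classInner (fun n : N => (χ : G → ℂ) n) θ ≠ 0) :
    ∃ η : IrrCharacter (D ⧸ C.s.range),
      ∀ x : D, (χ : G → ℂ) (C.π x) = C.ψ x * (η : D ⧸ C.s.range → ℂ) (x : D ⧸ C.s.range) := by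
  classical
  have := Fintype.ofFinite D
  have := Fintype.ofFinite C.s.range
  have h1 : IsIrrCharacter D ((χ : G → ℂ) ∘ C.π) := isIrr_comp C.π C.surj χ.2
  have h2 : classInner (fun n : C.s.range => ((χ : G → ℂ) ∘ C.π) n)
      (fun n : C.s.range => C.ψ n) ≠ 0 := by
    rw [← Characters.Clifford.classInner_comp_mulEquiv C.e]
    have e1 : (fun n : C.s.range => ((χ : G → ℂ) ∘ C.π) n) ∘ C.e =
        fun n : N => (χ : G → ℂ) n := by
      funext n
      show (χ : G → ℂ) (C.π (C.s n)) = _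
      rw [C.sec]
    have e2 : (fun n : C.s.range => C.ψ n) ∘ C.e = θ := by
      funext n
      exact C.ext n
    rw [e1, e2]
    exact h
  obtain ⟨η₀, hη₀, hconst, heq⟩ := CharactersDeep.CosetAverage.exists_irr_mul C.s.range C.ψ C.irr
    (C.isIrr_res hθ) _ h1 h2
  have h3 : ∑ n : C.s.range, η₀ n ≠ 0 := by
    have h4 : ∀ n : C.s.range, η₀ n = η₀ 1 := by
      intro n
      have := hconst n 1
      rwa [mul_one] at this
    rw [Finset.sum_congr rfl (fun n _ => h4 n), Finset.sum_const, nsmul_eq_mul]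
    refine mul_ne_zero ?_ (isIrr_apply_one_ne_zero hη₀)
    rw [Finset.card_univ]
    exact_mod_cast Fintype.card_ne_zero
  obtain ⟨η, hη⟩ := Blocks.Deflate.exists_deflation C.s.range η₀ hη₀ h3
  refine ⟨η, fun x => ?_⟩
  have h4 := congrFun heq x
  rw [Pi.mul_apply, hη] at h4
  exact h4

theorem exists_ne [Finite D] (hθ : IsIrrCharacter N θ) (x : D) : ∃ n : N, C.ψ (C.s n * x) ≠ 0 := by
  classical
  have := Fintype.ofFinite D
  have := Fintype.ofFinite C.s.range
  by_contra hcon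
  push Not at hcon
  have h1 := CharactersDeep.CosetAverage.cosetAverage_self C.s.range C.ψ C.irr (C.isIrr_res hθ) x
  rw [Finset.sum_eq_zero, mul_zero] at h1
  · exact zero_ne_one h1
  · rintro ⟨_, n, rfl⟩ _
    show C.ψ (C.s n * x) * _ = 0
    rw [hcon n, zero_mul]

theorem mk_mul (n : N) (x : D) : ((C.s n * x : D) : D ⧸ C.s.range) = x := by
  have h : ((C.s n : D) : D ⧸ C.s.range) = 1 := (QuotientGroup.eq_one_iff _).2 ⟨n, rfl⟩
  rw [QuotientGroup.mk_mul, h, one_mul]

theorem star_unique [Finite D] (hθ : IsIrrCharacter N θ) {η η' : D ⧸ C.s.range → ℂ}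
    (h : ∀ x : D, C.ψ x * η x = C.ψ x * η' x) : η = η' := by
  funext q
  obtain ⟨x, rfl⟩ := QuotientGroup.mk_surjective q
  obtain ⟨n, hn⟩ := C.exists_ne hθ x
  have h1 := h (C.s n * x)
  rw [C.mk_mul] at h1
  exact mul_left_cancel₀ hn h1

/-- The set corresponding to a set of characters over `θ`. -/
def star (X : Set (IrrCharacter G)) : Set (IrrCharacter (D ⧸ C.s.range)) :=
  {η | ∃ χ ∈ X, ∀ x : D, (χ : G → ℂ) (C.π x) = C.ψ x * (η : D ⧸ C.s.range → ℂ) x}

theorem fS_star [Finite G] [Finite D] [Fintype N] (hθ : IsIrrCharacter N θ)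
    {X : Set (IrrCharacter G)}
    (hX : ∀ χ ∈ X, classInner (fun n : N => (χ : G → ℂ) n) θ ≠ 0) (x : D) :
    C.ψ x * C.ψ 1 * fS (C.star X) (x : D ⧸ C.s.range) = fS X (C.π x) := by
  classical
  have h1 : ∀ χ : IrrCharacter G, ∃ η : IrrCharacter (D ⧸ C.s.range), χ ∈ X →
      ∀ x : D, (χ : G → ℂ) (C.π x) = C.ψ x * (η : D ⧸ C.s.range → ℂ) x := by
    intro χ
    by_cases h : χ ∈ X
    · obtain ⟨η, hη⟩ := C.exists_star hθ χ (hX χ h)
      exact ⟨η, fun _ => hη⟩
    · exact ⟨⟨1, isIrr_one⟩, fun h' => absurd h' h⟩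
  choose f hf using h1
  have hbij : Set.BijOn f X (C.star X) := by
    refine ⟨fun χ hχ => ⟨χ, hχ, hf χ hχ⟩, fun χ hχ χ' hχ' h => ?_, fun η hη => ?_⟩
    · apply Subtype.ext
      funext g
      obtain ⟨x, rfl⟩ := C.surj g
      rw [hf χ hχ, hf χ' hχ', h]
    · obtain ⟨χ, hχ, hη'⟩ := hη
      refine ⟨χ, hχ, Subtype.ext (C.star_unique hθ fun x => ?_)⟩
      rw [← hf χ hχ, ← hη']
  unfold fS
  rw [mul_finsum_mem]
  symm
  refine finsum_mem_eq_of_bijOn f hbij fun χ hχ => ?_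
  have h2 := hf χ hχ 1
  rw [map_one] at h2
  rw [h2, hf χ hχ x, QuotientGroup.mk_one]
  ring

theorem star_disjoint {X Y : Set (IrrCharacter G)} (h : Disjoint X Y) :
    Disjoint (C.star X) (C.star Y) := by
  rw [Set.disjoint_left]
  rintro η ⟨χ, hχ, h1⟩ ⟨χ', hχ', h2⟩
  have h3 : χ = χ' := by
    apply Subtype.ext
    funext g
    obtain ⟨x, rfl⟩ := C.surj g
    rw [h1, h2]
  subst h3
  exact Set.disjoint_left.1 h hχ hχ'

theorem star_nonempty [Finite G] [Finite D] [Fintype N] (hθ : IsIrrCharacter N θ)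
    {X : Set (IrrCharacter G)}
    (hX : ∀ χ ∈ X, classInner (fun n : N => (χ : G → ℂ) n) θ ≠ 0) (h : X.Nonempty) :
    (C.star X).Nonempty := by
  obtain ⟨χ, hχ⟩ := h
  obtain ⟨η, hη⟩ := C.exists_star hθ χ (hX χ hχ)
  exact ⟨η, χ, hχ, hη⟩

/-- The image of the kernel of the projection. -/
def Z : Subgroup (D ⧸ C.s.range) := C.π.ker.map (QuotientGroup.mk' C.s.range)

theorem star_lin {X Y : Set (IrrCharacter G)} : ∀ n ∈ C.Z, ∃ ζ : ℂ,
    ∀ η ∈ C.star X ∪ C.star Y,
      (η : D ⧸ C.s.range → ℂ) n = ζ * (η : D ⧸ C.s.range → ℂ) 1 := by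
  rintro _ ⟨z, hz, rfl⟩
  have hz0 := C.ne z hz
  refine ⟨C.ψ 1 / C.ψ z, fun η hη => ?_⟩
  have h1 : ∃ χ : IrrCharacter G, ∀ x : D, (χ : G → ℂ) (C.π x) =
      C.ψ x * (η : D ⧸ C.s.range → ℂ) x := by
    rcases hη with ⟨χ, -, h⟩ | ⟨χ, -, h⟩
    · exact ⟨χ, h⟩
    · exact ⟨χ, h⟩
  obtain ⟨χ, hχ⟩ := h1
  have h2 := hχ z
  have h3 := hχ 1
  rw [MonoidHom.mem_ker.1 hz] at h2
  rw [map_one, h2, QuotientGroup.mk_one] at h3
  show (η : D ⧸ C.s.range → ℂ) (z : D ⧸ C.s.range) = _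
  field_simp
  linear_combination h3

theorem mem_Z_of_mem {x : D} (h : C.π x ∈ N) : (x : D ⧸ C.s.range) ∈ C.Z := by
  refine ⟨x * (C.s ⟨C.π x, h⟩)⁻¹, ?_, ?_⟩
  · show C.π _ = 1
    rw [map_mul, map_inv, C.sec, mul_inv_cancel]
  · show ((x * (C.s ⟨C.π x, h⟩)⁻¹ : D) : D ⧸ C.s.range) = x
    exact QuotientGroup.mk_mul_of_mem _ (inv_mem ⟨_, rfl⟩)

theorem Z_le_center : C.Z ≤ Subgroup.center (D ⧸ C.s.range) := by
  rintro _ ⟨z, hz, rfl⟩
  rw [Subgroup.mem_center_iff]
  intro q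
  obtain ⟨x, rfl⟩ := QuotientGroup.mk_surjective q
  show ((x * z : D) : D ⧸ C.s.range) = ((z * x : D) : D ⧸ C.s.range)
  rw [Subgroup.mem_center_iff.1 (C.ker_le hz) x]

theorem star_zero [Finite G] [Finite D] [Fintype N] (hθ : IsIrrCharacter N θ)
    {X : Set (IrrCharacter G)}
    (hX : ∀ χ ∈ X, classInner (fun n : N => (χ : G → ℂ) n) θ ≠ 0) (x : D)
    (h : ∀ n : N, fS X (n * C.π x) = 0) : fS (C.star X) (x : D ⧸ C.s.range) = 0 := by
  obtain ⟨n, hn⟩ := C.exists_ne hθ x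
  have h1 := C.fS_star hθ hX (C.s n * x)
  rw [map_mul, C.sec, h n, C.mk_mul] at h1
  exact (mul_eq_zero.1 h1).resolve_left (mul_ne_zero hn (isIrr_apply_one_ne_zero C.irr))

theorem star_sum [Finite G] [Finite D] [Fintype N] (hθ : IsIrrCharacter N θ)
    {X Y : Set (IrrCharacter G)}
    (hX : ∀ χ ∈ X, classInner (fun n : N => (χ : G → ℂ) n) θ ≠ 0)
    (hY : ∀ χ ∈ Y, classInner (fun n : N => (χ : G → ℂ) n) θ ≠ 0)
    (h : ∀ g, g ∉ N → fS X g + fS Y g = 0) :
    ∀ q, q ∉ C.Z → fS (C.star X) q + fS (C.star Y) q = 0 := by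
  intro q hq
  obtain ⟨x, rfl⟩ := QuotientGroup.mk_surjective q
  obtain ⟨n, hn⟩ := C.exists_ne hθ x
  have h1 := C.fS_star hθ hX (C.s n * x)
  have h2 := C.fS_star hθ hY (C.s n * x)
  rw [map_mul, C.sec, C.mk_mul] at h1 h2
  have h3 : (n : G) * C.π x ∉ N := by
    intro h4
    apply hq
    apply C.mem_Z_of_mem
    have h5 := N.mul_mem (N.inv_mem n.2) h4
    rwa [inv_mul_cancel_left] at h5
  have h4 := h _ h3
  rw [← h1, ← h2, ← mul_add] at h4
  exact (mul_eq_zero.1 h4).resolve_left (mul_ne_zero hn (isIrr_apply_one_ne_zero C.irr))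

theorem star_van [Finite G] [Finite D] [Fintype N] [hN : N.Normal] [Fact p.Prime]
    (hθ : IsIrrCharacter N θ) {X : Set (IrrCharacter G)}
    (hX : ∀ χ ∈ X, classInner (fun n : N => (χ : G → ℂ) n) θ ≠ 0) (h : Van p (fS X)) :
    Van p (fS (C.star X)) := by
  have hp : p.Prime := Fact.out
  intro q hq
  obtain ⟨x, rfl⟩ := QuotientGroup.mk_surjective q
  apply C.star_zero hθ hX
  intro n
  apply h
  -- the order of the image of `x` modulo `N`
  set m := orderOf (C.π x : G ⧸ N) with hm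
  have h1 : C.π (x ^ m) ∈ N := by
    rw [map_pow, ← QuotientGroup.eq_one_iff, QuotientGroup.mk_pow, hm, pow_orderOf_eq_one]
  obtain ⟨z, hz, hzx⟩ := C.mem_Z_of_mem h1
  have h2 : orderOf (x : D ⧸ C.s.range) ∣ m * Nat.card C.π.ker := by
    apply orderOf_dvd_of_pow_eq_one
    rw [pow_mul, ← QuotientGroup.mk_pow, ← hzx, ← map_pow]
    have h3 := pow_card_eq_one' (G := C.π.ker) (x := ⟨z, hz⟩)
    have h4 : z ^ Nat.card C.π.ker = 1 := congrArg Subtype.val h3
    rw [h4, map_one]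
  have h3 : p ∣ m := (hp.dvd_mul.1 (hq.trans h2)).resolve_right C.ker_p
  refine h3.trans ?_
  have h4 : (((n : G) * C.π x : G) : G ⧸ N) = C.π x := by
    rw [QuotientGroup.mk_mul, (QuotientGroup.eq_one_iff (n : G)).2 n.2, one_mul]
  rw [hm, ← h4]
  exact orderOf_map_dvd (QuotientGroup.mk' N) _

/-! ### Group theory of the cover -/

theorem isPSolvable [Finite D] [Fact p.Prime] (hsolv : IsPSolvable p G) :
    IsPSolvable p (D ⧸ C.s.range) := by
  have hp : p.Prime := Fact.out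
  have h1 : IsPSolvable p (D ⧸ C.π.ker) :=
    (PLocal.PSolvable.isPSolvable_congr (QuotientGroup.quotientKerEquivOfSurjective C.π C.surj)).2
      hsolv
  have h2 : IsPSolvable p D := Lib.PSolvable.IsPSolvable_of_quotient p C.π.ker
    (Or.inr (hp.coprime_iff_not_dvd.2 C.ker_p).symm) h1
  exact PLocal.PSolvable.isPSolvable_quotient h2 _

theorem pPrimeCore_le [Finite G] [Finite D] [Fact p.Prime] (hN : N = pPrimeCore p G) :
    pPrimeCore p (D ⧸ C.s.range) ≤ C.Z := by
  have hp : p.Prime := Fact.out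
  have hn := Lib.Cores.pPrimeCore_normal (G := D ⧸ C.s.range) p
  set L : Subgroup D := (pPrimeCore p (D ⧸ C.s.range)).comap (QuotientGroup.mk' C.s.range) with hL
  have hNp : ¬ p ∣ Nat.card N := by
    rw [hN]
    exact hp.coprime_iff_not_dvd.1 (Lib.Cores.pPrimeCore_coprime (G := G) p).symm
  have hLp : ¬ p ∣ Nat.card L := by
    intro h
    have h1 : Nat.card L = Nat.card C.s.range * Nat.card (pPrimeCore p (D ⧸ C.s.range)) := by
      have e1 : L.index = (pPrimeCore p (D ⧸ C.s.range)).index :=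
        Subgroup.index_comap_of_surjective _ (QuotientGroup.mk'_surjective _)
      have e2 := Subgroup.card_mul_index L
      have e3 := Subgroup.card_mul_index (pPrimeCore p (D ⧸ C.s.range))
      have e4 : Nat.card C.s.range * Nat.card (D ⧸ C.s.range) = Nat.card D :=
        Subgroup.card_mul_index C.s.range
      have e5 : (pPrimeCore p (D ⧸ C.s.range)).index ≠ 0 := Subgroup.index_ne_zero_of_finite
      rw [← e4, ← e3, e1, ← mul_assoc] at e2
      exact Nat.eq_of_mul_eq_mul_right (Nat.pos_of_ne_zero e5) e2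
    rw [h1] at h
    rcases hp.dvd_mul.1 h with h2 | h2
    · apply hNp
      rwa [Nat.card_congr C.e.toEquiv]
    · exact hp.coprime_iff_not_dvd.1
        (Lib.Cores.pPrimeCore_coprime (G := D ⧸ C.s.range) p).symm h2
  have hLn : L.Normal := inferInstance
  have h2 : L.map C.π ≤ N := by
    refine le_trans ?_ hN.ge
    refine Lib.Cores.le_pPrimeCore (Subgroup.Normal.map hLn C.π C.surj) ?_
    rw [Nat.coprime_comm, hp.coprime_iff_not_dvd]
    exact fun h => hLp (h.trans (Subgroup.card_map_dvd L C.π))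
  intro q hq
  obtain ⟨x, rfl⟩ := QuotientGroup.mk_surjective q
  exact C.mem_Z_of_mem (h2 ⟨x, hq, rfl⟩)

theorem index_Z [Finite D] : C.Z.index = N.index := by
  have h1 : C.Z.comap (QuotientGroup.mk' C.s.range) = N.comap C.π := by
    ext x
    constructor
    · rintro ⟨z, hz, hzx⟩
      have h2 : z⁻¹ * x ∈ C.s.range := QuotientGroup.eq.1 hzx
      obtain ⟨n, hn⟩ := h2
      show C.π x ∈ N
      have h3 : C.π x = n := by
        have h4 := congrArg C.π hn
        rw [C.sec, map_mul, map_inv, MonoidHom.mem_ker.1 hz, inv_one, one_mul] at h4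
        exact h4.symm
      rw [h3]
      exact n.2
    · intro h
      exact C.mem_Z_of_mem h
  rw [← Subgroup.index_comap_of_surjective N C.surj, ← h1,
    Subgroup.index_comap_of_surjective _ (QuotientGroup.mk'_surjective _)]

end Cover

end Cfsg.Agent.H592.Har
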