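import Cfsg.Agent.H592.FSSplit
import Cfsg.Agent.H955.FSDefs

/-!
# The parity principle in terms of `fsi` and `FSGood`

* `exists_half` (task B), `exists_half'`: restrictions of characters of indicator `-1`;
* `exists_not_half` (task C, Theorem P);
* `fsGood_of_cover`: the criterion.
-/

set_option autoImplicit false

universe u

namespace Cfsg.Agent.H592.FSPar

open Cfsg Cfsg.Agent.Characters.Core Cfsg.Agent.H955.FS
open scoped ComplexConjugate

theorem fsi_eq_fs {G : Type u} [Group G] (χ : G → ℂ) : fsi χ = fs χ := rfl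

/-- The indicator is `0`, `1` or `-1`; it is `0` exactly for the characters which are not
real-valued. -/
theorem fsi_cases {G : Type u} [Group G] [Finite G] {χ : G → ℂ} (hχ : IsIrrCharacter G χ) :
    (fsi χ = 0 ∨ fsi χ = 1 ∨ fsi χ = -1) ∧ (fsi χ = 0 ↔ ∃ s : G, (χ s).im ≠ 0) := fs_irr hχ

theorem fsGood_true_iff {G : Type u} [Group G] [Finite G] : FSGood True G ↔ NoQ G := by
  constructor
  · intro h χ hχ h1
    rcases h χ hχ with h2 | ⟨-, h2⟩
    · rw [fsi_eq_fs, h1] at h2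
      norm_num at h2
    · rw [fsi_eq_fs, h1] at h2
      norm_num at h2
  · intro h χ hχ
    rcases (fsi_cases hχ).1 with h1 | h1 | h1
    · exact Or.inr ⟨trivial, h1⟩
    · exact Or.inl h1
    · exact absurd h1 (h χ hχ)

/-- The restriction of an irreducible character of indicator `-1`, when no irreducible constituent
of the restriction has indicator `-1`. -/
theorem exists_half' {G : Type u} [Group G] [Finite G] {χ : G → ℂ} (hχ : IsIrrCharacter G χ)
    (hν : fsi χ = -1) (X : Subgroup G)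
    (hX : ∀ ψ : X → ℂ, IsIrrCharacter X ψ → ∑ᶠ x : X, χ x * conj (ψ x) ≠ 0 → fsi ψ ≠ -1) :
    ∃ α : X → ℂ, IsCharacter X α ∧ ∀ x : X, χ x = α x + conj (α x) := by
  classical
  have := Fintype.ofFinite G
  have := Fintype.ofFinite X
  have hχ1 : fs χ = -1 := hν
  have hreal := real_of_fs hχ (by rw [hχ1]; norm_num)
  refine split_of_even (isCharacter_comp X.subtype (isIrr_isCharacter hχ)) (fun h => hreal _) ?_
  intro ψ hψ
  by_cases h0 : ∑ᶠ x : X, χ x * conj ((ψ : X → ℂ) x) = 0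
  · refine ⟨0, ?_⟩
    rw [classInner_def]
    rw [finsum_eq_sum_of_fintype] at h0
    have : ∑ g : X, χ g * conj ((ψ : X → ℂ) g) = 0 := h0
    rw [this]
    simp
  · refine even_mult X.subtype hχ hχ1 ψ.2 ?_
    rcases (fs_irr ψ.2).1 with h | h | h
    · obtain ⟨s, hs⟩ := (fs_irr ψ.2).2.1 h
      exact absurd (hψ s) hs
    · exact h
    · exact absurd h (hX _ ψ.2 h0)

/-- Task B. -/
theorem exists_half {G : Type u} [Group G] [Finite G] {χ : G → ℂ} (hχ : IsIrrCharacter G χ)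
    (hν : fsi χ = -1) (X : Subgroup G) (hX : FSGood True X) :
    ∃ α : X → ℂ, IsCharacter X α ∧ ∀ x : X, χ x = α x + conj (α x) :=
  exists_half' hχ hν X fun ψ hψ _ => fsGood_true_iff.1 hX ψ hψ

/-- **Theorem P**, for real-valued characters, with more information. -/
theorem exists_not_half_real {G : Type u} [Group G] [Finite G] {χ : G → ℂ}
    (hχ : IsIrrCharacter G χ) (hreal : ∀ g, (χ g).im = 0) :
    ∃ (c : G) (P : Subgroup G), Odd (orderOf c) ∧ IsPGroup 2 P ∧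
      (∀ g ∈ P, g * c * g⁻¹ = c ∨ g * c * g⁻¹ = c⁻¹) ∧ (∃ g ∈ P, g * c * g⁻¹ = c⁻¹) ∧
      ∀ H : Subgroup G, c ∈ H → P ≤ H →
        ¬ ∃ α : H → ℂ, IsCharacter H α ∧ ∀ x : H, χ x = α x + conj (α x) := by
  have := Fintype.ofFinite G
  obtain ⟨s, T, h1, h2, h3, h4, h5⟩ := exists_not_split hχ hreal
  exact ⟨s, T, h1, h2, fun g hg => h3 hg, h4, h5⟩

/-- The decomposition of an element in its `2'`-part and its `2`-part. -/
theorem exists_decomp {G : Type u} [Group G] [Finite G] (x : G) : ∃ c p : G, x = c * p ∧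
    Commute c p ∧ Odd (orderOf c) ∧ ∃ k, p ^ 2 ^ k = 1 := by
  have := Fintype.ofFinite G
  obtain ⟨e, k, m, hn, hmp, he1, he0⟩ :=
    Cfsg.Agent.Characters.Brauer.exists_exponent (Nat.card G) 2 Nat.card_pos.ne' Nat.prime_two
  have hpke : 2 ^ k ∣ e := Nat.modEq_zero_iff_dvd.1 he0
  have hord : ∀ g : G, g ^ (2 ^ k * m) = 1 := fun g => by rw [← hn]; exact pow_card_eq_one'
  have hsm : (x ^ e) ^ m = 1 := by
    obtain ⟨c, hc⟩ := hpke
    rw [← pow_mul, hc]
    have : 2 ^ k * c * m = (2 ^ k * m) * c := by ring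
    rw [this, pow_mul, hord, one_pow]
  have hsord : (orderOf (x ^ e)).Coprime 2 :=
    Nat.Coprime.coprime_dvd_left (orderOf_dvd_of_pow_eq_one hsm) hmp
  have hsx : Commute (x ^ e) x := (Commute.refl x).pow_left e
  refine ⟨x ^ e, (x ^ e)⁻¹ * x, (mul_inv_cancel_left _ _).symm,
    ((Commute.refl (x ^ e)).inv_right).mul_right hsx, Nat.coprime_two_right.1 hsord, k, ?_⟩
  have h1 : (x ^ e)⁻¹ * x = x ^ (1 - (e : ℤ)) := by
    rw [sub_eq_neg_add, zpow_add, zpow_neg, zpow_natCast, zpow_one]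
  have h2 : (m : ℤ) ∣ 1 - e := (Nat.modEq_iff_dvd.1 he1)
  obtain ⟨c, hc⟩ := h2
  rw [h1, hc, ← zpow_natCast, ← zpow_mul]
  have h3 : (m : ℤ) * c * ((2 ^ k : ℕ) : ℤ) = ((2 ^ k * m : ℕ) : ℤ) * c := by push_cast; ring
  rw [h3, zpow_mul, zpow_natCast, hord, one_zpow]

/-- Task C, **Theorem P**. -/
theorem exists_not_half {G : Type u} [Group G] [Finite G] {χ : G → ℂ} (hχ : IsIrrCharacter G χ) :
    ∃ (c : G) (P : Subgroup G), Odd (orderOf c) ∧ IsPGroup 2 P ∧
      (∀ g ∈ P, g * c * g⁻¹ = c ∨ g * c * g⁻¹ = c⁻¹) ∧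
      ¬ ∃ α : ↥(Subgroup.closure {c} ⊔ P) → ℂ, IsCharacter _ α ∧
        ∀ x : ↥(Subgroup.closure {c} ⊔ P), χ x = α x + conj (α x) := by
  by_cases hreal : ∀ g, (χ g).im = 0
  · obtain ⟨c, P, h1, h2, h3, -, h5⟩ := exists_not_half_real hχ hreal
    refine ⟨c, P, h1, h2, h3, h5 _ ?_ le_sup_right⟩
    exact (le_sup_left : Subgroup.closure {c} ≤ _) (Subgroup.subset_closure rfl)
  · push Not at hreal
    obtain ⟨g, hg⟩ := hreal
    obtain ⟨c, p, hgcp, hcomm, hodd, k, hk⟩ := exists_decomp g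
    refine ⟨c, Subgroup.zpowers p, hodd, ?_, ?_, ?_⟩
    · rintro ⟨y, hy⟩
      obtain ⟨i, rfl⟩ := Subgroup.mem_zpowers_iff.1 hy
      refine ⟨k, Subtype.ext ?_⟩
      show (p ^ i) ^ 2 ^ k = 1
      rw [← zpow_natCast, ← zpow_mul, mul_comm, zpow_mul, zpow_natCast, hk, one_zpow]
    · intro y hy
      obtain ⟨i, rfl⟩ := Subgroup.mem_zpowers_iff.1 hy
      left
      rw [← (hcomm.zpow_right i).eq, mul_inv_cancel_right]
    · rintro ⟨α, -, hα⟩
      have hmem : g ∈ Subgroup.closure {c} ⊔ Subgroup.zpowers p := by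
        rw [hgcp]
        exact Subgroup.mul_mem _ ((le_sup_left : Subgroup.closure {c} ≤ _)
          (Subgroup.subset_closure rfl)) ((le_sup_right : Subgroup.zpowers p ≤ _)
          (Subgroup.mem_zpowers p))
      have h1 := hα ⟨g, hmem⟩
      apply hg
      have h2 : χ g = α ⟨g, hmem⟩ + conj (α ⟨g, hmem⟩) := h1
      rw [h2]
      simp

/-- **The criterion.** -/
theorem fsGood_of_cover {G : Type u} [Group G] [Finite G]
    (h : ∀ (c : G) (P : Subgroup G), Odd (orderOf c) → IsPGroup 2 P →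
      (∀ g ∈ P, g * c * g⁻¹ = c ∨ g * c * g⁻¹ = c⁻¹) → (∃ g ∈ P, g * c * g⁻¹ = c⁻¹) →
      ∃ H : Subgroup G, c ∈ H ∧ P ≤ H ∧ FSGood True H) : FSGood True G := by
  rw [fsGood_true_iff]
  refine noQ_of_forall fun s T hs hT hTs ht => ?_
  obtain ⟨H, h1, h2, h3⟩ := h s T hs hT (fun g hg => hTs hg) ht
  exact ⟨H, h1, h2, fsGood_true_iff.1 h3⟩

end Cfsg.Agent.H592.FSPar
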