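import Cfsg.Agent.H592.FSFourInj
import Cfsg.Agent.H869.MuRank

/-!
# The step for `T4`: stabilisers of totally singular planes with a form
-/

set_option autoImplicit false

universe u

namespace Cfsg.Agent.H592.FSFour

open Cfsg QuadraticMap
open Cfsg.Agent.LieClassical.OrthCore Cfsg.Agent.H955.FS

/-- **The induction step for `T4`.** -/
theorem T4_step (n : ℕ) (ih : ∀ m < n, T0.{u} m ∧ T1.{u} m ∧ T2.{u} m ∧ T3.{u} m ∧ T4.{u} m ∧
    T5.{u} m) : T4.{u} n := by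
  refine T4_of_muS n (fun m hm => (ih m hm).1) ?_
  intro k hk F _ _ _ N _ _ _ M _ _ _ κ QM hκ hN hQM hM μ
  obtain ⟨h0, h1, h2, h3, h4, h5⟩ := ih k hk
  by_cases hμ0 : μ = 0
  · subst hμ0
    exact (muS_zero h0 hκ hN hQM hM).mono False.elim
  · by_cases hμ : Function.Injective μ
    · exact muS_inj (fun m hm => (ih m (lt_of_le_of_lt hm hk)).1) h4 h5 hκ hN hQM hM hμ
    · obtain ⟨e, he, he0⟩ : ∃ e, μ e = 0 ∧ e ≠ 0 := by
        rw [← LinearMap.ker_eq_bot] at hμ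
        obtain ⟨e, he, he0⟩ := (Submodule.ne_bot_iff _).1 hμ
        exact ⟨e, LinearMap.mem_ker.1 he, he0⟩
      exact H869.MuRank.muS_rank_one κ hκ hN QM hQM hM μ h1 h2 h3 he0 he hμ0

end Cfsg.Agent.H592.FSFour
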