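import Cfsg.Agent.H955.FSDefs

/-!
# Definitions for the stabiliser of a totally singular plane with a form (T4)

* `qW κ QM` on `N × N × M`: `(a, b, m) ↦ polar κ a b + QM m`;
* `muS κ QM μ`: the pairs `(d, h) ∈ O κ × O QM` with `h ∘ μ = μ ∘ d`.
-/

set_option autoImplicit false

universe u

namespace Cfsg.Agent.H592.FSFour

open Cfsg QuadraticMap
open Cfsg.Agent.LieClassical.OrthCore Cfsg.Agent.H955.FS

variable {F N M : Type u} [Field F] [AddCommGroup N] [Module F N] [AddCommGroup M] [Module F M]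

/-- The pairs `(d, h)` with `h ∘ μ = μ ∘ d`. -/
def muS (κ : QuadraticForm F N) (QM : QuadraticForm F M) (μ : N →ₗ[F] M) :
    Subgroup (↥(O κ) × ↥(O QM)) where
  carrier := {p | ∀ x, (p.2 : M ≃ₗ[F] M) (μ x) = μ ((p.1 : N ≃ₗ[F] N) x)}
  one_mem' := fun _ => rfl
  mul_mem' := by
    intro p q hp hq x
    show (p.2 : M ≃ₗ[F] M) ((q.2 : M ≃ₗ[F] M) (μ x)) = μ ((p.1 : N ≃ₗ[F] N) ((q.1 : N ≃ₗ[F] N) x))
    rw [hq, hp]
  inv_mem' := by
    intro p hp x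
    show (p.2 : M ≃ₗ[F] M).symm (μ x) = μ ((p.1 : N ≃ₗ[F] N).symm x)
    rw [LinearEquiv.symm_apply_eq, hp, LinearEquiv.apply_symm_apply]

theorem mem_muS {κ : QuadraticForm F N} {QM : QuadraticForm F M} {μ : N →ₗ[F] M}
    {p : ↥(O κ) × ↥(O QM)} :
    p ∈ muS κ QM μ ↔ ∀ x, (p.2 : M ≃ₗ[F] M) (μ x) = μ ((p.1 : N ≃ₗ[F] N) x) := Iff.rfl

end Cfsg.Agent.H592.FSFour
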