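import Cfsg.Agent.H592.FSFourLin
import Cfsg.Agent.H955.FSDihedral

/-!
# The characters which are not trivial on the centre of the unipotent radical (T4, second half)
-/

set_option autoImplicit false
set_option linter.unusedSectionVars false

universe u

namespace Cfsg.Agent.H592.FSFour

open Cfsg QuadraticMap
open Cfsg.Agent.LieClassical.OrthCore Cfsg.Agent.H955.FS
open Cfsg.Agent.Characters.Core
open scoped ComplexConjugate

theorem good_of_sq {G : Type u} [Group G] [Finite G] (h : ∀ x : G, x * x = 1) :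
    FSGood False G := by
  refine FSGood.of_isConj_inv (FSGood.mono (fun _ => trivial) (fsGood_of_compl (⊥ : Subgroup G) ?_
    fun x _ => h x)) ?_
  · rw [Subgroup.card_bot]
    exact odd_one
  · intro g
    rw [inv_eq_of_mul_eq_one_left (h g)]

/-- Irreducible characters over `lam` are determined by their restrictions to the inertia group. -/
theorem eq_of_restrict {G : Type u} [Group G] [Finite G] (A T : Subgroup G) [hA : A.Normal]
    (hAT : A ≤ T) (lam : A → ℂ) (hlam : ∀ a b : A, lam (a * b) = lam a * lam b)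
    (hpm : ∀ a, lam a = 1 ∨ lam a = -1)
    (hT : ∀ g : G, g ∈ T ↔ ∀ a : A, lam ⟨g * a * g⁻¹, hA.conj_mem a a.2 g⟩ = lam a)
    {χ χ' : G → ℂ} (hχ : IsIrrCharacter G χ) (hχ' : IsIrrCharacter G χ')
    (hover : ∑ᶠ a : A, χ a * lam a ≠ 0) (heq : ∀ t ∈ T, χ t = χ' t) : χ = χ' := by
  classical
  have := Fintype.ofFinite G
  have := Fintype.ofFinite A
  have := Fintype.ofFinite T
  have hlamI : IsIrrCharacter A lam := isIrr_sign lam hlam hpm
  have hconj : ∀ a, conj (lam a) = lam a := by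
    intro a
    rcases hpm a with h | h <;> rw [h] <;> simp
  have hcon : classInner (fun n : A => χ n) lam ≠ 0 := by
    rw [finsum_eq_sum_of_fintype] at hover
    rw [classInner_def]
    refine mul_ne_zero (inv_ne_zero card_ne_zero_complex) ?_
    simp_rw [hconj]
    exact hover
  obtain ⟨ψ, hψ, hind, hcc⟩ := Cfsg.Agent.S0854.result A lam hlamI T hT hAT χ hχ hcon
  have h1 := CharactersDeep.NormalInd.classInner_indFun T ψ χ (isIrr_isClassFunction hχ)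
  have h2 := CharactersDeep.NormalInd.classInner_indFun T ψ χ' (isIrr_isClassFunction hχ')
  have h3 : (fun h : T => χ h) = fun h : T => χ' h := funext fun h => heq h h.2
  rw [h3, ← h2, hind, classInner_irr_self hχ] at h1
  by_contra hne
  rw [classInner_irr_ne hχ hχ' hne] at h1
  exact one_ne_zero h1

variable {F N M : Type u} [Field F] [CharP F 2] [AddCommGroup N] [Module F N] [AddCommGroup M]
  [Module F M]

/-- The elements of the stabiliser of the plane acting on it through `D`. -/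
def XD (κ : QuadraticForm F N) (QM : QuadraticForm F M) (D : Subgroup (N ≃ₗ[F] N)) :
    Subgroup ((N × N × M) ≃ₗ[F] (N × N × M)) where
  carrier := {g | g ∈ O (qW κ QM) ∧ ∃ d ∈ O κ ⊓ D, ∀ a, g (a, 0, 0) = (d a, 0, 0)}
  one_mem' := ⟨one_mem _, 1, one_mem _, fun _ => rfl⟩
  mul_mem' := by
    rintro a b ⟨ha, d, hd, hda⟩ ⟨hb, e, he, heb⟩
    refine ⟨mul_mem ha hb, d * e, mul_mem hd he, fun x => ?_⟩
    show a (b (x, 0, 0)) = _
    rw [heb, hda]
    rfl
  inv_mem' := by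
    rintro a ⟨ha, d, hd, hda⟩
    refine ⟨inv_mem ha, d⁻¹, inv_mem hd, fun x => ?_⟩
    show a.symm (x, 0, 0) = (d.symm x, 0, 0)
    rw [LinearEquiv.symm_apply_eq, hda, LinearEquiv.apply_symm_apply]

variable {κ : QuadraticForm F N} {QM : QuadraticForm F M}

theorem mem_XD {D : Subgroup (N ≃ₗ[F] N)} {g : (N × N × M) ≃ₗ[F] (N × N × M)} :
    g ∈ XD κ QM D ↔ g ∈ O (qW κ QM) ∧ ∃ d ∈ O κ ⊓ D, ∀ a, g (a, 0, 0) = (d a, 0, 0) := Iff.rfl

theorem XD_le {D : Subgroup (N ≃ₗ[F] N)} : XD κ QM D ≤ XK κ QM := by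
  rintro g ⟨h1, d, hd, hda⟩
  exact ⟨h1, d, hd.1, hda⟩

theorem rad_le_XD (hκ : Nondeg κ) (D : Subgroup (N ≃ₗ[F] N)) : rad κ QM hκ ≤ XD κ QM D :=
  fun _ hg => ⟨hg.1, 1, one_mem _, hg.2.1⟩

/-- The pair in the full Levi group. -/
def toPair {D : Subgroup (N ≃ₗ[F] N)} (p : ↥(O κ ⊓ D) × ↥(O QM)) : ↥(O κ) × ↥(O QM) :=
  (⟨(p.1 : N ≃ₗ[F] N), (Subgroup.mem_inf.1 p.1.2).1⟩, p.2)

/-- The Levi complement of `XD`. -/
def leviD (κ : QuadraticForm F N) (QM : QuadraticForm F M) (D : Subgroup (N ≃ₗ[F] N)) :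
    (↥(O κ ⊓ D) × ↥(O QM)) →* ↥(XD κ QM D) where
  toFun p := ⟨levi κ QM (toPair p), levi_mem_O κ QM _, p.1, p.1.2, (Act.levi (toPair p)).2.1⟩
  map_one' := rfl
  map_mul' _ _ := rfl

theorem leviD_coe {D : Subgroup (N ≃ₗ[F] N)} (p : ↥(O κ ⊓ D) × ↥(O QM)) :
    ((leviD κ QM D p : XD κ QM D) : (N × N × M) ≃ₗ[F] (N × N × M)) =
      levi κ QM (toPair p) := rfl

theorem leviD_injective {D : Subgroup (N ≃ₗ[F] N)} : Function.Injective (leviD κ QM D) := by
  rintro ⟨⟨d, hd⟩, ⟨h, hh⟩⟩ ⟨⟨d', hd'⟩, ⟨h', hh'⟩⟩ heq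
  have h1 := congrArg Subtype.val heq
  rw [leviD_coe, leviD_coe] at h1
  have h2 := Act.levi (κ := κ) (QM := QM) (⟨d, hd.1⟩, ⟨h, hh⟩)
  have h3 := Act.levi (κ := κ) (QM := QM) (⟨d', hd'.1⟩, ⟨h', hh'⟩)
  unfold toPair at h1
  simp only at h1
  rw [h1] at h2
  obtain ⟨h4, h5⟩ := Act.eq h2 h3
  exact Prod.ext (Subtype.ext h4) (Subtype.ext h5)

/-- The abelian group `{zc c * sg t w}`. -/
def At (κ : QuadraticForm F N) (QM : QuadraticForm F M) (t : N) :
    Subgroup ((N × N × M) ≃ₗ[F] (N × N × M)) where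
  carrier := {g | ∃ (c : F) (w : M), g = zc c * sg κ QM t w}
  one_mem' := ⟨0, 0, by rw [zc_zero, sg_zero, one_mul]⟩
  mul_mem' := by
    rintro _ _ ⟨c, w, rfl⟩ ⟨c', w', rfl⟩
    refine ⟨c + c', w + w', ?_⟩
    rw [← zc_mul, ← sg_mul]
    calc zc c * sg κ QM t w * (zc c' * sg κ QM t w')
        = zc c * (sg κ QM t w * zc c') * sg κ QM t w' := by group
      _ = zc c * (zc c' * sg κ QM t w) * sg κ QM t w' := by rw [zc_sg]
      _ = _ := by group
  inv_mem' := by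
    rintro _ ⟨c, w, rfl⟩
    refine ⟨c, w, ?_⟩
    rw [mul_inv_rev, zc_inv, sg_inv, zc_sg]

theorem mem_At {t : N} {g : (N × N × M) ≃ₗ[F] (N × N × M)} :
    g ∈ At κ QM t ↔ ∃ (c : F) (w : M), g = zc c * sg κ QM t w := Iff.rfl

theorem At_le_rad (hκ : Nondeg κ) (t : N) : At κ QM t ≤ rad κ QM hκ := by
  rintro _ ⟨c, w, rfl⟩
  exact mul_mem (zc_mem_rad hκ c) (sg_mem_rad hκ t w)

theorem At_mul (t : N) (c c' : F) (w w' : M) : zc c * sg κ QM t w * (zc c' * sg κ QM t w')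
    = zc (c + c') * sg κ QM t (w + w') := by
  rw [← zc_mul, ← sg_mul]
  calc zc c * sg κ QM t w * (zc c' * sg κ QM t w')
      = zc c * (sg κ QM t w * zc c') * sg κ QM t w' := by group
    _ = zc c * (zc c' * sg κ QM t w) * sg κ QM t w' := by rw [zc_sg]
    _ = _ := by group

theorem At_comm {t : N} {g g' : (N × N × M) ≃ₗ[F] (N × N × M)} (hg : g ∈ At κ QM t)
    (hg' : g' ∈ At κ QM t) : g * g' = g' * g := by
  obtain ⟨c, w, rfl⟩ := hg
  obtain ⟨c', w', rfl⟩ := hg'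
  rw [At_mul, At_mul, add_comm c, add_comm w]

theorem At_sq {t : N} {g : (N × N × M) ≃ₗ[F] (N × N × M)} (hg : g ∈ At κ QM t) : g * g = 1 := by
  obtain ⟨c, w, rfl⟩ := hg
  rw [At_mul, CharTwo.add_self_eq_zero, two_smul_zero (F := F), zc_zero, sg_zero, one_mul]

/-- The coordinate `c` of `zc c * sg t w`. -/
def cc (κ : QuadraticForm F N) (t b : N) (g : (N × N × M) ≃ₗ[F] (N × N × M)) : F :=
  polar κ t (g (0, b, 0)).1

theorem cc_eq {t b : N} (htb : polar κ t b = 1) (c : F) (w : M) :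
    cc κ t b (zc c * sg κ QM t w) = c := by
  unfold cc
  show polar κ t (zc c (sg κ QM t w (0, b, 0))).1 = c
  rw [sg_apply, zc_apply]
  simp only [polar_zero_right, htb, mul_one, zero_add, polar_add_right, polar_smul_right,
    polar_self0, smul_eq_mul, mul_zero]

/-- Conjugation on `At t`. -/
theorem conj_At [FiniteDimensional F N] [FiniteDimensional F M] (hκ : Nondeg κ) (hQM : Nondeg QM)
    (hN : Module.finrank F N = 2) {t b : N} (htb : polar κ t b = 1)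
    {g : (N × N × M) ≃ₗ[F] (N × N × M)} {p : ↥(O κ) × ↥(O QM)} (hg : Act κ QM g p.1 p.2)
    (hpt : (p.1 : N ≃ₗ[F] N) t = t) : ∃ (c₀ : F) (m₁ m₂ : M),
      g = zc c₀ * (sg κ QM t m₁ * sg κ QM b m₂) * levi κ QM p ∧
      ∀ (c : F) (w : M), g * (zc c * sg κ QM t w) * g⁻¹ =
        zc (c + polar QM m₂ ((p.2 : M ≃ₗ[F] M) w)) * sg κ QM t ((p.2 : M ≃ₗ[F] M) w) := by
  obtain ⟨c₀, m₁, m₂, h1⟩ := exists_dec hκ hQM hN htb (dec_levi hκ hg)
  refine ⟨c₀, m₁, m₂, by rw [← h1, inv_mul_cancel_right], fun c w => ?_⟩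
  have hg' : g = zc c₀ * (sg κ QM t m₁ * sg κ QM b m₂) * levi κ QM p := by
    rw [← h1, inv_mul_cancel_right]
  have hgX : g ∈ XK κ QM := ⟨hg.1, p.1, p.1.2, hg.2.1⟩
  have h2 : g * (zc c * sg κ QM t w) * g⁻¹ = zc c * (g * sg κ QM t w * g⁻¹) := by
    have := XK_zc hκ hgX c
    calc g * (zc c * sg κ QM t w) * g⁻¹ = (g * zc c) * sg κ QM t w * g⁻¹ := by group
      _ = (zc c * g) * sg κ QM t w * g⁻¹ := by rw [this]
      _ = _ := by group
  have h3 : g * sg κ QM t w * g⁻¹ = zc c₀ * (sg κ QM t m₁ * (sg κ QM b m₂ *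
      (levi κ QM p * sg κ QM t w * (levi κ QM p)⁻¹) * (sg κ QM b m₂)⁻¹) * (sg κ QM t m₁)⁻¹) *
      (zc c₀)⁻¹ := by
    rw [hg']
    group
  rw [h2, h3, levi_sg, hpt, sg_comm κ QM hκ hN, htb, mul_one]
  have h4 : sg κ QM t m₁ * (zc (polar QM m₂ ((p.2 : M ≃ₗ[F] M) w)) *
      sg κ QM t ((p.2 : M ≃ₗ[F] M) w)) * (sg κ QM t m₁)⁻¹ =
      zc (polar QM m₂ ((p.2 : M ≃ₗ[F] M) w)) * sg κ QM t ((p.2 : M ≃ₗ[F] M) w) := by
    rw [mul_inv_eq_iff_eq_mul]
    refine At_comm (t := t) ⟨0, m₁, by rw [zc_zero, one_mul]⟩ ⟨_, _, rfl⟩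
  have h5 : zc c₀ * (zc (polar QM m₂ ((p.2 : M ≃ₗ[F] M) w)) *
      sg κ QM t ((p.2 : M ≃ₗ[F] M) w)) * (zc c₀)⁻¹ =
      zc (polar QM m₂ ((p.2 : M ≃ₗ[F] M) w)) * sg κ QM t ((p.2 : M ≃ₗ[F] M) w) := by
    rw [mul_inv_eq_iff_eq_mul]
    refine At_comm (κ := κ) (QM := QM) (t := t) ⟨c₀, 0, by rw [sg_zero, mul_one]⟩ ⟨_, _, rfl⟩
  rw [h4, h5, ← mul_assoc, zc_mul]

theorem psi_sq {ψ : AddChar F ℂ} (c : F) : ψ c * ψ c = 1 := by
  rw [← AddChar.map_add_eq_mul, CharTwo.add_self_eq_zero, AddChar.map_zero_eq_one]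

theorem psi_pm {ψ : AddChar F ℂ} (c : F) : ψ c = 1 ∨ ψ c = -1 :=
  mul_self_eq_one_iff.1 (psi_sq c)

theorem At_le_XD (hκ : Nondeg κ) (t : N) (D : Subgroup (N ≃ₗ[F] N)) : At κ QM t ≤ XD κ QM D :=
  (At_le_rad hκ t).trans (rad_le_XD hκ D)

/-- The character `zc c * sg t w ↦ ψ c` occurs in the restriction. -/
theorem over_At [Finite F] [FiniteDimensional F N] [FiniteDimensional F M] (hκ : Nondeg κ)
    (hQM : Nondeg QM) (hN : Module.finrank F N = 2) {t b : N} (htb : polar κ t b = 1)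
    (D : Subgroup (N ≃ₗ[F] N)) {ψ : AddChar F ℂ} (hψ : ∃ a, ψ a ≠ 1) {η : XD κ QM D → ℂ}
    (hη : IsIrrCharacter (XD κ QM D) η)
    (hηz : ∀ (c : F) (g : XD κ QM D),
      η (⟨zc c, rad_le_XD hκ D (zc_mem_rad hκ c)⟩ * g) = ψ c * η g) :
    ∑ᶠ a : (At κ QM t).subgroupOf (XD κ QM D), η a *
      ψ (cc κ t b ((a : XD κ QM D) : (N × N × M) ≃ₗ[F] (N × N × M))) ≠ 0 := by
  classical
  have hfin := finite_aut F (N × N × M)
  have hAG : At κ QM t ≤ XD κ QM D := At_le_XD hκ t D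
  obtain ⟨lam, hl1, hl2, -, hl4⟩ := exists_linear ((At κ QM t).subgroupOf (XD κ QM D)) ⊥ bot_le (by
    intro a ha
    rw [Subgroup.mem_subgroupOf] at ha
    exact Subgroup.mem_bot.2 (Subtype.ext (At_sq ha))) hη (by
    intro z hz
    rw [Subgroup.mem_bot.1 hz])
  have := Fintype.ofFinite ((At κ QM t).subgroupOf (XD κ QM D))
  rw [finsum_eq_sum_of_fintype] at hl4 ⊢
  have hllam : ∀ a, lam a * lam a = 1 := fun a => mul_self_eq_one_iff.2 (hl2 a)
  let elt : F → M → (At κ QM t).subgroupOf (XD κ QM D) := fun c w =>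
    ⟨⟨zc c * sg κ QM t w, hAG ⟨c, w, rfl⟩⟩, Subgroup.mem_subgroupOf.2 ⟨c, w, rfl⟩⟩
  have helt : ∀ a : (At κ QM t).subgroupOf (XD κ QM D), ∃ c w, a = elt c w := by
    intro a
    obtain ⟨c, w, h⟩ := Subgroup.mem_subgroupOf.1 a.2
    exact ⟨c, w, Subtype.ext (Subtype.ext h)⟩
  have hmul : ∀ c c' w w', elt c w * elt c' w' = elt (c + c') (w + w') := by
    intro c c' w w'
    exact Subtype.ext (Subtype.ext (At_mul t c c' w w'))
  have h1 : elt 0 0 = 1 := by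
    apply Subtype.ext
    apply Subtype.ext
    show zc (0 : F) * sg κ QM t 0 = 1
    rw [zc_zero, sg_zero, one_mul]
  have hlam1 : lam 1 = 1 := by
    have h2 := hl1 1 1
    rw [mul_one] at h2
    have h3 := hllam 1
    rw [← h2] at h3
    exact h3
  -- the values on `zc c`
  have hc : ∀ c, lam (elt c 0) = ψ c := by
    intro c
    have h2 : ∑ a : (At κ QM t).subgroupOf (XD κ QM D), η a * lam a
        = (ψ c * lam (elt c 0)) * ∑ a : (At κ QM t).subgroupOf (XD κ QM D), η a * lam a := by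
      rw [Finset.mul_sum]
      refine (Fintype.sum_equiv (Equiv.mulLeft (elt c 0)) _ _ fun a => ?_).symm
      rw [Equiv.coe_mulLeft, hl1]
      have h3 : (((elt c 0 * a : (At κ QM t).subgroupOf (XD κ QM D))) : XD κ QM D)
          = (⟨zc c, rad_le_XD hκ D (zc_mem_rad hκ c)⟩ : XD κ QM D) * a := by
        apply Subtype.ext
        show zc c * sg κ QM t 0 * _ = zc c * _
        rw [sg_zero, mul_one]
      rw [h3, hηz]
      ring
    have h4 : ψ c * lam (elt c 0) = 1 := by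
      exact mul_right_cancel₀ hl4 (h2.symm.trans (one_mul _).symm)
    have h6 := hllam (elt c 0)
    calc lam (elt c 0) = (ψ c * ψ c) * lam (elt c 0) := by rw [psi_sq, one_mul]
      _ = ψ c * (ψ c * lam (elt c 0)) := by ring
      _ = ψ c := by rw [h4, mul_one]
  obtain ⟨m', hm'⟩ := exists_dual hQM hψ
    { toFun := fun w => lam (elt 0 w)
      map_zero_eq_one' := by rw [h1, hlam1]
      map_add_eq_mul' := fun w w' => by
        rw [← hl1, hmul, add_zero] }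
  have hval : ∀ c w, lam (elt c w) = ψ c * ψ (polar QM m' w) := by
    intro c w
    have h2 : elt c w = elt c 0 * elt 0 w := by rw [hmul, add_zero, zero_add]
    rw [h2, hl1, hc]
    congr 1
    exact hm' w
  have hxr : sg κ QM b m' ∈ rad κ QM hκ := sg_mem_rad hκ b m'
  have hxG : sg κ QM b m' ∈ XD κ QM D := rad_le_XD hκ D hxr
  have hconj : ∀ c w, sg κ QM b m' * (zc c * sg κ QM t w) * (sg κ QM b m')⁻¹
      = zc (c + polar QM m' w) * sg κ QM t w := by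
    intro c w
    have h2 : sg κ QM b m' * (zc c * sg κ QM t w) * (sg κ QM b m')⁻¹
        = zc c * (sg κ QM b m' * sg κ QM t w * (sg κ QM b m')⁻¹) := by
      calc sg κ QM b m' * (zc c * sg κ QM t w) * (sg κ QM b m')⁻¹
          = (sg κ QM b m' * zc c) * sg κ QM t w * (sg κ QM b m')⁻¹ := by group
        _ = (zc c * sg κ QM b m') * sg κ QM t w * (sg κ QM b m')⁻¹ := by rw [← zc_sg]
        _ = _ := by group
    rw [h2, sg_comm κ QM hκ hN, htb, mul_one, ← mul_assoc, zc_mul]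
  have hcb : ∀ c w, cc κ t b (((elt c w : (At κ QM t).subgroupOf (XD κ QM D)) : XD κ QM D) :
      (N × N × M) ≃ₗ[F] (N × N × M)) = c := fun c w => cc_eq htb c w
  have hcl := isIrr_isClassFunction hη
  -- the bijection
  let e : (At κ QM t).subgroupOf (XD κ QM D) → (At κ QM t).subgroupOf (XD κ QM D) := fun a =>
    ⟨⟨sg κ QM b m', hxG⟩ * a * (⟨sg κ QM b m', hxG⟩ : XD κ QM D)⁻¹, by
      obtain ⟨c, w, rfl⟩ := helt a
      rw [Subgroup.mem_subgroupOf]
      exact ⟨_, _, hconj c w⟩⟩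
  have he : Function.Bijective e := by
    rw [← Finite.injective_iff_bijective]
    intro x y hxy
    have h2 := congrArg Subtype.val hxy
    exact Subtype.ext (mul_left_cancel (mul_right_cancel h2))
  have hfinal : ∑ a : (At κ QM t).subgroupOf (XD κ QM D), η a *
      ψ (cc κ t b ((a : XD κ QM D) : (N × N × M) ≃ₗ[F] (N × N × M)))
      = ∑ a : (At κ QM t).subgroupOf (XD κ QM D), η a * lam a := by
    refine Fintype.sum_equiv (Equiv.ofBijective e he) _ _ fun a => ?_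
    rw [Equiv.ofBijective_apply]
    obtain ⟨c, w, rfl⟩ := helt a
    have h2 : e (elt c w) = elt (c + polar QM m' w) w := Subtype.ext (Subtype.ext (hconj c w))
    have h3 : η ((e (elt c w) : (At κ QM t).subgroupOf (XD κ QM D)) : XD κ QM D) = η ((elt c w :
        (At κ QM t).subgroupOf (XD κ QM D)) : XD κ QM D) := hcl _ _
    rw [h3, h2, hval, hcb, AddChar.map_add_eq_mul, mul_assoc, psi_sq, mul_one]
  rw [hfinal]
  exact hl4

/-- The data of an element of `XD`. -/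
theorem XD_exists_act [FiniteDimensional F M] (hκ : Nondeg κ) (hQM : Nondeg QM)
    {D : Subgroup (N ≃ₗ[F] N)} {g : (N × N × M) ≃ₗ[F] (N × N × M)} (hg : g ∈ XD κ QM D) :
    ∃ p : ↥(O κ ⊓ D) × ↥(O QM), Act κ QM g p.1 p.2 := by
  obtain ⟨hgO, d, hd, hda⟩ := hg
  obtain ⟨h, hh, hact⟩ := exists_act hκ hQM hgO hda hd.1
  exact ⟨(⟨d, hd⟩, ⟨h, hh⟩), hact⟩

theorem conj_At_mem [FiniteDimensional F N] [FiniteDimensional F M] (hκ : Nondeg κ)
    (hQM : Nondeg QM) (hN : Module.finrank F N = 2) {t b : N} (htb : polar κ t b = 1)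
    {D : Subgroup (N ≃ₗ[F] N)} (hDt : ∀ d ∈ O κ ⊓ D, d t = t)
    {g a : (N × N × M) ≃ₗ[F] (N × N × M)} (hg : g ∈ XD κ QM D) (ha : a ∈ At κ QM t) :
    g * a * g⁻¹ ∈ At κ QM t := by
  obtain ⟨p, hp⟩ := XD_exists_act hκ hQM hg
  obtain ⟨c₀, m₁, m₂, -, h2⟩ := conj_At hκ hQM hN htb (p := toPair p) hp (hDt _ p.1.2)
  obtain ⟨c, w, rfl⟩ := ha
  rw [h2]
  exact ⟨_, _, rfl⟩

theorem At_normal [FiniteDimensional F N] [FiniteDimensional F M] (hκ : Nondeg κ)
    (hQM : Nondeg QM) (hN : Module.finrank F N = 2) {t b : N} (htb : polar κ t b = 1)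
    {D : Subgroup (N ≃ₗ[F] N)} (hDt : ∀ d ∈ O κ ⊓ D, d t = t) :
    ((At κ QM t).subgroupOf (XD κ QM D)).Normal := by
  refine ⟨fun a ha g => ?_⟩
  rw [Subgroup.mem_subgroupOf] at ha ⊢
  exact conj_At_mem hκ hQM hN htb hDt g.2 ha

theorem mem_AtG {t : N} {D : Subgroup (N ≃ₗ[F] N)} (x : XD κ QM D) :
    x ∈ (At κ QM t).subgroupOf (XD κ QM D) ↔
      ∃ (c : F) (w : M), (x : (N × N × M) ≃ₗ[F] (N × N × M)) = zc c * sg κ QM t w :=
  Subgroup.mem_subgroupOf

/-- The linear character of `At t`. -/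
noncomputable def lamAt (κ : QuadraticForm F N) (QM : QuadraticForm F M) (D : Subgroup (N ≃ₗ[F] N))
    (ψ : AddChar F ℂ) (t b : N) (a : (At κ QM t).subgroupOf (XD κ QM D)) : ℂ :=
  ψ (cc κ t b ((a : XD κ QM D) : (N × N × M) ≃ₗ[F] (N × N × M)))

theorem lamAt_eq {D : Subgroup (N ≃ₗ[F] N)} {ψ : AddChar F ℂ} {t b : N} (htb : polar κ t b = 1)
    (a : (At κ QM t).subgroupOf (XD κ QM D)) {c : F} {w : M}
    (h : ((a : XD κ QM D) : (N × N × M) ≃ₗ[F] (N × N × M)) = zc c * sg κ QM t w) :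
    lamAt κ QM D ψ t b a = ψ c := by
  unfold lamAt
  rw [h, cc_eq htb]

theorem lamAt_mul {D : Subgroup (N ≃ₗ[F] N)} {ψ : AddChar F ℂ} {t b : N} (htb : polar κ t b = 1)
    (a a' : (At κ QM t).subgroupOf (XD κ QM D)) :
    lamAt κ QM D ψ t b (a * a') = lamAt κ QM D ψ t b a * lamAt κ QM D ψ t b a' := by
  obtain ⟨c, w, h1⟩ := (mem_AtG _).1 a.2
  obtain ⟨c', w', h2⟩ := (mem_AtG _).1 a'.2
  have h3 : (((a * a' : (At κ QM t).subgroupOf (XD κ QM D)) : XD κ QM D) :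
      (N × N × M) ≃ₗ[F] (N × N × M)) = zc (c + c') * sg κ QM t (w + w') := by
    rw [← At_mul, ← h1, ← h2]
    rfl
  rw [lamAt_eq htb _ h1, lamAt_eq htb _ h2, lamAt_eq htb _ h3, AddChar.map_add_eq_mul]

/-- The inertia group of the linear character of `At t`. -/
theorem inertia_At [FiniteDimensional F N] [FiniteDimensional F M] (hκ : Nondeg κ)
    (hQM : Nondeg QM) (hN : Module.finrank F N = 2) {t b : N} (htb : polar κ t b = 1)
    {D : Subgroup (N ≃ₗ[F] N)} (hDt : ∀ d ∈ O κ ⊓ D, d t = t)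
    (hAn : ((At κ QM t).subgroupOf (XD κ QM D)).Normal)
    {ψ : AddChar F ℂ} (hψ : ∃ a, ψ a ≠ 1) (g : XD κ QM D) :
    g ∈ (At κ QM t).subgroupOf (XD κ QM D) ⊔ (leviD κ QM D).range ↔
      ∀ a : (At κ QM t).subgroupOf (XD κ QM D),
        lamAt κ QM D ψ t b ⟨g * a * g⁻¹, hAn.conj_mem a a.2 g⟩ = lamAt κ QM D ψ t b a := by
  have hAG : At κ QM t ≤ XD κ QM D := At_le_XD hκ t D
  constructor
  · intro hg a
    obtain ⟨x, hx, y, hy, hxy⟩ := Subgroup.mem_sup_of_normal_left.1 hg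
    obtain ⟨p, rfl⟩ := hy
    obtain ⟨c, w, h1⟩ := (mem_AtG _).1 a.2
    have h2 : levi κ QM (toPair p) * (zc c * sg κ QM t w) * (levi κ QM (toPair p))⁻¹
        = zc c * sg κ QM t ((p.2 : M ≃ₗ[F] M) w) := by
      have h3 : levi κ QM (toPair p) * (zc c * sg κ QM t w) * (levi κ QM (toPair p))⁻¹
          = (levi κ QM (toPair p) * zc c * (levi κ QM (toPair p))⁻¹) *
            (levi κ QM (toPair p) * sg κ QM t w * (levi κ QM (toPair p))⁻¹) := by group
      rw [h3, levi_zc, levi_sg]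
      congr 2
      exact hDt _ p.1.2
    have h4 : (((⟨g * a * g⁻¹, hAn.conj_mem a a.2 g⟩ :
        (At κ QM t).subgroupOf (XD κ QM D)) : XD κ QM D) : (N × N × M) ≃ₗ[F] (N × N × M))
        = zc c * sg κ QM t ((p.2 : M ≃ₗ[F] M) w) := by
      show (g : (N × N × M) ≃ₗ[F] (N × N × M)) * (a : XD κ QM D) *
        (g : (N × N × M) ≃ₗ[F] (N × N × M))⁻¹ = _
      have h5 : (g : (N × N × M) ≃ₗ[F] (N × N × M)) = x * levi κ QM (toPair p) := by
        rw [← hxy]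
        rfl
      rw [h5, h1]
      have h6 : (x : (N × N × M) ≃ₗ[F] (N × N × M)) * levi κ QM (toPair p) *
          (zc c * sg κ QM t w) * ((x : (N × N × M) ≃ₗ[F] (N × N × M)) *
            levi κ QM (toPair p))⁻¹ = (x : (N × N × M) ≃ₗ[F] (N × N × M)) *
              (levi κ QM (toPair p) * (zc c * sg κ QM t w) *
              (levi κ QM (toPair p))⁻¹) * (x : (N × N × M) ≃ₗ[F] (N × N × M))⁻¹ := by group
      rw [h6, h2, mul_inv_eq_iff_eq_mul]
      exact At_comm ((mem_AtG x).1 hx) ⟨_, _, rfl⟩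
    rw [lamAt_eq htb _ h4, lamAt_eq htb _ h1]
  · intro h
    obtain ⟨p, hp⟩ := XD_exists_act hκ hQM g.2
    obtain ⟨c₀, m₁, m₂, h1, h2⟩ := conj_At hκ hQM hN htb (p := toPair p) hp (hDt _ p.1.2)
    have h3 : ∀ w : M, ψ (polar QM m₂ ((p.2 : M ≃ₗ[F] M) w)) = 1 := by
      intro w
      have h4 := h ⟨⟨zc 0 * sg κ QM t w, hAG ⟨0, w, rfl⟩⟩,
        Subgroup.mem_subgroupOf.2 ⟨0, w, rfl⟩⟩
      rw [lamAt_eq htb _ (h2 0 w), lamAt_eq htb (c := 0) (w := w) _ rfl, zero_add,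
        AddChar.map_zero_eq_one] at h4
      exact h4
    have h6 : m₂ = 0 := by
      apply hQM
      intro z
      refine eq_zero_of_psi hψ fun c => ?_
      obtain ⟨w, hw⟩ := (p.2 : M ≃ₗ[F] M).surjective (c • z)
      rw [← smul_eq_mul, ← polar_smul_right, ← hw]
      exact h3 w
    rw [h6, sg_zero, mul_one] at h1
    rw [Subgroup.mem_sup_of_normal_left]
    refine ⟨⟨zc c₀ * sg κ QM t m₁, hAG ⟨c₀, m₁, rfl⟩⟩, Subgroup.mem_subgroupOf.2 ⟨c₀, m₁, rfl⟩,
      leviD κ QM D p, ⟨p, rfl⟩, Subtype.ext h1.symm⟩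

/-- The indicators of the groups `XD` which fix a vector of the plane. -/
theorem fsi_XD [Finite F] [FiniteDimensional F N] [FiniteDimensional F M] (hκ : Nondeg κ)
    (hQM : Nondeg QM) (hN : Module.finrank F N = 2) {t b : N} (htb : polar κ t b = 1)
    (D : Subgroup (N ≃ₗ[F] N)) (hDt : ∀ d ∈ O κ ⊓ D, d t = t)
    (hD : FSGood False ↥(O κ ⊓ D)) (hM : FSGood False ↥(O QM))
    {ψ : AddChar F ℂ} (hψ : ∃ a, ψ a ≠ 1) {η : XD κ QM D → ℂ}
    (hη : IsIrrCharacter (XD κ QM D) η)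
    (hηz : ∀ (c : F) (g : XD κ QM D),
      η (⟨zc c, rad_le_XD hκ D (zc_mem_rad hκ c)⟩ * g) = ψ c * η g) : fsi η = 1 := by
  have hfin := finite_aut F (N × N × M)
  have hfN := finite_aut F N
  have hfM := finite_aut F M
  have hAn := At_normal (QM := QM) hκ hQM hN htb hDt
  have hY : FSGood False (leviD κ QM D).range :=
    FSGood.of_mulEquiv (MonoidHom.ofInjective leviD_injective) (FSGood.prod hD hM)
  have hAY : (At κ QM t).subgroupOf (XD κ QM D) ⊓ (leviD κ QM D).range = ⊥ := by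
    rw [eq_bot_iff]
    rintro x ⟨hx, p, rfl⟩
    have h1 : Act κ QM (levi κ QM (toPair p)) 1 1 := At_le_rad hκ t (Subgroup.mem_subgroupOf.1 hx)
    obtain ⟨h2, h3⟩ := Act.eq (Act.levi (toPair p)) h1
    have h4 : p = 1 := Prod.ext (Subtype.ext h2) (Subtype.ext h3)
    rw [h4, map_one]
    exact Subgroup.mem_bot.2 rfl
  rcases clifford _ _ hAY (lamAt κ QM D ψ t b) (lamAt_mul htb) (fun a => psi_pm _)
    (inertia_At hκ hQM hN htb hDt hAn hψ) hY hη (over_At hκ hQM hN htb D hψ hη hηz) with h | h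
  · exact h
  · exact h.1.elim

/-- Two characters over `ψ` which agree on the inertia group are equal. -/
theorem eq_of_At [Finite F] [FiniteDimensional F N] [FiniteDimensional F M] (hκ : Nondeg κ)
    (hQM : Nondeg QM) (hN : Module.finrank F N = 2) {t b : N} (htb : polar κ t b = 1)
    (D : Subgroup (N ≃ₗ[F] N)) (hDt : ∀ d ∈ O κ ⊓ D, d t = t)
    {ψ : AddChar F ℂ} (hψ : ∃ a, ψ a ≠ 1) {η η' : XD κ QM D → ℂ}
    (hη : IsIrrCharacter (XD κ QM D) η) (hη' : IsIrrCharacter (XD κ QM D) η')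
    (hηz : ∀ (c : F) (g : XD κ QM D),
      η (⟨zc c, rad_le_XD hκ D (zc_mem_rad hκ c)⟩ * g) = ψ c * η g)
    (heq : ∀ (c : F) (w : M) (p : ↥(O κ ⊓ D) × ↥(O QM)) (g : XD κ QM D),
      (g : (N × N × M) ≃ₗ[F] (N × N × M)) = zc c * sg κ QM t w * levi κ QM (toPair p) →
      η g = η' g) : η = η' := by
  have hfin := finite_aut F (N × N × M)
  have hAn := At_normal (QM := QM) hκ hQM hN htb hDt
  refine eq_of_restrict _ _ le_sup_left (lamAt κ QM D ψ t b) (lamAt_mul htb) (fun a => psi_pm _)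
    (inertia_At hκ hQM hN htb hDt hAn hψ) hη hη' (over_At hκ hQM hN htb D hψ hη hηz) ?_
  intro g hg
  obtain ⟨x, hx, y, ⟨p, rfl⟩, hxy⟩ := Subgroup.mem_sup_of_normal_left.1 hg
  obtain ⟨c, w, h1⟩ := (mem_AtG _).1 hx
  refine heq c w p g ?_
  rw [← hxy, ← h1]
  rfl

end Cfsg.Agent.H592.FSFour
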