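import Cfsg.Agent.H592.FSFourNon
import Cfsg.Agent.H955.QSpace

/-!
# Existence of the model (T4)
-/

set_option autoImplicit false
set_option linter.unusedSectionVars false

universe u

namespace Cfsg.Agent.H592.FSFour

open Cfsg QuadraticMap
open Cfsg.Agent.LieClassical.OrthCore Cfsg.Agent.H955.FS
open Cfsg.Agent.H955 (res perp mem_perp mem_perp' res_apply polar_res)
open Cfsg.Agent.H955 (nondegenerate_of_nondeg)

section

variable {F V N : Type u} [Field F] [AddCommGroup V] [Module F V] [FiniteDimensional F V]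
  [AddCommGroup N] [Module F N] [FiniteDimensional F N]

/-- Representation of functionals. -/
theorem exists_rep_hom {L : Type*} [AddCommGroup L] [Module F L] {Q : QuadraticForm F V}
    (hQ : Nondeg Q) (B : L →ₗ[F] Module.Dual F V) :
    ∃ c : L →ₗ[F] V, ∀ x v, polar Q (c x) v = B x v := by
  refine ⟨((LinearMap.BilinForm.toDual (polarBilin Q) (nondegenerate_of_nondeg hQ)).symm :
    Module.Dual F V →ₗ[F] V) ∘ₗ B, fun x v => ?_⟩
  have h1 := LinearMap.BilinForm.toDual_def (B := polarBilin Q)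
    (b := nondegenerate_of_nondeg hQ) (m := (LinearMap.BilinForm.toDual (polarBilin Q)
      (nondegenerate_of_nondeg hQ)).symm (B x)) (n := v)
  rw [LinearEquiv.apply_symm_apply] at h1
  exact h1.symm

variable [CharP F 2]

theorem exists_comp {Q : QuadraticForm F V} (hQ : Nondeg Q) {κ : QuadraticForm F N}
    (hκ : Nondeg κ) {ι : N →ₗ[F] V} (hι : Function.Injective ι) (h0 : ∀ x, Q (ι x) = 0) :
    ∃ j : N →ₗ[F] V, (∀ a b, polar Q (ι a) (j b) = polar κ a b) ∧ ∀ b, Q (j b) = 0 := by
  obtain ⟨p, hp⟩ := ι.exists_leftInverse_of_injective (LinearMap.ker_eq_bot.2 hι)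
  obtain ⟨j₀, hj₀⟩ := exists_rep_hom hQ (((LinearMap.lcomp F F p) ∘ₗ polarBilin κ) :
    N →ₗ[F] Module.Dual F V)
  have hj : ∀ a b, polar Q (j₀ b) (ι a) = polar κ b a := by
    intro a b
    rw [hj₀]
    show polar κ b (p (ι a)) = _
    have := congrArg (fun f : N →ₗ[F] N => f a) hp
    simp only [LinearMap.comp_apply, LinearMap.id_apply] at this
    rw [this]
  obtain ⟨B, hB⟩ := LinearMap.BilinMap.toQuadraticMap_surjective (Q.comp j₀)
  obtain ⟨c, hc⟩ := exists_rep_hom hκ (LinearMap.flip B)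
  have hpol : ∀ b, polar κ b (c b) = Q (j₀ b) := by
    intro b
    rw [polar_comm, hc]
    exact congrArg (fun q : QuadraticForm F N => q b) hB
  refine ⟨j₀ + ι ∘ₗ c, fun a b => ?_, fun b => ?_⟩
  · have h1 : polar Q (ι a) (ι (c b)) = 0 := by
      rw [polar, ← map_add, h0, h0, h0]
      simp
    rw [LinearMap.add_apply, LinearMap.comp_apply, polar_add_right, h1, add_zero, polar_comm, hj,
      polar_comm]
  · rw [LinearMap.add_apply, LinearMap.comp_apply, Q_add, h0, add_zero, hj, hpol]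
    exact CharTwo.add_self_eq_zero _

/-- **The model.** -/
theorem exists_model {Q : QuadraticForm F V} (hQ : Nondeg Q) {κ : QuadraticForm F N}
    (hκ : Nondeg κ) {ι : N →ₗ[F] V} (hι : Function.Injective ι) (h0 : ∀ x, Q (ι x) = 0) :
    ∃ (M : Submodule F V) (e : (N × N × M) ≃ₗ[F] V), Nondeg (res Q M) ∧
      (∀ a, e (a, 0, 0) = ι a) ∧ ∀ v, Q (e v) = qW κ (res Q M) v := by
  obtain ⟨j, hj, hj0⟩ := exists_comp hQ hκ hι h0
  have hιι : ∀ a b, polar Q (ι a) (ι b) = 0 := by
    intro a b
    rw [polar, ← map_add, h0, h0, h0]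
    simp
  have hjj : ∀ a b, polar Q (j a) (j b) = 0 := by
    intro a b
    rw [polar, ← map_add, hj0, hj0, hj0]
    simp
  have hji : ∀ a b, polar Q (j b) (ι a) = polar κ a b := by
    intro a b
    rw [polar_comm, hj]
  let W : Submodule F V := LinearMap.range ι ⊔ LinearMap.range j
  let M : Submodule F V := perp Q W
  have hMι : ∀ m ∈ M, ∀ a, polar Q m (ι a) = 0 := fun m hm a =>
    (mem_perp'.1 hm) _ (Submodule.mem_sup_left ⟨a, rfl⟩)
  have hMj : ∀ m ∈ M, ∀ a, polar Q m (j a) = 0 := fun m hm a =>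
    (mem_perp'.1 hm) _ (Submodule.mem_sup_right ⟨a, rfl⟩)
  let f : (N × N × M) →ₗ[F] V := ι.coprod (j.coprod M.subtype)
  have hf : ∀ v, f v = ι v.1 + (j v.2.1 + v.2.2) := fun v => rfl
  have hinj : Function.Injective f := by
    rw [← LinearMap.ker_eq_bot, eq_bot_iff]
    rintro ⟨a, b, m⟩ hv
    rw [LinearMap.mem_ker, hf] at hv
    simp only at hv
    have h1 : a = 0 := by
      apply hκ
      intro y
      have h2 : polar Q (ι a + (j b + (m : V))) (j y) = 0 := by rw [hv, polar_zero_left]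
      rwa [polar_add_left, polar_add_left, hj, hjj, hMj m m.2, add_zero, add_zero] at h2
    have h3 : b = 0 := by
      apply hκ
      intro y
      have h2 : polar Q (ι a + (j b + (m : V))) (ι y) = 0 := by rw [hv, polar_zero_left]
      rw [polar_add_left, polar_add_left, hιι, hji, hMι m m.2, add_zero, zero_add] at h2
      rw [polar_comm]
      exact h2
    rw [h1, h3, map_zero, map_zero, zero_add, zero_add] at hv
    have h4 : m = 0 := Subtype.ext hv
    rw [h1, h3, h4]
    exact Submodule.mem_bot F |>.2 rfl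
  have hsurj : Function.Surjective f := by
    intro v
    obtain ⟨b, hb⟩ := exists_rep_hom (L := F) hκ
      (LinearMap.toSpanSingleton F _ ((LinearMap.lcomp F F ι) (polarBilin Q v)))
    obtain ⟨a, ha⟩ := exists_rep_hom (L := F) hκ
      (LinearMap.toSpanSingleton F _ ((LinearMap.lcomp F F j) (polarBilin Q v)))
    have hb1 : ∀ x, polar κ (b 1) x = polar Q v (ι x) := by
      intro x
      rw [hb, LinearMap.toSpanSingleton_apply, one_smul]
      rfl
    have ha1 : ∀ x, polar κ (a 1) x = polar Q v (j x) := by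
      intro x
      rw [ha, LinearMap.toSpanSingleton_apply, one_smul]
      rfl
    have hm : v - ι (a 1) - j (b 1) ∈ M := by
      rw [mem_perp']
      intro w hw
      obtain ⟨w₁, ⟨x, rfl⟩, w₂, ⟨y, rfl⟩, rfl⟩ := Submodule.mem_sup.1 hw
      rw [polar_add_right, polar_sub_left, polar_sub_left, polar_sub_left, polar_sub_left, hιι,
        hji, hj, hjj, sub_zero, sub_zero, polar_comm κ x, hb1, ha1]
      ring
    refine ⟨(a 1, b 1, ⟨_, hm⟩), ?_⟩
    rw [hf]
    simp only
    abel
  have hbij : Function.Bijective f := ⟨hinj, hsurj⟩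
  refine ⟨M, LinearEquiv.ofBijective f hbij, ?_, ?_, ?_⟩
  · intro m hm
    apply Subtype.ext
    apply hQ
    intro y
    obtain ⟨v, rfl⟩ := hsurj y
    have h1 := hm v.2.2
    rw [polar_res] at h1
    rw [hf, polar_add_right, polar_add_right, hMι m m.2, hMj m m.2, h1, add_zero, add_zero]
  · intro a
    show f (a, 0, 0) = ι a
    rw [hf]
    simp
  · intro v
    show Q (f v) = _
    rw [hf, qW_apply, Q_add, Q_add, h0, hj0, polar_add_right, hj,
      polar_comm Q (j v.2.1), hMj _ v.2.2.2, polar_comm Q (ι v.1), hMι _ v.2.2.2, res_apply]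
    ring

/-- Transport of automorphisms. -/
def trE {V' : Type*} [AddCommGroup V'] [Module F V'] (e : V' ≃ₗ[F] V) :
    (V' ≃ₗ[F] V') ≃* (V ≃ₗ[F] V) where
  toFun g := (e.symm.trans g).trans e
  invFun g := (e.trans g).trans e.symm
  left_inv g := by ext x; simp
  right_inv g := by ext x; simp
  map_mul' g h := by ext x; simp

theorem trE_apply {V' : Type*} [AddCommGroup V'] [Module F V'] (e : V' ≃ₗ[F] V)
    (g : V' ≃ₗ[F] V') (x : V) : trE e g x = e (g (e.symm x)) := rfl

/-- Transport of the plane stabilisers. -/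
theorem planeK_equiv {V' : Type u} [AddCommGroup V'] [Module F V'] {Q : QuadraticForm F V}
    {Q' : QuadraticForm F V'} {κ : QuadraticForm F N} {ι : N →ₗ[F] V} {ι' : N →ₗ[F] V'}
    (e : V' ≃ₗ[F] V) (he : ∀ v, Q (e v) = Q' v) (hι : ∀ a, e (ι' a) = ι a) [Finite (planeK Q' κ ι')]
    {w : Prop} (h : FSGood w (planeK Q' κ ι')) : FSGood w (planeK Q κ ι) := by
  have h1 : (planeK Q' κ ι').map (trE e).toMonoidHom = planeK Q κ ι := by
    ext g
    rw [Subgroup.mem_map]
    constructor
    · rintro ⟨g', ⟨hg1, d, hd, hda⟩, rfl⟩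
      refine ⟨?_, d, hd, ?_⟩
      · intro v
        show Q (e (g' (e.symm v))) = Q v
        rw [he, hg1, ← he, LinearEquiv.apply_symm_apply]
      · intro x
        show e (g' (e.symm (ι x))) = ι (d x)
        rw [← hι, ← hι, LinearEquiv.symm_apply_apply, hda]
    · rintro ⟨hg1, d, hd, hda⟩
      refine ⟨(trE e).symm g, ⟨?_, d, hd, ?_⟩, (trE e).apply_symm_apply g⟩
      · intro v
        show Q' (e.symm (g (e v))) = Q' v
        rw [← he, ← he, LinearEquiv.apply_symm_apply, hg1]
      · intro x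
        show e.symm (g (e (ι' x))) = ι' (d x)
        rw [LinearEquiv.symm_apply_eq, hι, hι, hda]
  exact FSGood.of_mulEquiv (((trE e).subgroupMap (planeK Q' κ ι')).trans
    (MulEquiv.subgroupCongr h1)) h

end

/-- Reduction of `T4` to the groups `muS`. -/
theorem T4_of_muS (n : ℕ) (h0 : ∀ m < n, T0.{u} m)
    (hmu : ∀ k < n, ∀ (F : Type u) [Field F] [Finite F] [CharP F 2] (N : Type u) [AddCommGroup N]
      [Module F N] [FiniteDimensional F N] (M : Type u) [AddCommGroup M] [Module F M]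
      [FiniteDimensional F M] (κ : QuadraticForm F N) (QM : QuadraticForm F M), Nondeg κ →
      Module.finrank F N = 2 → Nondeg QM → Module.finrank F M = 2 * k → ∀ μ : N →ₗ[F] M,
      FSGood (∃ x : N, x ≠ 0 ∧ κ x = 0) (muS κ QM μ)) : T4.{u} n := by
  intro F V _ _ _ _ _ _ Q hQ hV N _ _ _ κ hκ hN ι hι hι0
  obtain ⟨M, e, hM, he1, he2⟩ := exists_model hQ hκ hι hι0
  have hfin := finite_aut F (N × N × M)
  have hdim := e.finrank_eq
  rw [Module.finrank_prod, Module.finrank_prod, hN, hV] at hdim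
  obtain ⟨k, hk⟩ : ∃ k, n = k + 2 := ⟨n - 2, by omega⟩
  have hMk : Module.finrank F M = 2 * k := by omega
  have hkn : k < n := by omega
  refine planeK_equiv e he2 he1 (Q' := qW κ (res Q M)) (ι' := LinearMap.inl F N (N × M)) ?_
  intro χ hχ
  by_cases hker : ∀ c : F, χ ⟨zc c, zc_mem_XK hκ c⟩ = χ 1
  · exact lin_case hκ hM hN (hmu k hkn F N M κ (res Q M) hκ hN hM hMk) hχ hker
  · push Not at hker
    exact Or.inl (nonlin_case hκ hM hN (h0 k hkn F M (res Q M) hM hMk) hχ hker)

end Cfsg.Agent.H592.FSFour
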