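import Cfsg.Agent.H592.FSFourEx
import Cfsg.Agent.H955.FSZero

/-!
# The groups `muS κ QM μ` for `μ` injective or zero (T4)
-/

set_option autoImplicit false
set_option linter.unusedSectionVars false

universe u

namespace Cfsg.Agent.H592.FSFour

open Cfsg QuadraticMap
open Cfsg.Agent.LieClassical.OrthCore Cfsg.Agent.H955.FS
open Cfsg.Agent.H955 (res perp mem_perp mem_perp' res_apply polar_res)
open Cfsg.Agent.H955 (nondegenerate_of_nondeg glue glue_left glue_right glue_mem_O nondeg_perp
  finrank_add_perp)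

variable {F N M : Type u} [Field F] [Finite F] [CharP F 2] [AddCommGroup N] [Module F N]
  [FiniteDimensional F N] [AddCommGroup M] [Module F M] [FiniteDimensional F M]
  {κ : QuadraticForm F N} {QM : QuadraticForm F M} {μ : N →ₗ[F] M}

theorem good_plane (hκ : Nondeg κ) (hN : Module.finrank F N = 2) : FSGood False ↥(O κ) := by
  have hfN := finite_aut F N
  obtain ⟨C, hCO, hCodd, hCsq, ⟨g₀, hg₀, hg₀C⟩, -⟩ := plane_compl κ hκ hN
  refine FSGood.mono ?_ (fsGood_of_compl (C.subgroupOf (O κ)) ?_ ?_)
  · intro h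
    apply hg₀C
    have h1 : (⟨g₀, hg₀⟩ : O κ) ∈ C.subgroupOf (O κ) := by
      rw [h]
      exact Subgroup.mem_top _
    exact h1
  · rw [Nat.card_congr (Subgroup.subgroupOfEquivOfLe hCO).toEquiv]
    exact hCodd
  · intro x hx
    exact Subtype.ext (hCsq x x.2 hx)

theorem muS_zero {k : ℕ} (h0 : T0.{u} k) (hκ : Nondeg κ) (hN : Module.finrank F N = 2)
    (hQM : Nondeg QM) (hM : Module.finrank F M = 2 * k) : FSGood False (muS κ QM 0) := by
  have hfN := finite_aut F N
  have hfM := finite_aut F M
  have h1 : FSGood False (↥(O κ) × ↥(O QM)) := FSGood.prod (good_plane hκ hN)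
    (h0 F M QM hQM hM)
  have h2 : muS κ QM 0 = ⊤ := by
    rw [eq_top_iff]
    intro p _
    rw [mem_muS]
    intro x
    simp
  rw [h2]
  exact FSGood.of_mulEquiv Subgroup.topEquiv.symm h1

/-- For `μ` injective, `muS` is the stabiliser `planeK`. -/
theorem muS_equiv (hμ : Function.Injective μ) {w : Prop} (h : FSGood w (planeK QM κ μ)) :
    FSGood w (muS κ QM μ) := by
  have hfM := finite_aut F M
  let f : muS κ QM μ →* planeK QM κ μ :=
    { toFun := fun p => ⟨((p : ↥(O κ) × ↥(O QM)).2 : M ≃ₗ[F] M),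
        (p : ↥(O κ) × ↥(O QM)).2.2, (p : ↥(O κ) × ↥(O QM)).1, (p : ↥(O κ) × ↥(O QM)).1.2,
        fun x => (mem_muS.1 p.2 x)⟩
      map_one' := rfl
      map_mul' := fun _ _ => rfl }
  have hf : Function.Bijective f := by
    constructor
    · intro p q hpq
      have h1 : ((p : ↥(O κ) × ↥(O QM)).2 : M ≃ₗ[F] M) = (q : ↥(O κ) × ↥(O QM)).2 :=
        congrArg (fun z : planeK QM κ μ => (z : M ≃ₗ[F] M)) hpq
      apply Subtype.ext
      refine Prod.ext (Subtype.ext ?_) (Subtype.ext h1)
      ext x
      apply hμ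
      rw [← mem_muS.1 p.2 x, ← mem_muS.1 q.2 x, h1]
    · rintro ⟨g, hg, d, hd, hda⟩
      exact ⟨⟨(⟨d, hd⟩, ⟨g, hg⟩), mem_muS.2 hda⟩, rfl⟩
  exact FSGood.of_mulEquiv (MulEquiv.ofBijective f hf).symm h

/-- two forms on the plane -/
theorem good_two_forms {κ' : QuadraticForm F N} (hκ : Nondeg κ) (hκ' : Nondeg κ')
    (hN : Module.finrank F N = 2) : FSGood False ↥(O κ ⊓ O κ') := by
  have hfN := finite_aut F N
  obtain ⟨C, hCO, hCodd, hCsq, hCtop⟩ := plane_two_forms κ κ' hκ hκ' hN
  by_cases hC : C = O κ ⊓ O κ'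
  · have h1 := hCtop hC
    refine good_of_sq fun x => ?_
    have h2 : (x : N ≃ₗ[F] N) ∈ C := by
      rw [hC]
      exact x.2
    rw [h1] at h2
    have h3 : x = 1 := Subtype.ext (Subgroup.mem_bot.1 h2)
    rw [h3, mul_one]
  · refine FSGood.mono ?_ (fsGood_of_compl (C.subgroupOf (O κ ⊓ O κ')) ?_ ?_)
    · intro h
      apply hC
      refine le_antisymm hCO ?_
      exact Subgroup.subgroupOf_eq_top.1 h
    · rw [Nat.card_congr (Subgroup.subgroupOfEquivOfLe hCO).toEquiv]
      exact hCodd
    · intro x hx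
      exact Subtype.ext (hCsq x x.2 hx)

theorem polar_compμ (a b : N) : polar (QM.comp μ) a b = polar QM (μ a) (μ b) := by
  unfold polar
  rw [QuadraticMap.comp_apply, QuadraticMap.comp_apply, QuadraticMap.comp_apply, map_add]

/-- The image of the plane is nondegenerate. -/
theorem planeK_nondeg {k : ℕ} (h0 : ∀ m ≤ k, T0.{u} m) (hκ : Nondeg κ)
    (hN : Module.finrank F N = 2) (hQM : Nondeg QM) (hM : Module.finrank F M = 2 * k)
    (hμ : Function.Injective μ) (hq : Nondeg (QM.comp μ)) : FSGood False (planeK QM κ μ) := by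
  have hfN := finite_aut F N
  have hfM := finite_aut F M
  let U : Submodule F M := LinearMap.range μ
  let ε : N ≃ₗ[F] U := LinearEquiv.ofInjective μ hμ
  have hε : ∀ x, ((ε x : U) : M) = μ x := fun x => rfl
  have hU : Nondeg (res QM U) := by
    intro x hx
    obtain ⟨a, rfl⟩ := ε.surjective x
    have h1 : a = 0 := by
      apply hq
      intro b
      rw [polar_compμ]
      exact hx (ε b)
    rw [h1, map_zero]
  have hU2 : Module.finrank F U = 2 := by rw [← ε.finrank_eq, hN]
  have hsum := finrank_add_perp hQM U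
  rw [hU2, hM] at hsum
  have hP : FSGood False ↥(O (res QM (perp QM U))) :=
    h0 (k - 1) (by omega) F _ (res QM (perp QM U)) (nondeg_perp hQM hU) (by omega)
  have hfP := finite_aut F (perp QM U)
  let f : (↥(O κ ⊓ O (QM.comp μ)) × ↥(O (res QM (perp QM U)))) →* (M ≃ₗ[F] M) :=
    (glue hU).comp (((trE ε).toMonoidHom.comp (O κ ⊓ O (QM.comp μ)).subtype).prodMap
      (O (res QM (perp QM U))).subtype)
  have hf : ∀ p, f p = glue hU (trE ε (p.1 : N ≃ₗ[F] N), (p.2 : perp QM U ≃ₗ[F] perp QM U)) :=
    fun p => rfl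
  have hfμ : ∀ p x, f p (μ x) = μ ((p.1 : N ≃ₗ[F] N) x) := by
    intro p x
    rw [hf, ← hε, glue_left]
    show ((trE ε (p.1 : N ≃ₗ[F] N) (ε x) : U) : M) = _
    rw [trE_apply, LinearEquiv.symm_apply_apply, hε]
  have hrange : f.range = planeK QM κ μ := by
    ext g
    constructor
    · rintro ⟨p, rfl⟩
      refine ⟨?_, p.1, p.1.2.1, hfμ p⟩
      rw [hf, glue_mem_O]
      refine ⟨?_, p.2.2⟩
      intro u
      obtain ⟨a, rfl⟩ := ε.surjective u
      show res QM U (trE ε (p.1 : N ≃ₗ[F] N) (ε a)) = res QM U (ε a)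
      rw [trE_apply, LinearEquiv.symm_apply_apply]
      exact p.1.2.2 a
    · rintro ⟨hg, d, hd, hda⟩
      obtain ⟨p, hp1, hp2, hpg⟩ := exists_glue hU hg (by
        rintro _ ⟨x, rfl⟩
        exact ⟨d x, (hda x).symm⟩)
      have hdq : d ∈ O (QM.comp μ) := by
        intro x
        show QM (μ (d x)) = QM (μ x)
        rw [← hda, hg]
      have h1 : p.1 = trE ε d := by
        ext u
        obtain ⟨a, rfl⟩ := ε.surjective u
        rw [trE_apply, LinearEquiv.symm_apply_apply, hε, ← hda, ← hpg, ← hε, glue_left]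
      refine ⟨(⟨d, hd, hdq⟩, ⟨p.2, hp2⟩), ?_⟩
      rw [hf, ← hpg, ← h1]
  have h1 : FSGood False f.range := ((good_two_forms hκ hq hN).prod hP).of_surjective
    f.rangeRestrict f.rangeRestrict_surjective
  rw [hrange] at h1
  exact h1

/-- The form does not vanish on the image of the plane, its polar form does. -/
theorem planeK_trans {k : ℕ} (h5 : T5.{u} k) (hκ : Nondeg κ)
    (hN : Module.finrank F N = 2) (hQM : Nondeg QM) (hM : Module.finrank F M = 2 * k)
    (hμ : Function.Injective μ) (hq : ∀ a b, polar QM (μ a) (μ b) = 0) (hq1 : ∃ u, QM (μ u) ≠ 0) :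
    FSGood False (planeK QM κ μ) := by
  obtain ⟨v, hu⟩ := hq1
  have hadd : ∀ a b, QM (μ (a + b)) = QM (μ a) + QM (μ b) := by
    intro a b
    rw [map_add, Q_add, hq, add_zero]
  have hsm : ∀ (c : F) a, QM (μ (c • a)) = c * c * QM (μ a) := by
    intro c a
    rw [map_smul, QuadraticMap.map_smul, smul_eq_mul]
  have hv0 : v ≠ 0 := by
    rintro rfl
    exact hu (by rw [map_zero, QuadraticMap.map_zero])
  obtain ⟨w, hw⟩ := hκ.exists_polar_eq hv0 1
  obtain ⟨c, hc⟩ := FiniteField.isSquare_of_char_two (ringChar.eq F 2) (QM (μ w) / QM (μ v))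
  set s : N := w + c • v with hs
  have hself : ∀ x : N, polar κ x x = 0 := polar_self0 κ
  have hvs : polar κ v s = 1 := by
    rw [hs, polar_add_right, polar_smul_right, hw, hself, smul_zero, add_zero]
  have hsv : polar κ s v = 1 := by rw [polar_comm, hvs]
  have hs0 : s ≠ 0 := by
    intro h
    rw [h, polar_zero_right] at hvs
    exact zero_ne_one hvs
  have hQs : QM (μ s) = 0 := by
    rw [hs, hadd, hsm, ← hc, div_mul_cancel₀ _ hu]
    exact CharTwo.add_self_eq_zero _
  clear_value s
  have hexp := fun x => H955.FS.Plane.expand hN hvs x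
  let Γ : AddSubgroup F :=
    { carrier := {γ | γ * γ * κ s + γ = 0}
      zero_mem' := by simp
      add_mem' := by
        intro a b ha hb
        show (a + b) * (a + b) * κ s + (a + b) = 0
        have ha' : a * a * κ s + a = 0 := ha
        have hb' : b * b * κ s + b = 0 := hb
        have h2 : (2 : F) = 0 := CharTwo.two_eq_zero
        linear_combination ha' + hb' + (a * b * κ s) * h2
      neg_mem' := by
        intro a ha
        show (-a) * (-a) * κ s + (-a) = 0
        have ha' : a * a * κ s + a = 0 := ha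
        have h2 : (2 : F) = 0 := CharTwo.two_eq_zero
        linear_combination ha' - a * h2 }
  have hΓ : ∀ γ, γ ∈ Γ ↔ γ * γ * κ s + γ = 0 := fun γ => Iff.rfl
  have hgroup : planeK QM κ μ = transV QM (μ s) (μ v) Γ := by
    ext g
    rw [mem_planeK, mem_transV]
    constructor
    · rintro ⟨hg, d, hd, hda⟩
      have hdq : ∀ x, QM (μ (d x)) = QM (μ x) := by
        intro x
        rw [← hda, hg]
      -- `d s`
      have h1 : d s = polar κ (d s) v • s := by
        have h2 := hexp (d s)
        have h3 := hdq s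
        rw [h2, hadd, hsm, hsm, hQs, mul_zero, add_zero] at h3
        have h4 : polar κ (d s) s = 0 := by
          rcases mul_eq_zero.1 h3 with h4 | h4
          · exact mul_self_eq_zero.1 h4
          · exact absurd h4 hu
        rw [h4, zero_smul, zero_add] at h2
        exact h2
      have h5 : polar κ (d v) s = 1 := by
        have h2 := hexp (d v)
        have h3 := hdq v
        rw [h2, hadd, hsm, hsm, hQs, mul_zero, add_zero] at h3
        have h4 : polar κ (d v) s * polar κ (d v) s = 1 :=
          mul_right_cancel₀ hu (by rw [h3, one_mul])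
        rcases mul_self_eq_one_iff.1 h4 with h6 | h6
        · exact h6
        · rw [h6]
          exact CharTwo.neg_eq 1
      have h6 : polar κ (d s) v = 1 := by
        have h7 := polar_map hd v s
        rw [h1, polar_smul_right, h5, hvs, smul_eq_mul, mul_one] at h7
        exact h7
      rw [h6, one_smul] at h1
      have h8 : d v = v + polar κ (d v) v • s := by
        conv_lhs => rw [hexp (d v), h5, one_smul]
      refine ⟨hg, ?_, polar κ (d v) v, ?_, ?_⟩
      · rw [hda, h1]
      · rw [hΓ]
        have h9 := hd v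
        rw [h8, Q_add, QuadraticMap.map_smul, polar_smul_right, hvs, smul_eq_mul, smul_eq_mul,
          mul_one] at h9
        rw [add_assoc] at h9
        exact left_eq_add.1 h9.symm
      · rw [hda, h8, map_add, map_smul]
        congr 2
        rw [← h8]
    · rintro ⟨hg, hgs, γ, hγ, hgv⟩
      refine ⟨hg, ?_⟩
      rw [hΓ] at hγ
      by_cases hγ0 : γ = 0
      · refine ⟨1, one_mem _, fun x => ?_⟩
        show g (μ x) = μ x
        rw [hexp x, map_add, map_smul, map_smul, map_add, map_smul, map_smul, hgs, hgv, hγ0,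
          zero_smul, add_zero]
      · have hκs : γ * κ s + 1 = 0 := by
          have h1 : γ * (γ * κ s + 1) = 0 := by
            linear_combination hγ
          exact (mul_eq_zero.1 h1).resolve_left hγ0
        have hκs0 : κ s ≠ 0 := by
          intro h
          rw [h, mul_zero, zero_add] at hκs
          exact one_ne_zero hκs
        have hγs : (κ s)⁻¹ = γ := by
          have h1 : γ * κ s = 1 := by
            have h2 : (2 : F) = 0 := CharTwo.two_eq_zero
            linear_combination hκs - h2
          exact inv_eq_of_mul_eq_one_left h1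
        refine ⟨refl κ s hκs0, refl_mem_O hκs0, fun x => ?_⟩
        have h1 : refl κ s hκs0 v = v + γ • s := by
          rw [refl_apply, hsv, mul_one, hγs, sub_eq_add_neg, ← neg_smul, CharTwo.neg_eq]
        have h2 : refl κ s hκs0 s = s := by
          rw [refl_apply, hself, mul_zero, zero_smul, sub_zero]
        have h3 : refl κ s hκs0 x = polar κ x s • (v + γ • s) + polar κ x v • s := by
          conv_lhs => rw [hexp x]
          rw [map_add, map_smul, map_smul, h1, h2]
        rw [h3]
        conv_lhs => rw [hexp x]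
        rw [map_add, map_smul, map_smul, map_add, map_smul, map_smul, hgs, hgv, map_add, map_smul,
          map_smul, map_add, map_smul]
  rw [hgroup]
  exact h5 F M QM hQM hM (μ s) (μ v) Γ (fun h => hs0 (hμ (by rw [h, map_zero]))) hQs hu (hq s v)

/-- **PIECE A.** -/
theorem muS_inj {k : ℕ} (h0 : ∀ m ≤ k, T0.{u} m) (h4 : T4.{u} k) (h5 : T5.{u} k) (hκ : Nondeg κ)
    (hN : Module.finrank F N = 2) (hQM : Nondeg QM) (hM : Module.finrank F M = 2 * k)
    (hμ : Function.Injective μ) : FSGood (∃ x : N, x ≠ 0 ∧ κ x = 0) (muS κ QM μ) := by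
  apply muS_equiv hμ
  by_cases hp : ∀ a b, polar QM (μ a) (μ b) = 0
  · by_cases h1 : ∀ x, QM (μ x) = 0
    · exact h4 F M QM hQM hM N κ hκ hN μ hμ h1
    · push Not at h1
      exact (planeK_trans h5 hκ hN hQM hM hμ hp h1).mono False.elim
  · refine (planeK_nondeg h0 hκ hN hQM hM hμ ?_).mono False.elim
    obtain ⟨γ, hγ⟩ := H955.FS.Plane.polar_prop hκ hN (QM.comp μ)
    have hγ0 : γ ≠ 0 := by
      rintro rfl
      apply hp
      intro a b
      rw [← polar_compμ, hγ, zero_mul]
    intro x hx
    apply hκ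
    intro y
    have h1 := hx y
    rw [hγ] at h1
    exact (mul_eq_zero.1 h1).resolve_left hγ0

end Cfsg.Agent.H592.FSFour
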