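import Cfsg.Agent.H592.FSModel
import Cfsg.Agent.H955.FSAmb
import Cfsg.Agent.H955.FSDual

/-!
# The characters trivial on the centre of the unipotent radical (T4, first half)
-/

set_option autoImplicit false
set_option linter.unusedSectionVars false

universe u

namespace Cfsg.Agent.H592.FSFour

open Cfsg QuadraticMap
open Cfsg.Agent.LieClassical.OrthCore Cfsg.Agent.H955.FS

variable {F N M : Type u} [Field F] [CharP F 2] [AddCommGroup N] [Module F N] [AddCommGroup M]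
  [Module F M]

/-- The elements `zc c`. -/
def zg (F N M : Type u) [Field F] [CharP F 2] [AddCommGroup N] [Module F N] [AddCommGroup M]
    [Module F M] : Subgroup ((N × N × M) ≃ₗ[F] (N × N × M)) where
  carrier := Set.range (zc (F := F) (N := N) (M := M))
  one_mem' := ⟨0, zc_zero⟩
  mul_mem' := by
    rintro _ _ ⟨a, rfl⟩ ⟨b, rfl⟩
    exact ⟨a + b, (zc_mul a b).symm⟩
  inv_mem' := by
    rintro _ ⟨a, rfl⟩
    exact ⟨a, (zc_inv a).symm⟩

theorem mem_zg {g : (N × N × M) ≃ₗ[F] (N × N × M)} : g ∈ zg F N M ↔ ∃ c, zc c = g := Iff.rfl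

theorem finite_aut (F V : Type u) [Field F] [Finite F] [AddCommGroup V] [Module F V]
    [FiniteDimensional F V] : Finite (V ≃ₗ[F] V) := by
  have : Finite V := Module.finite_of_finite F
  exact Finite.of_injective (fun g : V ≃ₗ[F] V => (g : V → V)) DFunLike.coe_injective

/-- The stabiliser of the plane with its form, in the model. -/
abbrev XK (κ : QuadraticForm F N) (QM : QuadraticForm F M) :
    Subgroup ((N × N × M) ≃ₗ[F] (N × N × M)) :=
  planeK (qW κ QM) κ (LinearMap.inl F N (N × M))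

variable {κ : QuadraticForm F N} {QM : QuadraticForm F M}

theorem mem_XK {g : (N × N × M) ≃ₗ[F] (N × N × M)} : g ∈ XK κ QM ↔
    g ∈ O (qW κ QM) ∧ ∃ d ∈ O κ, ∀ a, g (a, 0, 0) = (d a, 0, 0) := Iff.rfl

theorem XK_exists_act [FiniteDimensional F M] (hκ : Nondeg κ) (hQM : Nondeg QM)
    {g : (N × N × M) ≃ₗ[F] (N × N × M)} (hg : g ∈ XK κ QM) :
    ∃ p : ↥(O κ) × ↥(O QM), Act κ QM g p.1 p.2 := by
  obtain ⟨hgO, d, hd, hda⟩ := hg
  obtain ⟨h, hh, hact⟩ := exists_act hκ hQM hgO hda hd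
  exact ⟨(⟨d, hd⟩, ⟨h, hh⟩), hact⟩

theorem rad_le_XK (hκ : Nondeg κ) : rad κ QM hκ ≤ XK κ QM := fun _ hg =>
  ⟨hg.1, 1, one_mem _, hg.2.1⟩

theorem levi_mem_XK (p : ↥(O κ) × ↥(O QM)) : levi κ QM p ∈ XK κ QM :=
  ⟨levi_mem_O κ QM p, p.1, p.1.2, (Act.levi p).2.1⟩

theorem zc_mem_XK (hκ : Nondeg κ) (c : F) : zc c ∈ XK κ QM := rad_le_XK hκ (zc_mem_rad hκ c)

theorem Act.inv [FiniteDimensional F M] (hκ : Nondeg κ) (hQM : Nondeg QM)
    {g : (N × N × M) ≃ₗ[F] (N × N × M)} {p : ↥(O κ) × ↥(O QM)} (hg : Act κ QM g p.1 p.2) :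
    Act κ QM g⁻¹ (p⁻¹).1 (p⁻¹).2 := by
  have h1 : g⁻¹ ∈ XK κ QM := inv_mem ⟨hg.1, p.1, p.1.2, hg.2.1⟩
  obtain ⟨q, hq⟩ := XK_exists_act hκ hQM h1
  have h2 := Act.mul hκ q.1.2 hg hq
  rw [mul_inv_cancel] at h2
  obtain ⟨h3, h4⟩ := Act.eq h2 Act.one
  have h5 : p * q = 1 := by
    refine Prod.ext (Subtype.ext ?_) (Subtype.ext ?_)
    · exact h3
    · exact h4
  have h6 : q = p⁻¹ := (inv_eq_of_mul_eq_one_right h5).symm
  rw [← h6]
  exact hq

theorem conj_mem_rad [FiniteDimensional F M] (hκ : Nondeg κ) (hQM : Nondeg QM)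
    {g r : (N × N × M) ≃ₗ[F] (N × N × M)} (hg : g ∈ XK κ QM) (hr : r ∈ rad κ QM hκ) :
    g * r * g⁻¹ ∈ rad κ QM hκ := by
  obtain ⟨p, hp⟩ := XK_exists_act hκ hQM hg
  have h1 := Act.mul hκ (p⁻¹).1.2 (Act.mul hκ (one_mem _) hp hr) (Act.inv hκ hQM hp)
  have h2 : (p.1 : N ≃ₗ[F] N) * 1 * ((p⁻¹).1 : N ≃ₗ[F] N) = 1 := by
    have : p.1 * (p⁻¹).1 = 1 := by
      rw [Prod.fst_inv, mul_inv_cancel]
    rw [mul_one]
    exact congrArg Subtype.val this
  have h3 : (p.2 : M ≃ₗ[F] M) * 1 * ((p⁻¹).2 : M ≃ₗ[F] M) = 1 := by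
    have : p.2 * (p⁻¹).2 = 1 := by
      rw [Prod.snd_inv, mul_inv_cancel]
    rw [mul_one]
    exact congrArg Subtype.val this
  rw [h2, h3] at h1
  exact h1

/-- `zc c` is centralised by the stabiliser. -/
theorem XK_zc (hκ : Nondeg κ) {g : (N × N × M) ≃ₗ[F] (N × N × M)} (hg : g ∈ XK κ QM) (c : F) :
    g * zc c = zc c * g := by
  obtain ⟨hgO, d, hd, hda⟩ := mem_XK.1 hg
  ext v : 1
  show g (zc c v) = zc c (g v)
  rw [zc_apply, zc_apply, Act.mid hκ hgO hda hd]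
  have h1 : ((v.1 + c • v.2.1, v.2.1, v.2.2) : N × N × M) = v + c • (v.2.1, 0, 0) := by
    ext <;> simp
  rw [h1, map_add, map_smul, hda]
  refine Prod.ext ?_ (Prod.ext ?_ ?_)
  · simp
  · simp [Act.mid hκ hgO hda hd]
  · simp

theorem sq_mem_zg [FiniteDimensional F N] (hκ : Nondeg κ) (hQM : Nondeg QM)
    (hN : Module.finrank F N = 2) {g : (N × N × M) ≃ₗ[F] (N × N × M)} (hg : g ∈ rad κ QM hκ) :
    g * g ∈ zg F N M := by
  obtain ⟨c, hc⟩ := exists_zc hκ hQM hN (mul_mem hg hg) (by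
    intro m
    have h1 : g (0, 0, m) = ((g (0, 0, m)).1, 0, 0) + (0, 0, m) := by
      refine Prod.ext ?_ (Prod.ext ?_ ?_)
      · simp
      · have := Act.mid (d := 1) hκ hg.1 hg.2.1 (one_mem _) (0, 0, m)
        simpa using this
      · have := hg.2.2 m
        simpa using this
    show (g (g (0, 0, m))).1 = 0
    rw [h1, map_add, hg.2.1, Prod.fst_add]
    exact two_smul_zero (F := F) _)
  exact ⟨c, hc.symm⟩

/-- The linear map attached to a linear character of the unipotent radical. -/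
theorem exists_mu [Finite F] [FiniteDimensional F N] [FiniteDimensional F M] (hκ : Nondeg κ)
    (hQM : Nondeg QM) (hN : Module.finrank F N = 2) {ψ : AddChar F ℂ} (hψ : ∃ a, ψ a ≠ 1)
    (lam : ((N × N × M) ≃ₗ[F] (N × N × M)) → ℂ)
    (hlam : ∀ a ∈ rad κ QM hκ, ∀ b ∈ rad κ QM hκ, lam (a * b) = lam a * lam b)
    (hz : ∀ c, lam (zc c) = 1) :
    ∃ μ : N →ₗ[F] M, ∀ n w, lam (sg κ QM n w) = ψ (polar QM (μ n) w) := by
  have h1 : lam 1 = 1 := by rw [← zc_zero (F := F) (N := N) (M := M)]; exact hz 0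
  have hex : ∀ n : N, ∃ m : M, ∀ w, lam (sg κ QM n w) = ψ (polar QM m w) := by
    intro n
    exact exists_dual hQM hψ
      { toFun := fun w => lam (sg κ QM n w)
        map_zero_eq_one' := by rw [sg_zero, h1]
        map_add_eq_mul' := fun w w' => by
          rw [← sg_mul, hlam _ (sg_mem_rad hκ _ _) _ (sg_mem_rad hκ _ _)] }
  choose μ₀ hμ₀ using hex
  have huniq : ∀ a b : M, (∀ w, ψ (polar QM a w) = ψ (polar QM b w)) → a = b := by
    intro a b hab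
    apply polChar_injective hQM hψ
    ext w
    exact hab w
  refine ⟨⟨⟨μ₀, ?_⟩, ?_⟩, hμ₀⟩
  · intro n n'
    apply huniq
    intro w
    rw [← hμ₀, sg_add κ QM hκ hN, hlam _ (zc_mem_rad hκ _) _ (mul_mem (sg_mem_rad hκ _ _)
      (sg_mem_rad hκ _ _)), hz, one_mul, hlam _ (sg_mem_rad hκ _ _) _ (sg_mem_rad hκ _ _), hμ₀,
      hμ₀, polar_add_left, AddChar.map_add_eq_mul]
  · intro c n
    apply huniq
    intro w
    show ψ (polar QM (μ₀ (c • n)) w) = ψ (polar QM (c • μ₀ n) w)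
    rw [← hμ₀, sg_smul, hμ₀, polar_smul_left, polar_smul_right]

/-- **The characters of the stabiliser which are trivial on the centre of the unipotent radical.** -/
theorem lin_case [Finite F] [FiniteDimensional F N] [FiniteDimensional F M] (hκ : Nondeg κ)
    (hQM : Nondeg QM) (hN : Module.finrank F N = 2) {w : Prop}
    (hμ : ∀ μ : N →ₗ[F] M, FSGood w (muS κ QM μ)) {χ : XK κ QM → ℂ}
    (hχ : IsIrrCharacter (XK κ QM) χ)
    (hker : ∀ c : F, χ ⟨zc c, zc_mem_XK hκ c⟩ = χ 1) : fsi χ = 1 ∨ (w ∧ fsi χ = 0) := by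
  classical
  have hfin := finite_aut F (N × N × M)
  have hfN := finite_aut F N
  have hfM := finite_aut F M
  set R := rad κ QM hκ with hR
  have hRX : R ≤ XK κ QM := rad_le_XK hκ
  obtain ⟨lam, hl1, hl2, hl3, hl4⟩ := exists_linear (R.subgroupOf (XK κ QM))
    ((zg F N M).subgroupOf (XK κ QM)) (by
      intro x hx
      rw [Subgroup.mem_subgroupOf] at hx ⊢
      obtain ⟨c, hc⟩ := hx
      rw [← hc]
      exact zc_mem_rad hκ c) (by
      intro a ha
      rw [Subgroup.mem_subgroupOf] at ha ⊢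
      exact sq_mem_zg hκ hQM hN ha) hχ (by
      intro z hz
      rw [Subgroup.mem_subgroupOf] at hz
      obtain ⟨c, hc⟩ := hz
      have : z = ⟨zc c, zc_mem_XK hκ c⟩ := Subtype.ext hc.symm
      rw [this]
      exact hker c)
  let lam' : ((N × N × M) ≃ₗ[F] (N × N × M)) → ℂ := fun g =>
    if h : ∃ hg : g ∈ XK κ QM, (⟨g, hg⟩ : XK κ QM) ∈ R.subgroupOf (XK κ QM) then
    lam ⟨⟨g, h.1⟩, h.2⟩ else 0
  have hl : ∀ (a : R.subgroupOf (XK κ QM)), lam' ((a : XK κ QM) : _) = lam a := by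
    intro a
    simp only [lam']
    rw [dif_pos ⟨a.1.2, a.2⟩]
  have hl' : ∀ (a) (ha : a ∈ R), lam' a
      = lam ⟨⟨a, hRX ha⟩, Subgroup.mem_subgroupOf.2 ha⟩ := fun a ha =>
    hl ⟨⟨a, hRX ha⟩, Subgroup.mem_subgroupOf.2 ha⟩
  have hm : ∀ a ∈ R, ∀ b ∈ R, lam' (a * b) = lam' a * lam' b := by
    intro a ha b hb
    rw [hl' _ (mul_mem ha hb), hl' _ ha, hl' _ hb, ← hl1]
    rfl
  have hp : ∀ a ∈ R, lam' a = 1 ∨ lam' a = -1 := by
    intro a ha
    rw [hl' _ ha]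
    exact hl2 _
  have hz : ∀ c, lam' (zc c) = 1 := by
    intro c
    rw [hl' _ (zc_mem_rad hκ c)]
    apply hl3
    exact ⟨c, rfl⟩
  obtain ⟨ψ, hψ⟩ := exists_psi F
  obtain ⟨μ, hμψ⟩ := exists_mu hκ hQM hN hψ lam' hm hz
  obtain ⟨e₁, he₁⟩ := H955.FS.Plane.exists_ne_zero hN (F := F) (N := N)
  obtain ⟨e₂, he⟩ := hκ.exists_polar_eq he₁ 1
  refine clifford_amb (XK κ QM) R hRX (fun x hx a ha => conj_mem_rad hκ hQM hx ha)
    (levi κ QM) levi_mem_XK ?_ ?_ lam' hm hp (muS κ QM μ) ?_ (hμ μ) hχ ?_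
  · intro y hy
    obtain ⟨h1, h2⟩ := Act.eq (Act.levi y) hy
    exact Prod.ext (Subtype.ext h1) (Subtype.ext h2)
  · intro x hx
    obtain ⟨p, hp⟩ := XK_exists_act hκ hQM hx
    exact ⟨_, dec_levi hκ hp, p, (inv_mul_cancel_right x _).symm⟩
  · intro y
    rw [mem_muS]
    constructor
    · intro hy a ha
      obtain ⟨c, m₁, m₂, rfl⟩ := exists_dec hκ hQM hN he ha
      have h1 : levi κ QM y * (zc c * (sg κ QM e₁ m₁ * sg κ QM e₂ m₂)) * (levi κ QM y)⁻¹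
          = (levi κ QM y * zc c * (levi κ QM y)⁻¹) *
            ((levi κ QM y * sg κ QM e₁ m₁ * (levi κ QM y)⁻¹) *
            (levi κ QM y * sg κ QM e₂ m₂ * (levi κ QM y)⁻¹)) := by group
      rw [h1, levi_zc, levi_sg, levi_sg]
      rw [hm _ (zc_mem_rad hκ _) _ (mul_mem (sg_mem_rad hκ _ _) (sg_mem_rad hκ _ _)),
        hm _ (sg_mem_rad hκ _ _) _ (sg_mem_rad hκ _ _),
        hm _ (zc_mem_rad hκ _) _ (mul_mem (sg_mem_rad hκ _ _) (sg_mem_rad hκ _ _)),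
        hm _ (sg_mem_rad hκ _ _) _ (sg_mem_rad hκ _ _), hμψ, hμψ, hμψ, hμψ, ← hy, ← hy,
        polar_map y.2.2, polar_map y.2.2]
    · intro h x
      have h1 : ∀ w, ψ (polar QM (μ ((y.1 : N ≃ₗ[F] N) x)) ((y.2 : M ≃ₗ[F] M) w))
          = ψ (polar QM (μ x) w) := by
        intro w
        rw [← hμψ, ← hμψ, ← levi_sg]
        exact h _ (sg_mem_rad hκ _ _)
      have h2 := polar_eq_of_psi QM hψ ((y.2 : M ≃ₗ[F] M) : M →ₗ[F] M) h1
      rw [← sub_eq_zero]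
      apply hQM
      intro z
      obtain ⟨w, rfl⟩ := (y.2 : M ≃ₗ[F] M).surjective z
      rw [polar_sub_left, polar_map y.2.2]
      have h3 := h2 w
      rw [LinearEquiv.coe_coe] at h3
      rw [h3, sub_self]
  · intro h
    apply hl4
    rw [← h]
    let e : R.subgroupOf (XK κ QM) ≃ R := (Subgroup.subgroupOfEquivOfLe hRX).toEquiv
    refine finsum_eq_of_bijective e e.bijective (fun a => ?_)
    rw [← hl a]
    rfl

end Cfsg.Agent.H592.FSFour
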