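import Cfsg.Agent.H592.FSFourDih

/-!
# The characters which are not trivial on the centre of the unipotent radical (T4, third part)
-/

set_option autoImplicit false
set_option linter.unusedSectionVars false

universe u

namespace Cfsg.Agent.H592.FSFour

open Cfsg QuadraticMap
open Cfsg.Agent.LieClassical.OrthCore Cfsg.Agent.H955.FS
open Cfsg.Agent.Characters.Core
open scoped ComplexConjugate

theorem central_mul {G : Type u} [Group G] [Finite G] {χ : G → ℂ} (hχ : IsIrrCharacter G χ)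
    {z : G} (hz : ∀ g, g * z = z * g) (g : G) : χ (z * g) = (χ z / χ 1) * χ g := by
  have := Fintype.ofFinite G
  have h1 := Characters.Central.sum_char_conj_mul hχ z g
  have h2 : ∀ a : G, a * z * a⁻¹ * g = z * g := by
    intro a
    rw [hz a]
    group
  rw [Finset.sum_congr rfl (fun a _ => by rw [h2 a]), Finset.sum_const, Finset.card_univ,
    nsmul_eq_mul, ← Nat.card_eq_fintype_card] at h1
  have h3 : (Nat.card G : ℂ) ≠ 0 := card_ne_zero_complex
  have h4 : (Nat.card G : ℂ) * χ (z * g) = (Nat.card G : ℂ) * ((χ z / χ 1) * χ g) := by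
    rw [h1]
    ring
  exact mul_left_cancel₀ h3 h4

theorem central_sq {G : Type u} [Group G] [Finite G] {χ : G → ℂ} (hχ : IsIrrCharacter G χ)
    {z : G} {a : ℂ} (hz : ∀ g, χ (z * g) = a * χ g) (hz2 : z * z = 1) : a * a = 1 := by
  have h1 : χ (z * (z * 1)) = a * (a * χ 1) := by rw [hz, hz]
  rw [mul_one, hz2, ← mul_assoc] at h1
  have h2 : χ 1 ≠ 0 := Characters.Central.irr_one_ne_zero hχ
  exact (mul_right_cancel₀ h2 ((one_mul _).trans h1)).symm

/-- The scalars agree. -/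
theorem central_eq {G : Type u} [Group G] [Finite G] {α β : G → ℂ} {z : G} {a b : ℂ}
    (hα : ∀ g, α (z * g) = a * α g) (hβ : ∀ g, β (z * g) = b * β g)
    (ha : a * a = 1) (hne : ∑ᶠ g, α g * β g ≠ 0) : a = b := by
  have := Fintype.ofFinite G
  rw [finsum_eq_sum_of_fintype] at hne
  have h1 : ∑ g, α g * β g = (a * b) * ∑ g, α g * β g := by
    rw [Finset.mul_sum]
    refine (Fintype.sum_equiv (Equiv.mulLeft z) _ _ fun g => ?_).symm
    rw [Equiv.coe_mulLeft, hα, hβ]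
    ring
  have h2 : a * b = 1 := mul_right_cancel₀ hne (h1.symm.trans (one_mul _).symm)
  calc a = a * (a * b) := by rw [h2, mul_one]
    _ = (a * a) * b := by ring
    _ = b := by rw [ha, one_mul]

variable {F N M : Type u} [Field F] [CharP F 2] [AddCommGroup N] [Module F N] [AddCommGroup M]
  [Module F M] {κ : QuadraticForm F N} {QM : QuadraticForm F M}

/-- The action on the plane. -/
noncomputable def actN (κ : QuadraticForm F N) (QM : QuadraticForm F M) :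
    ↥(XK κ QM) →* (N ≃ₗ[F] N) where
  toFun g := Classical.choose g.2.2
  map_one' := by
    have h := (Classical.choose_spec (1 : XK κ QM).2.2).2
    ext a
    have h1 := h a
    exact (congrArg Prod.fst h1).symm
  map_mul' g g' := by
    have h := (Classical.choose_spec (g * g').2.2).2
    have h1 := (Classical.choose_spec g.2.2).2
    have h2 := (Classical.choose_spec g'.2.2).2
    ext a
    have h3 := h a
    have h4 : ((g * g' : XK κ QM) : (N × N × M) ≃ₗ[F] (N × N × M)) (LinearMap.inl F N (N × M) a)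
        = (g : (N × N × M) ≃ₗ[F] (N × N × M)) ((g' : (N × N × M) ≃ₗ[F] (N × N × M))
          (LinearMap.inl F N (N × M) a)) := rfl
    rw [h4, h2, h1] at h3
    exact (congrArg Prod.fst h3).symm

theorem actN_mem (g : XK κ QM) : actN κ QM g ∈ O κ := (Classical.choose_spec g.2.2).1

theorem actN_apply (g : XK κ QM) (a : N) :
    (g : (N × N × M) ≃ₗ[F] (N × N × M)) (a, 0, 0) = (actN κ QM g a, 0, 0) :=
  (Classical.choose_spec g.2.2).2 a

theorem actN_eq {g : XK κ QM} {d : N ≃ₗ[F] N}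
    (h : ∀ a, (g : (N × N × M) ≃ₗ[F] (N × N × M)) (a, 0, 0) = (d a, 0, 0)) :
    actN κ QM g = d := by
  ext a
  have h1 := h a
  rw [actN_apply] at h1
  exact congrArg Prod.fst h1

theorem actN_levi (p : ↥(O κ) × ↥(O QM)) :
    actN κ QM ⟨levi κ QM p, levi_mem_XK p⟩ = p.1 := actN_eq (Act.levi p).2.1

theorem mem_XD_iff {D : Subgroup (N ≃ₗ[F] N)} (g : XK κ QM) :
    (g : (N × N × M) ≃ₗ[F] (N × N × M)) ∈ XD κ QM D ↔ g ∈ D.comap (actN κ QM) := by
  constructor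
  · rintro ⟨-, d, hd, hda⟩
    rw [Subgroup.mem_comap, actN_eq hda]
    exact hd.2
  · intro h
    exact ⟨g.2.1, actN κ QM g, ⟨actN_mem g, h⟩, actN_apply g⟩

/-- `XD` as a subgroup of `XK`. -/
noncomputable def eqD (κ : QuadraticForm F N) (QM : QuadraticForm F M)
    (D : Subgroup (N ≃ₗ[F] N)) : ↥(XD κ QM D) ≃* ↥(D.comap (actN κ QM)) where
  toFun g := ⟨⟨g, XD_le g.2⟩, (mem_XD_iff _).1 g.2⟩
  invFun g := ⟨((g : XK κ QM) : (N × N × M) ≃ₗ[F] (N × N × M)), (mem_XD_iff _).2 g.2⟩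
  left_inv _ := rfl
  right_inv _ := rfl
  map_mul' _ _ := rfl

/-- The elements `zc c` in `XK`. -/
def zX (hκ : Nondeg κ) (QM : QuadraticForm F M) (c : F) : XK κ QM := ⟨zc c, zc_mem_XK hκ c⟩

theorem zX_comm (hκ : Nondeg κ) (c : F) (g : XK κ QM) : g * zX hκ QM c = zX hκ QM c * g :=
  Subtype.ext (XK_zc hκ g.2 c)

theorem zX_mul (hκ : Nondeg κ) (c c' : F) : zX hκ QM c * zX hκ QM c' = zX hκ QM (c + c') :=
  Subtype.ext (zc_mul c c')

theorem zX_zero (hκ : Nondeg κ) : zX hκ QM 0 = 1 := Subtype.ext zc_zero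

theorem zX_sq (hκ : Nondeg κ) (c : F) : zX hκ QM c * zX hκ QM c = 1 :=
  Subtype.ext (zc_mul_self c)

theorem actN_zX (hκ : Nondeg κ) (c : F) : actN κ QM (zX hκ QM c) = 1 := by
  apply actN_eq
  intro a
  show zc c (a, 0, 0) = _
  rw [zc_apply]
  simp

theorem zX_mem (hκ : Nondeg κ) (c : F) (D : Subgroup (N ≃ₗ[F] N)) :
    zX hκ QM c ∈ D.comap (actN κ QM) := by
  rw [Subgroup.mem_comap, actN_zX]
  exact one_mem _

/-- `fsi_XD` inside `XK`. -/
theorem fsi_comap [Finite F] [FiniteDimensional F N] [FiniteDimensional F M] (hκ : Nondeg κ)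
    (hQM : Nondeg QM) (hN : Module.finrank F N = 2) {t b : N} (htb : polar κ t b = 1)
    (D : Subgroup (N ≃ₗ[F] N)) (hDt : ∀ d ∈ O κ ⊓ D, d t = t)
    (hD : FSGood False ↥(O κ ⊓ D)) (hM : FSGood False ↥(O QM))
    {ψ : AddChar F ℂ} (hψ : ∃ a, ψ a ≠ 1) {η : D.comap (actN κ QM) → ℂ}
    (hη : IsIrrCharacter (D.comap (actN κ QM)) η)
    (hηz : ∀ (c : F) (g : D.comap (actN κ QM)),
      η (⟨zX hκ QM c, zX_mem hκ c D⟩ * g) = ψ c * η g) : fsi η = 1 := by
  have hfin := finite_aut F (N × N × M)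
  have h1 := fsi_comp (eqD κ QM D).toMonoidHom (eqD κ QM D).surjective η
  rw [← h1]
  refine fsi_XD hκ hQM hN htb D hDt hD hM hψ
    (isIrr_comp (eqD κ QM D).toMonoidHom (eqD κ QM D).surjective hη) ?_
  intro c g
  exact hηz c (eqD κ QM D g)

/-- The kernel of the action on the plane. -/
noncomputable abbrev KN (κ : QuadraticForm F N) (QM : QuadraticForm F M) :
    Subgroup ↥(XK κ QM) := (⊥ : Subgroup (N ≃ₗ[F] N)).comap (actN κ QM)

theorem levi_conj_mul (d : ↥(O κ)) {t : N} (hdt : (d : N ≃ₗ[F] N) t = t) (c : F) (w : M)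
    (q : ↥(O κ) × ↥(O QM)) (hq : q.1 = 1) :
    levi κ QM (d, 1) * (zc c * sg κ QM t w * levi κ QM q) * (levi κ QM (d, 1))⁻¹
      = zc c * sg κ QM t w * levi κ QM q := by
  have h1 : levi κ QM (d, 1) * (zc c * sg κ QM t w * levi κ QM q) * (levi κ QM (d, 1))⁻¹
      = (levi κ QM (d, 1) * zc c * (levi κ QM (d, 1))⁻¹) *
        (levi κ QM (d, 1) * sg κ QM t w * (levi κ QM (d, 1))⁻¹) *
        (levi κ QM (d, 1) * levi κ QM q * (levi κ QM (d, 1))⁻¹) := by group
  have h2 : levi κ QM (d, 1) * levi κ QM q * (levi κ QM (d, 1))⁻¹ = levi κ QM q := by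
    rw [← map_inv, ← map_mul, ← map_mul]
    congr 1
    refine Prod.ext ?_ ?_
    · simp [hq]
    · simp
  rw [h1, levi_zc, levi_sg, h2]
  congr 3

/-- Invariance under an element of the plane group with a fixed vector. -/
theorem inv_of_fix [Finite F] [FiniteDimensional F N] [FiniteDimensional F M] (hκ : Nondeg κ)
    (hQM : Nondeg QM) (hN : Module.finrank F N = 2) {ψ : AddChar F ℂ} (hψ : ∃ a, ψ a ≠ 1)
    {Ψ : KN κ QM → ℂ} (hΨ : IsIrrCharacter (KN κ QM) Ψ)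
    (hΨz : ∀ (c : F) (g : KN κ QM), Ψ (⟨zX hκ QM c, zX_mem hκ c ⊥⟩ * g) = ψ c * Ψ g)
    (d : ↥(O κ)) {t : N} (ht : t ≠ 0) (hdt : (d : N ≃ₗ[F] N) t = t) (x : XK κ QM)
    (hx : (x : (N × N × M) ≃ₗ[F] (N × N × M)) = levi κ QM (d, 1)) (n : KN κ QM) :
    Ψ ⟨x * n * x⁻¹, (Subgroup.normal_comap (H := ⊥) (actN κ QM)).conj_mem n n.2 x⟩ = Ψ n := by
  have hfin := finite_aut F (N × N × M)
  obtain ⟨b, hb⟩ := hκ.exists_polar_eq ht 1
  have hnor : (KN κ QM).Normal := Subgroup.normal_comap (H := ⊥) (actN κ QM)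
  have h1 := Characters.Clifford.isIrr_conjNormal hΨ x
  have h2 : Ψ ∘ (eqD κ QM ⊥).toMonoidHom
      = (Ψ ∘ (MulAut.conjNormal x : MulAut (KN κ QM))) ∘ (eqD κ QM ⊥).toMonoidHom := by
    refine eq_of_At hκ hQM hN hb ⊥ ?_ hψ
      (isIrr_comp (eqD κ QM ⊥).toMonoidHom (eqD κ QM ⊥).surjective hΨ)
      (isIrr_comp (eqD κ QM ⊥).toMonoidHom (eqD κ QM ⊥).surjective h1) ?_ ?_
    · intro e he
      rw [(Subgroup.mem_bot.1 he.2)]
      rfl
    · intro c g
      exact hΨz c (eqD κ QM ⊥ g)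
    · intro c w p g hg
      show Ψ (eqD κ QM ⊥ g) = Ψ (MulAut.conjNormal x (eqD κ QM ⊥ g))
      congr 1
      apply Subtype.ext
      apply Subtype.ext
      rw [MulAut.conjNormal_apply]
      show (g : (N × N × M) ≃ₗ[F] (N × N × M)) = (x : (N × N × M) ≃ₗ[F] (N × N × M)) * g *
        (x : (N × N × M) ≃ₗ[F] (N × N × M))⁻¹
      rw [hx, hg, levi_conj_mul d hdt c w (toPair p)]
      exact Subtype.ext (Subgroup.mem_bot.1 p.1.2.2)
  have h3 := congrFun h2 ((eqD κ QM ⊥).symm n)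
  simp only [Function.comp_apply, MulEquiv.coe_toMonoidHom, MulEquiv.apply_symm_apply] at h3
  rw [h3]
  congr 1

theorem exists_fixed {d : N ≃ₗ[F] N} (hd : d * d = 1) (h1 : d ≠ 1) :
    ∃ t : N, t ≠ 0 ∧ d t = t := by
  obtain ⟨v, hv⟩ : ∃ v, d v ≠ v := by
    by_contra hcon
    push Not at hcon
    exact h1 (LinearEquiv.ext hcon)
  refine ⟨d v + v, ?_, ?_⟩
  · intro h0
    apply hv
    calc d v = d v + (v + v) := by rw [two_smul_zero (F := F), add_zero]
      _ = (d v + v) + v := by rw [add_assoc]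
      _ = v := by rw [h0, zero_add]
  · have h2 : d (d v) = v := congrFun (congrArg DFunLike.coe hd) v
    rw [map_add, h2, add_comm]

/-- Invariance under the whole stabiliser. -/
theorem inv_all [Finite F] [FiniteDimensional F N] [FiniteDimensional F M] (hκ : Nondeg κ)
    (hQM : Nondeg QM) (hN : Module.finrank F N = 2) {ψ : AddChar F ℂ} (hψ : ∃ a, ψ a ≠ 1)
    {Ψ : KN κ QM → ℂ} (hΨ : IsIrrCharacter (KN κ QM) Ψ)
    (hΨz : ∀ (c : F) (g : KN κ QM), Ψ (⟨zX hκ QM c, zX_mem hκ c ⊥⟩ * g) = ψ c * Ψ g)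
    (x : XK κ QM) (n : KN κ QM) :
    Ψ ⟨x * n * x⁻¹, (Subgroup.normal_comap (H := ⊥) (actN κ QM)).conj_mem n n.2 x⟩ = Ψ n := by
  have hfin := finite_aut F (N × N × M)
  have hnor : (KN κ QM).Normal := Subgroup.normal_comap (H := ⊥) (actN κ QM)
  obtain ⟨C, hCO, hCodd, hCsq, ⟨g₀, hg₀, hg₀C⟩, hCab, hCinv, hCfree, hCmul⟩ :=
    plane_compl κ hκ hN
  -- elements outside of `C`
  have key1 : ∀ d ∈ O κ, d ∉ C → ∃ t : N, t ≠ 0 ∧ d t = t := by
    intro d hd hdC
    refine exists_fixed (hCsq d hd hdC) ?_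
    rintro rfl
    exact hdC (one_mem _)
  have hmul : ∀ (x y : XK κ QM),
      (∀ n : KN κ QM, Ψ ⟨x * n * x⁻¹, hnor.conj_mem n n.2 x⟩ = Ψ n) →
      (∀ n : KN κ QM, Ψ ⟨y * n * y⁻¹, hnor.conj_mem n n.2 y⟩ = Ψ n) →
      (∀ n : KN κ QM, Ψ ⟨(x * y) * n * (x * y)⁻¹, hnor.conj_mem n n.2 (x * y)⟩ = Ψ n) := by
    intro x y hx hy n
    rw [← hy n, ← hx ⟨y * n * y⁻¹, hnor.conj_mem n n.2 y⟩]
    congr 1
  have hcl := isIrr_isClassFunction hΨ
  have hin : ∀ x ∈ KN κ QM, ∀ n : KN κ QM, Ψ ⟨x * n * x⁻¹, hnor.conj_mem n n.2 x⟩ = Ψ n := by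
    intro x hx n
    exact hcl n ⟨x, hx⟩
  have hout : ∀ x : XK κ QM, actN κ QM x ∉ C →
      ∀ n : KN κ QM, Ψ ⟨x * n * x⁻¹, hnor.conj_mem n n.2 x⟩ = Ψ n := by
    intro x hx
    obtain ⟨t, ht, hdt⟩ := key1 _ (actN_mem x) hx
    let l : XK κ QM := ⟨levi κ QM (⟨actN κ QM x, actN_mem x⟩, 1), levi_mem_XK _⟩
    have h1 := inv_of_fix hκ hQM hN hψ hΨ hΨz ⟨actN κ QM x, actN_mem x⟩ ht hdt l rfl
    have h2 : x * l⁻¹ ∈ KN κ QM := by
      rw [Subgroup.mem_comap, map_mul, map_inv, Subgroup.mem_bot]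
      have h3 : actN κ QM l = actN κ QM x := actN_levi _
      rw [h3, mul_inv_cancel]
    have h4 := hmul _ _ (hin _ h2) h1
    rwa [inv_mul_cancel_right] at h4
  by_cases hx : actN κ QM x ∈ C
  · let l : XK κ QM := ⟨levi κ QM (⟨g₀, hg₀⟩, 1), levi_mem_XK _⟩
    have h3 : actN κ QM l = g₀ := actN_levi _
    have h4 := hmul (x * l⁻¹) l (hout _ (by
      rw [map_mul, map_inv, h3]
      intro h5
      apply hg₀C
      have h6 := mul_mem (inv_mem h5) hx
      rwa [mul_inv_rev, inv_inv, mul_assoc, inv_mul_cancel, mul_one] at h6)) (hout _ (by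
      rw [h3]
      exact hg₀C)) n
    have h7 : x * l⁻¹ * l = x := inv_mul_cancel_right x l
    rw [← h4]
    congr 1
    apply Subtype.ext
    show x * n * x⁻¹ = x * l⁻¹ * l * n * (x * l⁻¹ * l)⁻¹
    rw [h7]
  · exact hout x hx n

theorem conj_of_sq {a : ℂ} (h : a * a = 1) : conj a = a := by
  rcases mul_self_eq_one_iff.1 h with h | h <;> rw [h] <;> simp

/-- **The characters of the stabiliser which are not trivial on the centre of the unipotent
radical.** -/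
theorem nonlin_case [Finite F] [FiniteDimensional F N] [FiniteDimensional F M] (hκ : Nondeg κ)
    (hQM : Nondeg QM) (hN : Module.finrank F N = 2) (hM : FSGood False ↥(O QM))
    {χ : XK κ QM → ℂ} (hχ : IsIrrCharacter (XK κ QM) χ)
    (hker : ∃ c : F, χ ⟨zc c, zc_mem_XK hκ c⟩ ≠ χ 1) : fsi χ = 1 := by
  classical
  have hfin := finite_aut F (N × N × M)
  have hfN := finite_aut F N
  have hfM := finite_aut F M
  have hnor : (KN κ QM).Normal := Subgroup.normal_comap (H := ⊥) (actN κ QM)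
  obtain ⟨C, hCO, hCodd, hCsq, ⟨g₀, hg₀, hg₀C⟩, hCab, hCinv, hCfree, hCmul⟩ :=
    plane_compl κ hκ hN
  have hχ1 : χ 1 ≠ 0 := Characters.Central.irr_one_ne_zero hχ
  have hz : ∀ (c : F) (g : XK κ QM), χ (zX hκ QM c * g) = (χ (zX hκ QM c) / χ 1) * χ g :=
    fun c g => central_mul hχ (zX_comm hκ c) g
  let ψ : AddChar F ℂ :=
    { toFun := fun c => χ (zX hκ QM c) / χ 1
      map_zero_eq_one' := by rw [zX_zero, div_self hχ1]
      map_add_eq_mul' := fun c c' => by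
        rw [← zX_mul, hz]
        ring }
  have hψ : ∃ a, ψ a ≠ 1 := by
    obtain ⟨c, hc⟩ := hker
    refine ⟨c, fun h => hc ?_⟩
    exact (div_eq_one_iff_eq hχ1).1 h
  have hχz : ∀ (c : F) (g : XK κ QM), χ (zX hκ QM c * g) = ψ c * χ g := hz
  -- the constituent of the restriction
  have := Fintype.ofFinite (KN κ QM)
  obtain ⟨Ψ, hΨ, hcon⟩ := Cfsg.Agent.H597.Base.exists_constituent
    (isCharacter_comp (KN κ QM).subtype (isIrr_isCharacter hχ)) (by
      show χ _ ≠ 0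
      rw [map_one]
      exact hχ1)
  have hcon' : ∑ᶠ n : KN κ QM, χ n * conj (Ψ n) ≠ 0 := by
    rw [classInner_def] at hcon
    rw [finsum_eq_sum_of_fintype]
    exact right_ne_zero_of_mul hcon
  have hzc : ∀ (D : Subgroup (N ≃ₗ[F] N)) (c : F) (g : D.comap (actN κ QM)),
      g * ⟨zX hκ QM c, zX_mem hκ c D⟩ = ⟨zX hκ QM c, zX_mem hκ c D⟩ * g :=
    fun D c g => Subtype.ext (zX_comm hκ c (g : XK κ QM))
  have hz2 : ∀ (D : Subgroup (N ≃ₗ[F] N)) (c : F),
      (⟨zX hκ QM c, zX_mem hκ c D⟩ : D.comap (actN κ QM)) * ⟨zX hκ QM c, zX_mem hκ c D⟩ = 1 :=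
    fun D c => Subtype.ext (zX_sq hκ c)
  have hΨz : ∀ (c : F) (g : KN κ QM), Ψ (⟨zX hκ QM c, zX_mem hκ c ⊥⟩ * g) = ψ c * Ψ g := by
    intro c g
    have h1 := central_mul hΨ (hzc ⊥ c)
    have h2 := central_sq hΨ h1 (hz2 ⊥ c)
    have h3 : Ψ ⟨zX hκ QM c, zX_mem hκ c ⊥⟩ / Ψ 1 = ψ c := by
      refine central_eq (α := fun n => conj (Ψ n)) (β := fun n : KN κ QM => χ n)
        (z := ⟨zX hκ QM c, zX_mem hκ c ⊥⟩) ?_ ?_ h2 ?_
      · intro n
        show conj (Ψ _) = _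
        rw [h1, map_mul, conj_of_sq h2]
      · intro n
        exact hχz c n
      · intro h0
        apply hcon'
        rw [← h0]
        exact finsum_congr fun n => mul_comm _ _
    rw [h1, h3]
  -- it is real and invariant
  obtain ⟨v, hv⟩ := H955.FS.Plane.exists_ne_zero hN (F := F) (N := N)
  obtain ⟨b, hb⟩ := hκ.exists_polar_eq hv 1
  have hΨ1 : fsi Ψ = 1 := by
    refine fsi_comap hκ hQM hN hb ⊥ ?_ ?_ hM hψ hΨ hΨz
    · intro e he
      rw [(Subgroup.mem_bot.1 he.2)]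
      rfl
    · refine good_of_sq fun x => ?_
      have h1 : x = 1 := Subtype.ext (Subgroup.mem_bot.1 x.2.2)
      rw [h1, mul_one]
  have hreal : ∀ n, (Ψ n).im = 0 := real_of_fsi_ne_zero hΨ (by rw [hΨ1]; exact one_ne_zero)
  have hΨinv := inv_all hκ hQM hN hψ hΨ hΨz
  have hconj : ∀ n, conj (Ψ n) = Ψ n := fun n => Complex.conj_eq_iff_im.2 (hreal n)
  -- the dihedral quotient
  have hD2 : ∀ x ∈ Subgroup.zpowers g₀, x = 1 ∨ x = g₀ := by
    intro x hx
    obtain ⟨k, rfl⟩ := Subgroup.mem_zpowers_iff.1 hx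
    have hg2 : g₀ ^ (2 : ℤ) = 1 := by
      rw [zpow_two]
      exact hCsq g₀ hg₀ hg₀C
    rcases Int.even_or_odd' k with ⟨m, hm | hm⟩
    · left
      rw [hm, zpow_mul, hg2, one_zpow]
    · right
      rw [hm, zpow_add, zpow_mul, hg2, one_zpow, one_mul, zpow_one]
  have hlev : ∀ (d : N ≃ₗ[F] N) (hd : d ∈ O κ), ∃ x : XK κ QM, actN κ QM x = d := fun d hd =>
    ⟨⟨levi κ QM (⟨d, hd⟩, 1), levi_mem_XK _⟩, actN_levi _⟩
  have hg₀1 : g₀ ≠ 1 := by
    rintro rfl
    exact hg₀C (one_mem _)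
  obtain ⟨t, ht, hgt⟩ := exists_fixed (hCsq g₀ hg₀ hg₀C) hg₀1
  obtain ⟨b', hb'⟩ := hκ.exists_polar_eq ht 1
  have hnorC : (C.comap (actN κ QM)).Normal := by
    refine ⟨fun n hn g => ?_⟩
    rw [Subgroup.mem_comap, map_mul, map_mul, map_inv] at *
    by_cases hgC : actN κ QM g ∈ C
    · exact mul_mem (mul_mem hgC hn) (inv_mem hgC)
    · rw [hCinv _ (actN_mem g) hgC _ hn]
      exact inv_mem hn
  refine dihedral_ext (KN κ QM) (C.comap (actN κ QM)) ((Subgroup.zpowers g₀).comap (actN κ QM))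
    (Subgroup.comap_mono bot_le) (Subgroup.comap_mono bot_le) ?_ ?_ ?_ ?_ ?_ ?_ hΨ hreal hΨinv
    ?_ hχ ?_
  · -- index two
    rw [Subgroup.index_eq_two_iff]
    obtain ⟨x₀, hx₀⟩ := hlev g₀ hg₀
    refine ⟨x₀, fun y => ?_⟩
    rw [Subgroup.mem_comap, Subgroup.mem_comap, map_mul, hx₀]
    by_cases hy : actN κ QM y ∈ C
    · right
      refine ⟨hy, fun h => hg₀C ?_⟩
      have h6 := mul_mem (inv_mem hy) h
      rwa [inv_mul_cancel_left] at h6
    · left
      exact ⟨hCmul _ (actN_mem y) _ hg₀ hy hg₀C, hy⟩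
  · -- odd
    show Odd ((((⊥ : Subgroup (N ≃ₗ[F] N)).comap (actN κ QM))).relIndex (C.comap (actN κ QM)))
    rw [Subgroup.relIndex_comap, Subgroup.relIndex_bot_left]
    exact Odd.of_dvd_nat hCodd (Subgroup.card_dvd_of_le (Subgroup.map_comap_le _ _))
  · -- intersection
    rw [← Subgroup.comap_inf]
    congr 1
    rw [eq_bot_iff]
    rintro x ⟨hx1, hx2⟩
    rcases hD2 x hx1 with h | h
    · exact Subgroup.mem_bot.2 h
    · rw [h] at hx2
      exact absurd hx2 hg₀C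
  · intro hle
    obtain ⟨x₀, hx₀⟩ := hlev g₀ hg₀
    have h1 : x₀ ∈ (Subgroup.zpowers g₀).comap (actN κ QM) := by
      rw [Subgroup.mem_comap, hx₀]
      exact Subgroup.mem_zpowers _
    have h2 := hle h1
    rw [Subgroup.mem_comap, hx₀] at h2
    exact hg₀C h2
  · intro a ha b hb
    rw [Subgroup.mem_comap] at ha hb ⊢
    rw [map_mul, map_mul, map_mul, map_inv, map_inv, hCab _ ha _ hb, Subgroup.mem_bot]
    group
  · intro x hx h hh
    rw [Subgroup.mem_comap] at hx hh ⊢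
    rw [map_mul, map_mul, map_mul, map_inv, hCinv _ (actN_mem x) hx _ hh, inv_mul_cancel]
    exact one_mem _
  · intro η hη hηΨ
    refine fsi_comap hκ hQM hN hb' (Subgroup.zpowers g₀) ?_ ?_ hM hψ hη ?_
    · intro e he
      rcases hD2 e he.2 with h | h
      · rw [h]
        rfl
      · rw [h]
        exact hgt
    · refine good_of_sq fun x => ?_
      apply Subtype.ext
      show (x : N ≃ₗ[F] N) * x = 1
      rcases hD2 x x.2.2 with h | h
      · rw [h, mul_one]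
      · rw [h]
        exact hCsq g₀ hg₀ hg₀C
    · intro c g
      have h1 := central_mul hη (hzc _ c)
      have h2 := central_sq hη h1 (hz2 _ c)
      have h3 := central_eq (α := fun n : KN κ QM => η ⟨n, Subgroup.comap_mono bot_le n.2⟩)
        (β := Ψ) (z := ⟨zX hκ QM c, zX_mem hκ c ⊥⟩) (fun n => h1 ⟨n, _⟩) (hΨz c) h2 hηΨ
      rw [h1, h3]
  · have h1 : (fun n : KN κ QM => χ n * Ψ n) = fun n : KN κ QM => χ n * conj (Ψ n) := by
      funext n
      rw [hconj]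
    rw [h1]
    exact hcon'

end Cfsg.Agent.H592.FSFour
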