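import Cfsg.Agent.H592.FSFourDefs
import Cfsg.Agent.H955.FSPlane

/-!
# The model `N × N × M` of a quadratic space with a totally singular plane (characteristic two)

`qW κ QM (a, b, m) = polar κ a b + QM m`; the plane is `N × 0 × 0`.
* `levi`, `zc`, `sg`: elements of the stabiliser; their relations;
* `Act g d h`: `g` acts as `d` on the plane and as `h` on `N^⊥ / N`;
* `exists_dec`: the decomposition of the elements.
-/

set_option autoImplicit false
set_option linter.unusedSectionVars false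

universe u

namespace Cfsg.Agent.H592.FSFour

open Cfsg QuadraticMap
open Cfsg.Agent.LieClassical.OrthCore Cfsg.Agent.H955.FS

variable {F N M : Type u} [Field F] [CharP F 2] [AddCommGroup N] [Module F N] [AddCommGroup M]
  [Module F M]

theorem two_smul_zero {V : Type*} [AddCommGroup V] [Module F V] (v : V) : v + v = 0 := by
  have h : (2 : F) • v = 0 := by
    rw [CharTwo.two_eq_zero, zero_smul]
  rwa [two_smul] at h

/-- The form `(a, b, m) ↦ polar κ a b + QM m`. -/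
def qW (κ : QuadraticForm F N) (QM : QuadraticForm F M) : QuadraticForm F (N × N × M) :=
  (LinearMap.BilinMap.toQuadraticMap
    ((polarBilin κ).compl₁₂ (LinearMap.fst F N (N × M))
      (LinearMap.fst F N M ∘ₗ LinearMap.snd F N (N × M)))) +
  QM.comp (LinearMap.snd F N M ∘ₗ LinearMap.snd F N (N × M))

variable (κ : QuadraticForm F N) (QM : QuadraticForm F M)

theorem qW_apply (v : N × N × M) : qW κ QM v = polar κ v.1 v.2.1 + QM v.2.2 := rfl

theorem polar_self0 (v : N) : polar κ v v = 0 := by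
  rw [polar_self', CharTwo.two_eq_zero, zero_mul]

theorem polar_self0M (v : M) : polar QM v v = 0 := by
  rw [polar_self', CharTwo.two_eq_zero, zero_mul]

theorem polar_qW (v w : N × N × M) :
    polar (qW κ QM) v w = polar κ v.1 w.2.1 + polar κ w.1 v.2.1 + polar QM v.2.2 w.2.2 := by
  have h1 : polar (qW κ QM) v w = qW κ QM (v + w) - qW κ QM v - qW κ QM w := rfl
  rw [h1, qW_apply, qW_apply, qW_apply]
  have h2 : polar QM v.2.2 w.2.2 = QM (v.2.2 + w.2.2) - QM v.2.2 - QM w.2.2 := rfl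
  rw [h2]
  simp only [Prod.fst_add, Prod.snd_add, polar_add_left, polar_add_right]
  ring

theorem nondeg_qW (hκ : Nondeg κ) (hQM : Nondeg QM) : Nondeg (qW κ QM) := by
  rintro ⟨a, b, m⟩ h
  have h1 : a = 0 := hκ a fun y => by
    have := h (0, y, 0)
    rw [polar_qW] at this
    simpa using this
  have h2 : b = 0 := hκ b fun y => by
    have := h (y, 0, 0)
    rw [polar_qW] at this
    simp only [polar_zero_right, add_zero, zero_add] at this
    rwa [polar_comm] at this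
  have h3 : m = 0 := hQM m fun y => by
    have := h (0, 0, y)
    rw [polar_qW] at this
    simpa using this
  rw [h1, h2, h3]
  rfl

/-! ### The Levi complement -/

/-- `(a, b, m) ↦ (d a, d b, h m)` -/
def levi : (↥(O κ) × ↥(O QM)) →* ((N × N × M) ≃ₗ[F] (N × N × M)) where
  toFun p := LinearEquiv.prodCongr (p.1 : N ≃ₗ[F] N)
    (LinearEquiv.prodCongr (p.1 : N ≃ₗ[F] N) (p.2 : M ≃ₗ[F] M))
  map_one' := rfl
  map_mul' _ _ := rfl

theorem levi_apply (p : ↥(O κ) × ↥(O QM)) (v : N × N × M) :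
    levi κ QM p v = ((p.1 : N ≃ₗ[F] N) v.1, (p.1 : N ≃ₗ[F] N) v.2.1, (p.2 : M ≃ₗ[F] M) v.2.2) := rfl

theorem levi_mem_O (p : ↥(O κ) × ↥(O QM)) : levi κ QM p ∈ O (qW κ QM) := by
  intro v
  rw [levi_apply, qW_apply, qW_apply]
  simp only
  rw [polar_map p.1.2, p.2.2]

/-! ### The elements `zc c` -/

/-- `(a, b, m) ↦ (a + c b, b, m)` -/
def zc (c : F) : (N × N × M) ≃ₗ[F] (N × N × M) :=
  LinearEquiv.ofLinearMap
    (LinearMap.id + c • (LinearMap.inl F N (N × M) ∘ₗ LinearMap.fst F N M ∘ₗ LinearMap.snd F N (N × M)))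
    (LinearMap.id + c • (LinearMap.inl F N (N × M) ∘ₗ LinearMap.fst F N M ∘ₗ LinearMap.snd F N (N × M)))
    (by
      ext v <;> simp [two_smul_zero (F := F)])
    (by
      ext v <;> simp [two_smul_zero (F := F)])

theorem zc_apply (c : F) (v : N × N × M) : zc (M := M) c v = (v.1 + c • v.2.1, v.2.1, v.2.2) := by
  show v + c • ((v.2.1, 0) : N × (N × M)) = _
  ext <;> simp

theorem zc_mem_O (c : F) : zc c ∈ O (qW κ QM) := by
  intro v
  rw [zc_apply, qW_apply, qW_apply]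
  simp only
  rw [polar_add_left, polar_smul_left, polar_self0, smul_zero, add_zero]

theorem zc_mul (c d : F) : zc (N := N) (M := M) c * zc d = zc (c + d) := by
  ext v : 1
  show zc c (zc d v) = _
  rw [zc_apply, zc_apply, zc_apply]
  simp only [add_smul, Prod.mk.injEq, and_true]
  rw [add_assoc, add_comm (d • v.2.1)]

theorem zc_zero : zc (N := N) (M := M) (0 : F) = 1 := by
  ext v : 1
  rw [zc_apply, zero_smul, add_zero]
  rfl

theorem zc_mul_self (c : F) : zc (N := N) (M := M) c * zc c = 1 := by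
  rw [zc_mul, CharTwo.add_self_eq_zero, zc_zero]

theorem zc_inv (c : F) : (zc (N := N) (M := M) c)⁻¹ = zc c :=
  inv_eq_of_mul_eq_one_left (zc_mul_self c)

theorem levi_zc (p : ↥(O κ) × ↥(O QM)) (c : F) :
    levi κ QM p * zc c * (levi κ QM p)⁻¹ = zc c := by
  rw [mul_inv_eq_iff_eq_mul]
  ext v : 1
  show levi κ QM p (zc c v) = zc c (levi κ QM p v)
  rw [zc_apply, levi_apply, levi_apply, zc_apply]
  simp

/-! ### The elements `sg n w` -/

/-- `(a, b, m) ↦ (a + f(w,m) n + Q(w) ω(n,b) n, b, m + ω(n,b) w)` -/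
def sgLin (n : N) (w : M) : (N × N × M) →ₗ[F] (N × N × M) where
  toFun v := (v.1 + (polar QM w v.2.2 + QM w * polar κ n v.2.1) • n, v.2.1,
    v.2.2 + polar κ n v.2.1 • w)
  map_add' v v' := by
    simp only [Prod.fst_add, Prod.snd_add, polar_add_right, Prod.mk_add_mk, Prod.mk.injEq, true_and]
    constructor <;> module
  map_smul' c v := by
    simp only [Prod.smul_fst, Prod.smul_snd, polar_smul_right, RingHom.id_apply, Prod.smul_mk,
      Prod.mk.injEq, true_and, smul_eq_mul]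
    constructor <;> module

theorem sgLin_apply (n : N) (w : M) (v : N × N × M) :
    sgLin κ QM n w v = (v.1 + (polar QM w v.2.2 + QM w * polar κ n v.2.1) • n, v.2.1,
      v.2.2 + polar κ n v.2.1 • w) := rfl

theorem sgLin_comp (n : N) (w w' : M) (v : N × N × M) :
    sgLin κ QM n w (sgLin κ QM n w' v) = sgLin κ QM n (w + w') v := by
  simp only [sgLin_apply, Prod.mk.injEq, true_and, polar_add_right, polar_smul_right, Q_add,
    polar_add_left, smul_eq_mul]
  constructor <;> module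

theorem sgLin_zero (n : N) (v : N × N × M) : sgLin κ QM n 0 v = v := by
  rw [sgLin_apply]
  simp

/-- `(a, b, m) ↦ (a + f(w,m) n + Q(w) ω(n,b) n, b, m + ω(n,b) w)` -/
def sg (n : N) (w : M) : (N × N × M) ≃ₗ[F] (N × N × M) :=
  LinearEquiv.ofLinearMap (sgLin κ QM n w) (sgLin κ QM n w)
    (LinearMap.ext fun v => by
      rw [LinearMap.comp_apply, sgLin_comp, two_smul_zero (F := F), sgLin_zero]
      rfl)
    (LinearMap.ext fun v => by
      rw [LinearMap.comp_apply, sgLin_comp, two_smul_zero (F := F), sgLin_zero]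
      rfl)

theorem sg_apply (n : N) (w : M) (v : N × N × M) :
    sg κ QM n w v = (v.1 + (polar QM w v.2.2 + QM w * polar κ n v.2.1) • n, v.2.1,
      v.2.2 + polar κ n v.2.1 • w) := rfl

theorem sg_mem_O (n : N) (w : M) : sg κ QM n w ∈ O (qW κ QM) := by
  intro v
  rw [sg_apply, qW_apply, qW_apply]
  simp only
  rw [polar_add_left, polar_smul_left, Q_add, QuadraticMap.map_smul, polar_smul_right,
    polar_comm QM v.2.2 w]
  simp only [smul_eq_mul]
  have h : polar κ v.1 v.2.1 + (polar QM w v.2.2 + QM w * polar κ n v.2.1) * polar κ n v.2.1 +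
      (QM v.2.2 + polar κ n v.2.1 * polar κ n v.2.1 * QM w + polar κ n v.2.1 * polar QM w v.2.2)
      = polar κ v.1 v.2.1 + QM v.2.2 + 2 * (polar κ n v.2.1 * polar QM w v.2.2
        + QM w * polar κ n v.2.1 * polar κ n v.2.1) := by ring
  rw [h, CharTwo.two_eq_zero, zero_mul, add_zero]

theorem sg_mul (n : N) (w w' : M) : sg κ QM n w * sg κ QM n w' = sg κ QM n (w + w') :=
  LinearEquiv.ext fun v => sgLin_comp κ QM n w w' v

theorem sg_zero (n : N) : sg κ QM n 0 = 1 :=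
  LinearEquiv.ext fun v => sgLin_zero κ QM n v

theorem sg_mul_self (n : N) (w : M) : sg κ QM n w * sg κ QM n w = 1 := by
  rw [sg_mul, two_smul_zero (F := F), sg_zero]

theorem sg_inv (n : N) (w : M) : (sg κ QM n w)⁻¹ = sg κ QM n w :=
  inv_eq_of_mul_eq_one_left (sg_mul_self κ QM n w)

theorem sg_smul (c : F) (n : N) (w : M) : sg κ QM (c • n) w = sg κ QM n (c • w) := by
  ext v : 1
  rw [sg_apply, sg_apply]
  simp only [polar_smul_left, QuadraticMap.map_smul, smul_eq_mul, Prod.mk.injEq, true_and]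
  constructor <;> module

theorem levi_sg (p : ↥(O κ) × ↥(O QM)) (n : N) (w : M) :
    levi κ QM p * sg κ QM n w * (levi κ QM p)⁻¹
      = sg κ QM ((p.1 : N ≃ₗ[F] N) n) ((p.2 : M ≃ₗ[F] M) w) := by
  rw [mul_inv_eq_iff_eq_mul]
  ext v : 1
  show levi κ QM p (sg κ QM n w v) = sg κ QM _ _ (levi κ QM p v)
  rw [sg_apply, levi_apply, levi_apply, sg_apply]
  simp only [polar_map p.1.2, polar_map p.2.2, map_add, map_smul]
  rw [p.2.2]

theorem zc_sg (c : F) (n : N) (w : M) : zc c * sg κ QM n w = sg κ QM n w * zc c := by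
  ext v : 1
  show zc c (sg κ QM n w v) = sg κ QM n w (zc c v)
  rw [sg_apply, zc_apply, zc_apply, sg_apply]
  simp only [Prod.mk.injEq, and_true]
  module

/-- The identity in the plane `N`. -/
theorem plane_identity [FiniteDimensional F N] (hκ : Nondeg κ) (hN : Module.finrank F N = 2) (t n b : N) :
    polar κ t b • n + polar κ n b • t = polar κ t n • b := by
  by_cases ht : t = 0
  · subst ht
    simp
  obtain ⟨u, hu⟩ := hκ.exists_polar_eq ht 1
  have hut : polar κ u t = 1 := by rw [polar_comm]; exact hu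
  obtain ⟨x, y, hn⟩ : ∃ x y : F, n = x • t + y • u := ⟨_, _, H955.FS.Plane.expand hN hu n⟩
  obtain ⟨x', y', hb⟩ : ∃ x y : F, b = x • t + y • u := ⟨_, _, H955.FS.Plane.expand hN hu b⟩
  rw [hn, hb]
  simp only [polar_add_right, polar_smul_right, polar_add_left, polar_smul_left, hu, hut,
    polar_self0, smul_eq_mul, mul_zero, mul_one, add_zero, zero_add]
  have h2 : (2 : F) = 0 := CharTwo.two_eq_zero
  have h3 : y' • (x • t + y • u) + (x' * y + y' * x) • t = y • (x' • t + y' • u)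
      + (2 * (x * y')) • t := by module
  rw [h3, h2, zero_mul, zero_smul, add_zero]

/-- The commutator of `sg n w` and `sg t w'`. -/
theorem sg_comm [FiniteDimensional F N] (hκ : Nondeg κ) (hN : Module.finrank F N = 2) (n t : N)
    (w w' : M) : sg κ QM n w * sg κ QM t w' * (sg κ QM n w)⁻¹
      = zc (polar QM w w' * polar κ t n) * sg κ QM t w' := by
  rw [mul_inv_eq_iff_eq_mul, mul_assoc]
  ext v : 1
  show sg κ QM n w (sg κ QM t w' v) = zc _ (sg κ QM t w' (sg κ QM n w v))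
  rw [sg_apply, sg_apply, sg_apply, sg_apply, zc_apply]
  have h := plane_identity κ hκ hN t n v.2.1
  simp only [polar_add_right, polar_smul_right, smul_eq_mul, Prod.mk.injEq, true_and]
  constructor
  · have h4 : (polar QM w w' * polar κ t n) • v.2.1 = (polar QM w w') •
        (polar κ t v.2.1 • n + polar κ n v.2.1 • t) := by
      rw [h, smul_smul]
    rw [h4, polar_comm QM w' w]
    have h2 : (2 : F) = 0 := CharTwo.two_eq_zero
    have h5 : ∀ X : N, X = X + (2 * (polar κ n v.2.1 * polar QM w w')) • t := by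
      intro X
      rw [h2, zero_mul, zero_smul, add_zero]
    rw [h5 (v.1 + _ + _)]
    module
  · module

/-- `sg (n + n') w` -/
theorem sg_add [FiniteDimensional F N] (hκ : Nondeg κ) (hN : Module.finrank F N = 2) (n n' : N)
    (w : M) : sg κ QM (n + n') w = zc (QM w * polar κ n n') * (sg κ QM n w * sg κ QM n' w) := by
  ext v : 1
  show sg κ QM (n + n') w v = zc _ (sg κ QM n w (sg κ QM n' w v))
  rw [sg_apply, sg_apply, sg_apply, zc_apply]
  have h := plane_identity κ hκ hN n n' v.2.1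
  simp only [polar_add_left, polar_add_right, polar_smul_right, polar_self0M, smul_eq_mul,
    mul_zero, Prod.mk.injEq, true_and]
  constructor
  · have h4 : (QM w * polar κ n n') • v.2.1 = (QM w) •
        (polar κ n v.2.1 • n' + polar κ n' v.2.1 • n) := by
      rw [h, smul_smul]
    rw [h4]
    module
  · module

/-! ### The action on the plane and on `N^⊥ / N` -/

/-- `g` acts as `d` on the plane and as `h` on `N^⊥/N`. -/
def Act (g : (N × N × M) ≃ₗ[F] (N × N × M)) (d : N ≃ₗ[F] N) (h : M ≃ₗ[F] M) : Prop :=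
  g ∈ O (qW κ QM) ∧ (∀ a, g (a, 0, 0) = (d a, 0, 0)) ∧ ∀ m, (g (0, 0, m)).2.2 = h m

variable {κ QM}

theorem Act.mid (hκ : Nondeg κ) {g : (N × N × M) ≃ₗ[F] (N × N × M)} {d : N ≃ₗ[F] N}
    (hg : g ∈ O (qW κ QM)) (hga : ∀ a, g (a, 0, 0) = (d a, 0, 0)) (hd : d ∈ O κ)
    (v : N × N × M) : (g v).2.1 = d v.2.1 := by
  rw [← sub_eq_zero]
  apply hκ
  intro y
  obtain ⟨a, rfl⟩ := d.surjective y
  have h1 := polar_map hg (a, 0, 0) v
  rw [hga, polar_qW, polar_qW] at h1
  simp only [polar_zero_right, polar_zero_left, add_zero] at h1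
  rw [polar_sub_left, polar_comm κ (g v).2.1, h1, polar_map hd, polar_comm κ v.2.1, sub_self]

theorem split3 (v : N × N × M) : v = (v.1, 0, 0) + (0, v.2.1, 0) + (0, 0, v.2.2) := by
  ext <;> simp

theorem Act.snd {g : (N × N × M) ≃ₗ[F] (N × N × M)} {d : N ≃ₗ[F] N}
    {h : M ≃ₗ[F] M} (hg : Act κ QM g d h) (a : N) (m : M) :
    (g (a, 0, m)).2.2 = h m := by
  have h1 : ((a, 0, m) : N × N × M) = (a, 0, 0) + (0, 0, m) := by simp
  rw [h1, map_add, hg.2.1, Prod.snd_add, Prod.snd_add, hg.2.2, zero_add]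

theorem Act.one : Act κ QM 1 1 1 := ⟨one_mem _, fun _ => rfl, fun _ => rfl⟩

theorem Act.mul (hκ : Nondeg κ) {g g' : (N × N × M) ≃ₗ[F] (N × N × M)} {d d' : N ≃ₗ[F] N}
    {h h' : M ≃ₗ[F] M} (hd' : d' ∈ O κ) (hg : Act κ QM g d h) (hg' : Act κ QM g' d' h') :
    Act κ QM (g * g') (d * d') (h * h') := by
  refine ⟨mul_mem hg.1 hg'.1, fun a => ?_, fun m => ?_⟩
  · show g (g' (a, 0, 0)) = _
    rw [hg'.2.1, hg.2.1]
    rfl
  · show (g (g' (0, 0, m))).2.2 = _
    have h1 : g' (0, 0, m) = ((g' (0, 0, m)).1, 0, (g' (0, 0, m)).2.2) := by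
      have h2 := Act.mid hκ hg'.1 hg'.2.1 hd' (0, 0, m)
      rw [map_zero] at h2
      exact Prod.ext rfl (Prod.ext h2 rfl)
    rw [h1, Act.snd hg, hg'.2.2]
    rfl

theorem Act.levi (p : ↥(O κ) × ↥(O QM)) : Act κ QM (levi κ QM p) p.1 p.2 := by
  refine ⟨levi_mem_O κ QM p, fun a => ?_, fun m => ?_⟩
  · rw [levi_apply]
    simp
  · rw [levi_apply]

theorem Act.eq {g : (N × N × M) ≃ₗ[F] (N × N × M)} {d d' : N ≃ₗ[F] N}
    {h h' : M ≃ₗ[F] M} (hg : Act κ QM g d h) (hg' : Act κ QM g d' h') : d = d' ∧ h = h' := by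
  constructor
  · ext a
    have h1 := hg.2.1 a
    rw [hg'.2.1 a] at h1
    exact (congrArg Prod.fst h1).symm
  · ext m
    rw [← hg.2.2 m, hg'.2.2 m]

/-- Elements of the stabiliser act on both spaces. -/
theorem exists_act [FiniteDimensional F M] (hκ : Nondeg κ) (hQM : Nondeg QM)
    {g : (N × N × M) ≃ₗ[F] (N × N × M)} {d : N ≃ₗ[F] N} (hg : g ∈ O (qW κ QM))
    (hga : ∀ a, g (a, 0, 0) = (d a, 0, 0)) (hd : d ∈ O κ) :
    ∃ h ∈ O QM, Act κ QM g d h := by
  let h₀ : M →ₗ[F] M := LinearMap.snd F N M ∘ₗ LinearMap.snd F N (N × M) ∘ₗ g.toLinearMap ∘ₗ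
    LinearMap.inr F N (N × M) ∘ₗ LinearMap.inr F N M
  have hh : ∀ m, h₀ m = (g (0, 0, m)).2.2 := fun m => rfl
  have hmid : ∀ m, (g (0, 0, m)).2.1 = 0 := by
    intro m
    rw [Act.mid hκ hg hga hd]
    exact map_zero d
  have hQ : ∀ m, QM (h₀ m) = QM m := by
    intro m
    have h1 := hg (0, 0, m)
    rw [qW_apply, qW_apply, hmid] at h1
    rw [hh]
    simpa using h1
  have hinj : Function.Injective h₀ := by
    rw [injective_iff_map_eq_zero]
    intro m hm
    apply hQM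
    intro y
    have h1 : polar QM (h₀ m) (h₀ y) = polar QM m y := by
      simp only [polar, ← map_add, hQ]
    rw [← h1, hm, polar_zero_left]
  let h : M ≃ₗ[F] M := LinearEquiv.ofInjectiveEndo h₀ hinj
  have hh' : ∀ m, h m = (g (0, 0, m)).2.2 := fun m => rfl
  exact ⟨h, fun m => hQ m, hg, hga, fun m => (hh' m).symm⟩

/-- The elements acting trivially on the plane `N` and on `N^⊥/N`. -/
def rad (κ : QuadraticForm F N) (QM : QuadraticForm F M) (hκ : Nondeg κ) :
    Subgroup ((N × N × M) ≃ₗ[F] (N × N × M)) where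
  carrier := {g | Act κ QM g 1 1}
  one_mem' := Act.one
  mul_mem' := fun {a b} ha hb => by
    have := Act.mul hκ (one_mem _) ha hb
    rwa [one_mul, one_mul] at this
  inv_mem' := fun {a} ha => by
    have h1 : ∀ b, a⁻¹ (b, 0, 0) = (b, 0, 0) := by
      intro b
      show a.symm (b, 0, 0) = (b, 0, 0)
      rw [LinearEquiv.symm_apply_eq, ha.2.1]
      rfl
    refine ⟨inv_mem ha.1, h1, fun m => ?_⟩
    have h2 : (a⁻¹ (0, 0, m)).2.1 = 0 := by
      have := Act.mid (d := 1) hκ (inv_mem ha.1) h1 (one_mem _) (0, 0, m)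
      simpa using this
    have h3 : a⁻¹ (0, 0, m) = ((a⁻¹ (0, 0, m)).1, 0, (a⁻¹ (0, 0, m)).2.2) :=
      Prod.ext rfl (Prod.ext h2 rfl)
    have h4 := Act.snd ha (a⁻¹ (0, 0, m)).1 (a⁻¹ (0, 0, m)).2.2
    rw [← h3] at h4
    have h5 : a (a⁻¹ (0, 0, m)) = (0, 0, m) := LinearEquiv.apply_symm_apply a _
    rw [h5] at h4
    exact h4.symm

theorem mem_rad {hκ : Nondeg κ} {g : (N × N × M) ≃ₗ[F] (N × N × M)} :
    g ∈ rad κ QM hκ ↔ Act κ QM g 1 1 := Iff.rfl

theorem zc_mem_rad (hκ : Nondeg κ) (c : F) : zc c ∈ rad κ QM hκ := by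
  refine ⟨zc_mem_O κ QM c, fun a => ?_, fun m => ?_⟩
  · rw [zc_apply]
    simp
  · rw [zc_apply]
    simp

theorem sg_mem_rad (hκ : Nondeg κ) (n : N) (w : M) : sg κ QM n w ∈ rad κ QM hκ := by
  refine ⟨sg_mem_O κ QM n w, fun a => ?_, fun m => ?_⟩
  · rw [sg_apply]
    simp
  · rw [sg_apply]
    simp

theorem dec_levi (hκ : Nondeg κ) {g : (N × N × M) ≃ₗ[F] (N × N × M)} {p : ↥(O κ) × ↥(O QM)}
    (hg : Act κ QM g p.1 p.2) : g * (levi κ QM p)⁻¹ ∈ rad κ QM hκ := by
  rw [← map_inv]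
  have h1 := Act.mul hκ (p⁻¹).1.2 hg (Act.levi p⁻¹)
  have h2 : (p.1 : N ≃ₗ[F] N) * ((p⁻¹).1 : N ≃ₗ[F] N) = 1 := by
    have : p.1 * (p⁻¹).1 = 1 := by
      rw [Prod.fst_inv, mul_inv_cancel]
    exact congrArg Subtype.val this
  have h3 : (p.2 : M ≃ₗ[F] M) * ((p⁻¹).2 : M ≃ₗ[F] M) = 1 := by
    have : p.2 * (p⁻¹).2 = 1 := by
      rw [Prod.snd_inv, mul_inv_cancel]
    exact congrArg Subtype.val this
  rw [h2, h3] at h1
  exact h1

/-- The elements of `rad` with trivial `M → N` component. -/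
theorem exists_zc [FiniteDimensional F N] (hκ : Nondeg κ) (hQM : Nondeg QM)
    (hN : Module.finrank F N = 2) {g : (N × N × M) ≃ₗ[F] (N × N × M)} (hg : g ∈ rad κ QM hκ)
    (h0 : ∀ m, (g (0, 0, m)).1 = 0) : ∃ c, g = zc c := by
  have hmid : ∀ v, (g v).2.1 = v.2.1 := fun v => Act.mid (d := 1) hκ hg.1 hg.2.1 (one_mem _) v
  have hm : ∀ m, g (0, 0, m) = (0, 0, m) := by
    intro m
    refine Prod.ext (h0 m) (Prod.ext (hmid _) (hg.2.2 m))
  have hb2 : ∀ b, (g (0, b, 0)).2.2 = 0 := by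
    intro b
    apply hQM
    intro y
    have h1 := polar_map hg.1 (0, b, 0) (0, 0, y)
    rw [hm, polar_qW, polar_qW] at h1
    simpa using h1
  have hb1 : ∀ b, polar κ (g (0, b, 0)).1 b = 0 := by
    intro b
    have h1 := hg.1 (0, b, 0)
    rw [qW_apply, qW_apply, hmid, hb2] at h1
    simpa using h1
  obtain ⟨e₁, he₁⟩ := H955.FS.Plane.exists_ne_zero hN (F := F) (N := N)
  obtain ⟨e₂, he⟩ := hκ.exists_polar_eq he₁ 1
  have he' : polar κ e₂ e₁ = 1 := by rw [polar_comm]; exact he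
  let ψ : N →ₗ[F] N := LinearMap.fst F N (N × M) ∘ₗ g.toLinearMap ∘ₗ
    LinearMap.inr F N (N × M) ∘ₗ LinearMap.inl F N M
  have hψ : ∀ b, ψ b = (g (0, b, 0)).1 := fun b => rfl
  have hψ0 : ∀ b, polar κ (ψ b) b = 0 := hb1
  have hψ1 : ∀ b b', polar κ (ψ b) b' = polar κ (ψ b') b := by
    intro b b'
    have h1 := hψ0 (b + b')
    rw [map_add, polar_add_left, polar_add_right, polar_add_right, hψ0, hψ0, zero_add,
      add_zero] at h1
    rwa [CharTwo.add_eq_zero] at h1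
  refine ⟨polar κ (ψ e₁) e₂, ?_⟩
  have key : ∀ b, ψ b = polar κ (ψ e₁) e₂ • b := by
    intro b
    have h1 : ψ e₁ = polar κ (ψ e₁) e₂ • e₁ := by
      conv_lhs => rw [H955.FS.Plane.expand hN he (ψ e₁)]
      rw [hψ0, zero_smul, add_zero]
    have h2 : ψ e₂ = polar κ (ψ e₁) e₂ • e₂ := by
      conv_lhs => rw [H955.FS.Plane.expand hN he (ψ e₂)]
      rw [hψ0, zero_smul, zero_add, hψ1]
    have h3 := H955.FS.Plane.expand hN he b
    conv_lhs => rw [h3, map_add, map_smul, map_smul, h1, h2]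
    conv_rhs => rw [h3]
    module
  ext v : 1
  have h4 : g v = (v.1 + (g (0, v.2.1, 0)).1, v.2.1, v.2.2) := by
    conv_lhs => rw [split3 v, map_add, map_add, hg.2.1, hm]
    refine Prod.ext ?_ (Prod.ext ?_ ?_)
    · simp
    · simp [hmid]
    · simp [hb2]
  rw [h4, zc_apply, ← hψ, key]

theorem exists_rep [FiniteDimensional F M] (hQM : Nondeg QM) (ℓ : M →ₗ[F] F) :
    ∃ w, ∀ m, polar QM w m = ℓ m := by
  have hB : (polarBilin QM).Nondegenerate := by
    refine ⟨hQM, fun y hy => hQM y fun x => ?_⟩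
    rw [polar_comm]
    exact hy x
  refine ⟨(LinearMap.BilinForm.toDual (polarBilin QM) hB).symm ℓ, fun m => ?_⟩
  exact LinearMap.BilinForm.apply_toDual_symm_apply (hB := hB) ℓ m

/-- The decomposition of the elements of `rad`. -/
theorem exists_dec [FiniteDimensional F N] [FiniteDimensional F M] (hκ : Nondeg κ)
    (hQM : Nondeg QM) (hN : Module.finrank F N = 2) {e₁ e₂ : N} (he : polar κ e₁ e₂ = 1)
    {g : (N × N × M) ≃ₗ[F] (N × N × M)} (hg : g ∈ rad κ QM hκ) :
    ∃ (c : F) (m₁ m₂ : M), g = zc c * (sg κ QM e₁ m₁ * sg κ QM e₂ m₂) := by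
  let ℓ₁ : M →ₗ[F] F := (polarBilin κ).flip e₂ ∘ₗ LinearMap.fst F N (N × M) ∘ₗ g.toLinearMap ∘ₗ
    LinearMap.inr F N (N × M) ∘ₗ LinearMap.inr F N M
  let ℓ₂ : M →ₗ[F] F := (polarBilin κ).flip e₁ ∘ₗ LinearMap.fst F N (N × M) ∘ₗ g.toLinearMap ∘ₗ
    LinearMap.inr F N (N × M) ∘ₗ LinearMap.inr F N M
  have hℓ₁ : ∀ m, ℓ₁ m = polar κ (g (0, 0, m)).1 e₂ := fun m => rfl
  have hℓ₂ : ∀ m, ℓ₂ m = polar κ (g (0, 0, m)).1 e₁ := fun m => rfl
  obtain ⟨m₁, hm₁⟩ := exists_rep hQM ℓ₁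
  obtain ⟨m₂, hm₂⟩ := exists_rep hQM ℓ₂
  have h1 : g * (sg κ QM e₁ m₁ * sg κ QM e₂ m₂)⁻¹ ∈ rad κ QM hκ :=
    mul_mem hg (inv_mem (mul_mem (sg_mem_rad hκ _ _) (sg_mem_rad hκ _ _)))
  obtain ⟨c, hc⟩ := exists_zc hκ hQM hN h1 (by
    intro m
    have h2 : (g * (sg κ QM e₁ m₁ * sg κ QM e₂ m₂)⁻¹) (0, 0, m)
        = g (sg κ QM e₂ m₂ (sg κ QM e₁ m₁ (0, 0, m))) := by
      rw [mul_inv_rev, sg_inv, sg_inv]
      rfl
    have h3 : sg κ QM e₂ m₂ (sg κ QM e₁ m₁ (0, 0, m))
        = ((polar QM m₁ m) • e₁ + (polar QM m₂ m) • e₂, 0, 0) + (0, 0, m) := by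
      rw [sg_apply, sg_apply]
      simp
    rw [h2, h3, map_add, hg.2.1, hm₁, hm₂, hℓ₁, hℓ₂]
    show polar κ (g (0, 0, m)).1 e₂ • e₁ + polar κ (g (0, 0, m)).1 e₁ • e₂ + (g (0, 0, m)).1 = 0
    rw [← H955.FS.Plane.expand hN he]
    exact two_smul_zero (F := F) _)
  refine ⟨c, m₁, m₂, ?_⟩
  rw [← hc, inv_mul_cancel_right]

end Cfsg.Agent.H592.FSFour
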