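import Cfsg.Agent.Characters.Core
import Cfsg.Agent.Characters.Brauer

/-!
# The parity principle

`χ` a real-valued irreducible character of a finite group `G`. Then there are an element `s` of odd
order and a `2`-subgroup `T` centralising or inverting `s` (some element of `T` inverting it) such
that no restriction `χ_H` with `s ∈ H`, `T ≤ H` is of the form `a + conj a`.
-/

set_option autoImplicit false
set_option linter.unusedSectionVars false

namespace Cfsg.Agent.H592.FSPar

open Cfsg Cfsg.Agent.Characters.Core Cfsg.Agent.Characters.Brauer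
open scoped ComplexConjugate

/-- A character of the form `a + conj a`. -/
def Split {H : Type*} [Group H] (f : H → ℂ) : Prop :=
  ∃ a : H → ℂ, IsCharacter H a ∧ ∀ h, f h = a h + conj (a h)

theorem Split.comp {H K : Type*} [Group H] [Group K] (φ : K →* H) {f : H → ℂ} (h : Split f) :
    Split (fun k => f (φ k)) := by
  obtain ⟨a, ha, hf⟩ := h
  exact ⟨fun k => a (φ k), isCharacter_comp φ ha, fun k => hf _⟩

/-- The combinations of characters whose coefficients are algebraic integers. -/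
def zch (G : Type*) [Group G] : Submodule (integralClosure ℤ ℂ) (G → ℂ) :=
  Submodule.span (integralClosure ℤ ℂ) {f | IsCharacter G f}

section zch

variable {G : Type*} [Group G]

theorem mem_zch_of_isCharacter {f : G → ℂ} (hf : IsCharacter G f) : f ∈ zch G :=
  Submodule.subset_span hf

theorem zch_mul {f f' : G → ℂ} (hf : f ∈ zch G) (hf' : f' ∈ zch G) : f * f' ∈ zch G := by
  refine Submodule.span_induction₂ (p := fun a b _ _ => a * b ∈ zch G) ?_ ?_ ?_ ?_ ?_ ?_ ?_ hf hf'
  · intro x y hx hy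
    exact Submodule.subset_span (isCharacter_mul hx hy)
  · intro y _
    rw [zero_mul]; exact zero_mem _
  · intro x _
    rw [mul_zero]; exact zero_mem _
  · intro x y z _ _ _ hx hy
    rw [add_mul]; exact add_mem hx hy
  · intro x y z _ _ _ hx hy
    rw [mul_add]; exact add_mem hx hy
  · intro r x y _ _ h
    rw [smul_mul_assoc]; exact Submodule.smul_mem _ _ h
  · intro r x y _ _ h
    rw [mul_smul_comm]; exact Submodule.smul_mem _ _ h

theorem zch_isClassFunction {f : G → ℂ} (hf : f ∈ zch G) : IsClassFunction G f := by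
  refine Submodule.span_induction (p := fun a _ => IsClassFunction G a) ?_ ?_ ?_ ?_ hf
  · intro x hx
    exact isCharacter_isClassFunction hx
  · intro g h
    rfl
  · intro x y _ _ hx hy g h
    simp only [Pi.add_apply]
    rw [hx g h, hy g h]
  · intro r x _ hx g h
    simp only [Pi.smul_apply]
    rw [hx g h]

theorem zch_comp {H : Type*} [Group H] (φ : H →* G) {f : G → ℂ} (hf : f ∈ zch G) :
    (fun h => f (φ h)) ∈ zch H := by
  refine Submodule.span_induction (p := fun a _ => (fun h => a (φ h)) ∈ zch H) ?_ ?_ ?_ ?_ hf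
  · intro x hx
    exact Submodule.subset_span (isCharacter_comp φ hx)
  · exact zero_mem _
  · intro x y _ _ hx hy
    exact add_mem hx hy
  · intro r x _ hx
    exact Submodule.smul_mem _ r hx

theorem zch_inv {f : G → ℂ} (hf : f ∈ zch G) : (fun g => f g⁻¹) ∈ zch G := by
  refine Submodule.span_induction (p := fun a _ => (fun h => a h⁻¹) ∈ zch G) ?_ ?_ ?_ ?_ hf
  · intro x hx
    exact Submodule.subset_span (isCharacter_inv hx)
  · exact zero_mem _
  · intro x y _ _ hx hy
    exact add_mem hx hy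
  · intro r x _ hx
    exact Submodule.smul_mem _ r hx

/-- The mean value of an element of `zch G` is an algebraic integer. -/
theorem isIntegral_avg [Fintype G] {f : G → ℂ} (hf : f ∈ zch G) :
    IsIntegral ℤ ((Nat.card G : ℂ)⁻¹ * ∑ g : G, f g) := by
  refine Submodule.span_induction
    (p := fun a _ => IsIntegral ℤ ((Nat.card G : ℂ)⁻¹ * ∑ g : G, a g)) ?_ ?_ ?_ ?_ hf
  · intro x hx
    obtain ⟨n, hn⟩ := classInner_isNat hx (isCharacter_one (G := G))
    have h1 : classInner x (1 : G → ℂ) = (Nat.card G : ℂ)⁻¹ * ∑ g : G, x g := by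
      rw [classInner_def]
      simp
    rw [← h1, hn]
    exact (isIntegral_algebraMap (R := ℤ) (A := ℂ) (x := (n : ℤ))) |> fun h => by simpa using h
  · simp only [Pi.zero_apply, Finset.sum_const_zero, mul_zero]
    exact isIntegral_zero
  · intro x y _ _ hx hy
    simp only [Pi.add_apply, Finset.sum_add_distrib, mul_add]
    exact hx.add hy
  · intro r x _ hx
    have h1 : (Nat.card G : ℂ)⁻¹ * ∑ g : G, (r • x) g
        = (r : ℂ) * ((Nat.card G : ℂ)⁻¹ * ∑ g : G, x g) := by
      have : ∀ g, (r • x) g = (r : ℂ) * x g := fun g => rfl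
      simp only [this]
      rw [← Finset.mul_sum]
      ring
    rw [h1]
    exact IsIntegral.mul r.2 hx

theorem elemSpan_le [Fintype G] :
    Submodule.span (integralClosure ℤ ℂ) (elemSet G) ≤ zch G :=
  Submodule.span_mono fun _ hf => elemSet_isCharacter hf

/-- The function counting the conjugates in `s P`. -/
noncomputable def cnt (s : G) (P : Subgroup G) (y : G) : ℂ :=
  (Nat.card P : ℂ)⁻¹ * (Nat.card {z : G // s⁻¹ * (z⁻¹ * y * z) ∈ P} : ℂ)

theorem cnt_mem [Fintype G] (p : ℕ) [Fact p.Prime] (s : G) (P : Subgroup G)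
    (hcomm : ∀ v ∈ P, Commute s v) (hs : (orderOf s).Coprime p) (hP : IsPGroup p P) :
    cnt s P ∈ zch G :=
  elemSpan_le (mem_span_count p s P hcomm hs hP)

/-- Averaging against `cnt s P`. -/
theorem avg_mul_cnt [Fintype G] (s : G) (P : Subgroup G) [Fintype P] {f : G → ℂ}
    (hf : IsClassFunction G f) : (Nat.card G : ℂ)⁻¹ * ∑ g : G, f g * cnt s P g
      = (Nat.card P : ℂ)⁻¹ * ∑ v : P, f (s * v) := by
  classical
  have hG : (Nat.card G : ℂ) ≠ 0 := card_ne_zero_complex
  have hP : (Nat.card P : ℂ) ≠ 0 := card_ne_zero_complex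
  have h1 : ∀ g : G, f g * cnt s P g = (Nat.card P : ℂ)⁻¹ *
      ∑ z : G, if s⁻¹ * (z⁻¹ * g * z) ∈ P then f g else 0 := by
    intro g
    rw [cnt, Nat.card_eq_fintype_card (α := {z : G // s⁻¹ * (z⁻¹ * g * z) ∈ P}),
      Fintype.card_subtype, ← Finset.sum_filter, Finset.sum_const, nsmul_eq_mul]
    ring
  have h2 : ∀ z : G, ∑ g : G, (if s⁻¹ * (z⁻¹ * g * z) ∈ P then f g else 0)
      = ∑ v : P, f (s * v) := by
    intro z
    have h3 : ∑ g : G, (if s⁻¹ * (z⁻¹ * g * z) ∈ P then f g else 0)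
        = ∑ g : G, (if g ∈ P then f (s * g) else 0) := by
      refine Fintype.sum_equiv ((MulAut.conj z⁻¹).toEquiv.trans (Equiv.mulLeft s⁻¹)) _ _ fun g => ?_
      have h4 : ((MulAut.conj z⁻¹).toEquiv.trans (Equiv.mulLeft s⁻¹)) g
          = s⁻¹ * (z⁻¹ * g * z) := by
        simp
      rw [h4]
      split_ifs
      · rw [mul_inv_cancel_left]
        have := hf g z⁻¹
        rw [inv_inv] at this
        exact this.symm
      · rfl
    rw [h3, ← Finset.sum_filter]
    symm
    refine Finset.sum_bij (fun v _ => (v : G)) ?_ ?_ ?_ ?_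
    · intro v _
      simp
    · intro v _ w _ h
      exact Subtype.ext h
    · intro g hg
      exact ⟨⟨g, (Finset.mem_filter.1 hg).2⟩, Finset.mem_univ _, rfl⟩
    · intro v _
      rfl
  simp_rw [h1]
  rw [← Finset.mul_sum, Finset.sum_comm]
  simp_rw [h2]
  rw [Finset.sum_const, Finset.card_univ, ← Nat.card_eq_fintype_card, nsmul_eq_mul]
  field_simp

theorem isIntegral_avg_coset [Fintype G] (p : ℕ) [Fact p.Prime] (s : G) (P : Subgroup G)
    [Fintype P] (hcomm : ∀ v ∈ P, Commute s v) (hs : (orderOf s).Coprime p) (hP : IsPGroup p P)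
    {f : G → ℂ} (hf : f ∈ zch G) :
    IsIntegral ℤ ((Nat.card P : ℂ)⁻¹ * ∑ v : P, f (s * v)) := by
  rw [← avg_mul_cnt s P (zch_isClassFunction hf)]
  exact isIntegral_avg (zch_mul hf (cnt_mem p s P hcomm hs hP))

end zch

/-! ### A local form of Banaschewski's lemma -/

theorem exists_odd_const {S : Type*} [Finite S] (W : NonUnitalSubring (S → ℤ))
    (h : ∀ x : S, ∃ f ∈ W, Odd (f x)) : ∃ m : ℤ, Odd m ∧ (fun _ : S => m) ∈ W := by
  classical
  have key2 : ∀ s : Finset S, ∃ f ∈ W, ∃ m : ℤ, Odd m ∧ ∀ x ∈ s, f x = m := by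
    intro s
    induction s using Finset.induction_on with
    | empty => exact ⟨0, zero_mem W, 1, odd_one, by simp⟩
    | insert a s ha ih =>
      obtain ⟨f, hf, m, hm, hfs⟩ := ih
      obtain ⟨f', hf', hfa⟩ := h a
      refine ⟨(f' a) • f + m • f' - f * f', sub_mem (add_mem (zsmul_mem hf _) (zsmul_mem hf' _))
        (mul_mem hf hf'), m * f' a, hm.mul hfa, ?_⟩
      intro x hx
      simp only [Pi.sub_apply, Pi.add_apply, Pi.smul_apply, Pi.mul_apply, smul_eq_mul]
      rcases Finset.mem_insert.1 hx with rfl | hx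
      · ring
      · rw [hfs x hx]
        ring
  have := Fintype.ofFinite S
  obtain ⟨f, hf, m, hm, hf1⟩ := key2 Finset.univ
  refine ⟨m, hm, ?_⟩
  have : f = fun _ => m := funext fun x => hf1 x (Finset.mem_univ x)
  rwa [this] at hf

/-! ### The counting function at an element -/

section good

variable {G : Type*} [Group G] [Fintype G]

/-- For every `x` there is an element `s` of odd order such that, for each Sylow `2`-subgroup `P` of
`C_G(s)`, the function `cnt s P` has natural values, the one at `x` being odd. -/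
theorem exists_good_elem (x : G) : ∃ (s : G) (e : ℕ), Odd (orderOf s) ∧ s = x ^ e ∧
    (∀ v : G, Commute s v → (∃ j, v ^ 2 ^ j = 1) → (s * v) ^ e = s) ∧
    ∀ P0 : Sylow 2 (Subgroup.centralizer ({s} : Set G)), ∃ n : G → ℕ,
      (∀ y, cnt s ((P0 : Subgroup (Subgroup.centralizer ({s} : Set G))).map
        (Subgroup.centralizer ({s} : Set G)).subtype) y = n y) ∧ Odd (n x) := by
  have : Fact (Nat.Prime 2) := ⟨Nat.prime_two⟩
  obtain ⟨e, k, m, hn, hmp, he1, he0⟩ :=
    exists_exponent (Nat.card G) 2 Nat.card_pos.ne' Nat.prime_two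
  have hpke : 2 ^ k ∣ e := Nat.modEq_zero_iff_dvd.1 he0
  have hord : ∀ g : G, g ^ (2 ^ k * m) = 1 := fun g => by rw [← hn]; exact pow_card_eq_one'
  obtain ⟨s, hs⟩ : ∃ s, s = x ^ e := ⟨_, rfl⟩
  obtain ⟨u, hu⟩ : ∃ u, u = s⁻¹ * x := ⟨_, rfl⟩
  have hsx : Commute s x := by rw [hs]; exact (Commute.refl x).pow_left e
  have hxsu : x = s * u := by rw [hu, mul_inv_cancel_left]
  have hsu : Commute s u := by rw [hu]; exact ((Commute.refl s).inv_right).mul_right hsx
  have hsm : s ^ m = 1 := by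
    obtain ⟨c, hc⟩ := hpke
    rw [hs, ← pow_mul, hc]
    have : 2 ^ k * c * m = (2 ^ k * m) * c := by ring
    rw [this, pow_mul, hord, one_pow]
  have hsord : (orderOf s).Coprime 2 :=
    Nat.Coprime.coprime_dvd_left (orderOf_dvd_of_pow_eq_one hsm) hmp
  have hse : s ^ e = s := by
    have h1 : e ≡ 1 [MOD orderOf s] := he1.of_dvd (orderOf_dvd_of_pow_eq_one hsm)
    have h2 := (pow_eq_pow_iff_modEq (x := s)).2 h1
    rwa [pow_one] at h2
  have hupk : u ^ 2 ^ k = 1 := by
    have h1 : u = x ^ (1 - (e : ℤ)) := by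
      rw [hu, hs, sub_eq_neg_add, zpow_add, zpow_neg, zpow_natCast, zpow_one]
    have h2 : (m : ℤ) ∣ 1 - e := (Nat.modEq_iff_dvd.1 he1)
    obtain ⟨c, hc⟩ := h2
    rw [h1, hc, ← zpow_natCast, ← zpow_mul]
    have h3 : (m : ℤ) * c * ((2 ^ k : ℕ) : ℤ) = ((2 ^ k * m : ℕ) : ℤ) * c := by push_cast; ring
    rw [h3, zpow_mul, zpow_natCast, hord, one_zpow]
  have hve : ∀ v : G, (∃ j, v ^ 2 ^ j = 1) → v ^ e = 1 := by
    rintro v ⟨j, hj⟩
    have h1 : orderOf v ∣ 2 ^ k := by
      have h2 : (orderOf v).Coprime m :=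
        Nat.Coprime.coprime_dvd_left (orderOf_dvd_of_pow_eq_one hj)
          (Nat.Coprime.pow_left j hmp.symm)
      exact h2.dvd_of_dvd_mul_right (orderOf_dvd_of_pow_eq_one (hord v))
    exact orderOf_dvd_iff_pow_eq_one.1 (h1.trans hpke)
  refine ⟨s, e, ?_, hs, ?_, fun P0 => ?_⟩
  · exact Nat.coprime_two_right.1 hsord
  · intro v hv1 hv2
    rw [hv1.mul_pow, hse, hve v hv2, mul_one]
  obtain ⟨P, hPdef⟩ : ∃ P, P = (P0 : Subgroup (Subgroup.centralizer ({s} : Set G))).map
        (Subgroup.centralizer ({s} : Set G)).subtype := ⟨_, rfl⟩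
  rw [← hPdef]
  have hZ : ∀ z : G, z ∈ Subgroup.centralizer ({s} : Set G) ↔ s * z = z * s := fun z => by
    rw [Subgroup.mem_centralizer_iff]
    simp
  have hP : IsPGroup 2 P := by
    rw [hPdef]
    exact P0.isPGroup'.map _
  have hPZ : ∀ v ∈ P, Commute s v := by
    rw [hPdef]
    rintro v ⟨v', _, rfl⟩
    exact (hZ v').1 v'.2
  have hPc : Nat.card P = Nat.card P0 := by
    rw [hPdef]
    exact Subgroup.card_map_of_injective (Subgroup.subtype_injective _)
  choose n hn' using exists_count s P hPZ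
  have hP0 : (Nat.card P : ℂ) ≠ 0 := Nat.cast_ne_zero.2 Nat.card_pos.ne'
  refine ⟨n, fun y => ?_, ?_⟩
  · rw [cnt, hn' y]
    push_cast
    field_simp
  · have huZ : u ∈ Subgroup.centralizer ({s} : Set G) := (hZ u).2 hsu.eq
    obtain ⟨n', hn1, hn2⟩ := count_fix P0 (⟨u, huZ⟩ : Subgroup.centralizer ({s} : Set G)) (by
      rintro ⟨g, hg⟩
      obtain ⟨i, rfl⟩ := Subgroup.mem_zpowers_iff.1 hg
      refine ⟨k, Subtype.ext (Subtype.ext ?_)⟩
      simp only [SubmonoidClass.mk_pow, SubgroupClass.coe_zpow, OneMemClass.coe_one,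
        SubmonoidClass.coe_pow]
      rw [← zpow_natCast, ← zpow_mul, mul_comm, zpow_mul, zpow_natCast, hupk, one_zpow])
    have hcard : Nat.card {z : G // s⁻¹ * (z⁻¹ * x * z) ∈ P} =
        Nat.card {z : Subgroup.centralizer ({s} : Set G) //
          z⁻¹ * (⟨u, huZ⟩ : Subgroup.centralizer ({s} : Set G)) * z ∈ P0} := by
      have hmem : ∀ z : G, s⁻¹ * (z⁻¹ * x * z) ∈ P →
          z ∈ Subgroup.centralizer ({s} : Set G) := by
        intro z hz
        obtain ⟨v, hv⟩ : ∃ v, v = s⁻¹ * (z⁻¹ * x * z) := ⟨_, rfl⟩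
        rw [← hv] at hz
        have h1 : z⁻¹ * x * z = s * v := by rw [hv, mul_inv_cancel_left]
        have h2 : (z⁻¹ * x * z) ^ e = z⁻¹ * s * z := by
          have := conj_pow (i := e) (a := z⁻¹) (b := x)
          rw [inv_inv] at this
          rw [this, hs]
        rw [h1, (hPZ v hz).mul_pow, hse, hve v, mul_one] at h2
        · rw [hZ]
          calc s * z = z * (z⁻¹ * s * z) := by group
            _ = z * s := by rw [← h2]
        · obtain ⟨j, hj⟩ := hP ⟨v, hz⟩
          exact ⟨j, by simpa using congrArg Subtype.val hj⟩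
      have heq : ∀ z : Subgroup.centralizer ({s} : Set G),
          (s⁻¹ * ((z : G)⁻¹ * x * z) ∈ P ↔
            z⁻¹ * (⟨u, huZ⟩ : Subgroup.centralizer ({s} : Set G)) * z ∈ P0) := by
        intro z
        have h1 : s⁻¹ * ((z : G)⁻¹ * x * z) = (z : G)⁻¹ * u * z := by
          have h2 : (z : G)⁻¹ * s = s * (z : G)⁻¹ := by
            have h3 : Commute s z := (hZ z).1 z.2
            exact (h3.inv_right).eq.symm
          calc s⁻¹ * ((z : G)⁻¹ * x * z) = s⁻¹ * ((z : G)⁻¹ * s) * u * z := by rw [hxsu]; group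
            _ = (z : G)⁻¹ * u * z := by rw [h2]; group
        rw [h1, hPdef]
        constructor
        · rintro ⟨w, hw, hw2⟩
          have : w = z⁻¹ * (⟨u, huZ⟩ : Subgroup.centralizer ({s} : Set G)) * z := Subtype.ext hw2
          rw [← this]
          exact hw
        · intro h
          exact ⟨_, h, rfl⟩
      refine Nat.card_congr
        { toFun := fun z => ⟨⟨z.1, hmem z.1 z.2⟩, (heq ⟨z.1, hmem z.1 z.2⟩).1 z.2⟩
          invFun := fun z => ⟨z.1.1, (heq z.1).2 z.2⟩
          left_inv := fun z => rfl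
          right_inv := fun z => rfl }
    rw [hn' x, hPc] at hcard
    have h3 : n x = n' := by
      have := hcard.trans hn1
      exact Nat.eq_of_mul_eq_mul_left Nat.card_pos this
    rw [h3]
    exact Nat.not_even_iff_odd.1 (fun h => hn2 h.two_dvd)

end good

/-! ### The parity principle -/

section parity

variable {G : Type*} [Group G] [Fintype G]

/-- The elements centralising or inverting `s`. -/
def cstar (s : G) : Subgroup G where
  carrier := {g | g * s * g⁻¹ = s ∨ g * s * g⁻¹ = s⁻¹}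
  one_mem' := Or.inl (by simp)
  mul_mem' := by
    intro a b ha hb
    have h1 : a * b * s * (a * b)⁻¹ = a * (b * s * b⁻¹) * a⁻¹ := by group
    show a * b * s * (a * b)⁻¹ = s ∨ a * b * s * (a * b)⁻¹ = s⁻¹
    rw [h1]
    have h2 : a * s⁻¹ * a⁻¹ = (a * s * a⁻¹)⁻¹ := by group
    rcases hb with hb | hb <;> rw [hb]
    · exact ha
    · rw [h2]
      rcases ha with ha | ha <;> rw [ha]
      · exact Or.inr rfl
      · exact Or.inl (inv_inv s)
  inv_mem' := by
    intro a ha
    show a⁻¹ * s * a⁻¹⁻¹ = s ∨ a⁻¹ * s * a⁻¹⁻¹ = s⁻¹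
    rcases ha with ha | ha
    · left
      nth_rewrite 1 [← ha]
      group
    · right
      have h2 : s = (a * s * a⁻¹)⁻¹ := by rw [ha, inv_inv]
      nth_rewrite 1 [h2]
      group

theorem mem_cstar {s g : G} : g ∈ cstar s ↔ (g * s * g⁻¹ = s ∨ g * s * g⁻¹ = s⁻¹) := Iff.rfl

theorem centralizer_le_cstar (s : G) : Subgroup.centralizer ({s} : Set G) ≤ cstar s := by
  intro z hz
  rw [Subgroup.mem_centralizer_iff] at hz
  left
  have := hz s rfl
  rw [← this]
  group

/-- The Sylow `2`-subgroups of `C_G(s)` extend to `2`-groups containing an element inverting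
`s`. -/
theorem exists_sylow (s : G) (hreal : IsConj s s⁻¹) :
    ∃ (P0 : Sylow 2 (Subgroup.centralizer ({s} : Set G))) (T : Subgroup G), IsPGroup 2 T ∧
      T ≤ cstar s ∧ (∃ t ∈ T, t * s * t⁻¹ = s⁻¹) ∧
      T ⊓ Subgroup.centralizer ({s} : Set G) =
        (P0 : Subgroup (Subgroup.centralizer ({s} : Set G))).map
          (Subgroup.centralizer ({s} : Set G)).subtype := by
  classical
  have : Fact (Nat.Prime 2) := ⟨Nat.prime_two⟩
  set Z := Subgroup.centralizer ({s} : Set G) with hZ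
  have hZM : Z ≤ cstar s := centralizer_le_cstar s
  obtain ⟨P0⟩ : Nonempty (Sylow 2 Z) := inferInstance
  -- the Sylow subgroup of `cstar s`
  have hP1 : IsPGroup 2 ((P0 : Subgroup Z).map (Subgroup.inclusion hZM)) := P0.isPGroup'.map _
  obtain ⟨T0, hT0⟩ := hP1.exists_le_sylow
  refine ⟨P0, (T0 : Subgroup (cstar s)).map (cstar s).subtype, T0.isPGroup'.map _, ?_, ?_, ?_⟩
  · rintro _ ⟨m, _, rfl⟩
    exact m.2
  · obtain ⟨t₀, ht₀⟩ := isConj_iff.1 hreal
    by_cases hs1 : s = s⁻¹
    · exact ⟨1, one_mem _, by simpa using hs1⟩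
    by_contra hcon
    push Not at hcon
    have hTZ : (T0 : Subgroup (cstar s)) ≤ Z.subgroupOf (cstar s) := by
      intro m hm
      rw [Subgroup.mem_subgroupOf, hZ, Subgroup.mem_centralizer_iff]
      intro s' hs'
      rw [Set.mem_singleton_iff] at hs'
      rw [hs']
      have h1 := hcon m ⟨m, hm, rfl⟩
      rcases m.2 with h2 | h2
      · calc s * (m : G) = (m * s * (m : G)⁻¹) * m := by rw [h2]
          _ = m * s := by group
      · exact absurd h2 h1
    have hidx : (Z.subgroupOf (cstar s)).index = 2 := by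
      rw [Subgroup.index_eq_two_iff]
      refine ⟨⟨t₀, Or.inr ht₀⟩, ?_⟩
      intro b
      have h0 : ∀ g : G, g ∈ Z ↔ g * s * g⁻¹ = s := by
        intro g
        rw [hZ, Subgroup.mem_centralizer_iff]
        constructor
        · intro h
          rw [← h s rfl]
          group
        · intro h s' hs'
          rw [Set.mem_singleton_iff] at hs'
          rw [hs']
          calc s * g = (g * s * g⁻¹) * g := by rw [h]
            _ = g * s := by group
      rw [Subgroup.mem_subgroupOf, Subgroup.mem_subgroupOf, h0, h0]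
      have h3 : ((b * ⟨t₀, Or.inr ht₀⟩ : cstar s) : G) * s * ((b * ⟨t₀, Or.inr ht₀⟩ : cstar s) : G)⁻¹
          = (b : G) * (t₀ * s * t₀⁻¹) * (b : G)⁻¹ := by
        rw [Subgroup.coe_mul]
        show (b : G) * t₀ * s * ((b : G) * t₀)⁻¹ = _
        group
      rw [h3, ht₀]
      have h4 : (b : G) * s⁻¹ * (b : G)⁻¹ = ((b : G) * s * (b : G)⁻¹)⁻¹ := by group
      rw [h4]
      rcases b.2 with hb | hb
      · refine Or.inr ⟨hb, ?_⟩
        rw [hb]
        exact fun h => hs1 h.symm
      · refine Or.inl ⟨?_, ?_⟩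
        · rw [hb, inv_inv]
        · rw [hb]
          exact fun h => hs1 h.symm
    have h1 : (Z.subgroupOf (cstar s)).index ∣ (T0 : Subgroup (cstar s)).index :=
      Subgroup.index_dvd_of_le hTZ
    rw [hidx] at h1
    exact T0.not_dvd_index h1
  · -- maximality
    set T := (T0 : Subgroup (cstar s)).map (cstar s).subtype with hT
    have hPT : (P0 : Subgroup Z).map Z.subtype ≤ T := by
      rintro _ ⟨z, hz, rfl⟩
      exact ⟨Subgroup.inclusion hZM z, hT0 ⟨z, hz, rfl⟩, rfl⟩
    have hTp : IsPGroup 2 T := T0.isPGroup'.map _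
    have h1 : (P0 : Subgroup Z) ≤ T.subgroupOf Z := by
      intro z hz
      exact hPT ⟨z, hz, rfl⟩
    have h2 : T.subgroupOf Z = (P0 : Subgroup Z) := by
      apply P0.is_maximal' _ h1
      exact hTp.comap_of_injective Z.subtype Z.subtype_injective
    rw [← h2, Subgroup.subgroupOf_map_subtype]

theorem cnt_inv (s : G) (P : Subgroup G) (hPs : ∀ v ∈ P, Commute s v) (t : G)
    (ht : t * s * t⁻¹ = s⁻¹) (hP1 : ∀ v ∈ P, t * v * t⁻¹ ∈ P) (hP2 : ∀ v ∈ P, t⁻¹ * v * t ∈ P)
    (y : G) : cnt s P y⁻¹ = cnt s P y := by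
  unfold cnt
  congr 2
  have ht' : t⁻¹ * s * t = s⁻¹ := by
    have h2 : s = (t * s * t⁻¹)⁻¹ := by rw [ht, inv_inv]
    nth_rewrite 1 [h2]
    group
  have key : ∀ (t : G), t * s * t⁻¹ = s⁻¹ → (∀ v ∈ P, t * v * t⁻¹ ∈ P) → ∀ (y z : G),
      s⁻¹ * (z⁻¹ * y⁻¹ * z) ∈ P → s⁻¹ * ((z * t⁻¹)⁻¹ * y * (z * t⁻¹)) ∈ P := by
    intro t ht hP y z h
    obtain ⟨v, hv⟩ : ∃ v, v = s⁻¹ * (z⁻¹ * y⁻¹ * z) := ⟨_, rfl⟩
    rw [← hv] at h
    have h1 : z⁻¹ * y * z = (s * v)⁻¹ := by
      rw [hv]
      group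
    have h2 : (s * v)⁻¹ = s⁻¹ * v⁻¹ := by
      rw [(hPs v h).eq, mul_inv_rev]
    have h3 : s⁻¹ * ((z * t⁻¹)⁻¹ * y * (z * t⁻¹)) = s⁻¹ * (t * s * t⁻¹)⁻¹ * (t * v⁻¹ * t⁻¹) := by
      calc s⁻¹ * ((z * t⁻¹)⁻¹ * y * (z * t⁻¹)) = s⁻¹ * (t * (z⁻¹ * y * z) * t⁻¹) := by group
        _ = s⁻¹ * (t * (s⁻¹ * v⁻¹) * t⁻¹) := by rw [h1, h2]
        _ = s⁻¹ * (t * s * t⁻¹)⁻¹ * (t * v⁻¹ * t⁻¹) := by group
    rw [h3, ht, inv_inv, inv_mul_cancel, one_mul]
    exact hP _ (P.inv_mem h)
  refine Nat.card_congr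
    { toFun := fun z => ⟨z.1 * t⁻¹, key t ht hP1 y z.1 z.2⟩
      invFun := fun z => ⟨z.1 * t, ?_⟩
      left_inv := fun z => by simp
      right_inv := fun z => by simp }
  have h1 := key t⁻¹ (by rw [inv_inv]; exact ht') (by
    intro v hv
    rw [inv_inv]
    exact hP2 v hv) y⁻¹ z.1 (by rw [inv_inv]; exact z.2)
  rwa [inv_inv] at h1

/-- The local computation. -/
theorem even_local (s : G) (hodd : Odd (orderOf s)) (T : Subgroup G) (hT2 : IsPGroup 2 T)
    (hTs : T ≤ cstar s) {t : G} (htT : t ∈ T) (ht : t * s * t⁻¹ = s⁻¹) (P : Subgroup G)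
    (hP : P = T ⊓ Subgroup.centralizer ({s} : Set G))
    (H : Subgroup G) (hsH : s ∈ H) (hTH : T ≤ H) {χ : G → ℂ}
    (hχ : IsCharacter G χ) (hsplit : Split (fun h : H => χ h)) {θ : G → ℂ} (hθ : θ ∈ zch G)
    (hθs : ∀ g, θ g⁻¹ = θ g) :
    ∃ c : ℂ, IsIntegral ℤ c ∧
      (Nat.card G : ℂ)⁻¹ * ∑ g : G, χ g * χ g * cnt s P g * θ g = 2 * c := by
  classical
  have : Fact (Nat.Prime 2) := ⟨Nat.prime_two⟩
  obtain ⟨a, ha, haχ⟩ := hsplit
  have hcent : ∀ g : G, g ∈ Subgroup.centralizer ({s} : Set G) ↔ Commute s g := by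
    intro g
    rw [Subgroup.mem_centralizer_iff]
    simp only [Set.mem_singleton_iff, forall_eq]
    exact Iff.rfl
  have hPT : P ≤ T := by rw [hP]; exact inf_le_left
  have hPs : ∀ v ∈ P, Commute s v := by
    intro v hv
    rw [hP] at hv
    exact (hcent v).1 hv.2
  have hPH : P ≤ H := hPT.trans hTH
  have ht' : t⁻¹ * s * t = s⁻¹ := by
    have h2 : s = (t * s * t⁻¹)⁻¹ := by rw [ht, inv_inv]
    nth_rewrite 1 [h2]
    group
  have hconj : ∀ (t : G), t ∈ T → t * s * t⁻¹ = s⁻¹ → ∀ v ∈ P, t * v * t⁻¹ ∈ P := by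
    intro t htT ht v hv
    have h1 := hPs v hv
    rw [hP]
    refine Subgroup.mem_inf.2 ⟨T.mul_mem (T.mul_mem htT (hPT hv)) (T.inv_mem htT), ?_⟩
    rw [hcent]
    have h2 : Commute (t * s * t⁻¹) (t * v * t⁻¹) := by
      show t * s * t⁻¹ * (t * v * t⁻¹) = t * v * t⁻¹ * (t * s * t⁻¹)
      have : t * s * t⁻¹ * (t * v * t⁻¹) = t * (s * v) * t⁻¹ := by group
      rw [this, h1.eq]
      group
    rw [ht] at h2
    simpa using h2.inv_left
  have := Fintype.ofFinite P
  have := Fintype.ofFinite H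
  have hcop : (orderOf s).Coprime 2 := Nat.coprime_two_right.2 hodd
  -- pass to `P`
  have h1 : (Nat.card G : ℂ)⁻¹ * ∑ g : G, χ g * χ g * cnt s P g * θ g
      = (Nat.card P : ℂ)⁻¹ * ∑ v : P, (χ * χ * θ) (s * v) := by
    have hcf : IsClassFunction G (χ * χ * θ) := by
      intro g x
      simp only [Pi.mul_apply]
      rw [isCharacter_isClassFunction hχ g x, zch_isClassFunction hθ g x]
    rw [← avg_mul_cnt s P hcf]
    congr 1
    refine Finset.sum_congr rfl fun g _ => ?_
    simp only [Pi.mul_apply]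
    ring
  -- the functions on `H`
  let sH : H := ⟨s, hsH⟩
  let PH : Subgroup H := P.subgroupOf H
  have := Fintype.ofFinite PH
  have hcard : Nat.card PH = Nat.card P := Nat.card_congr (Subgroup.subgroupOfEquivOfLe hPH).toEquiv
  have hsum : ∀ f : H → ℂ, ∑ v : P, f ⟨s * v, H.mul_mem hsH (hPH v.2)⟩ = ∑ v : PH, f (sH * v) := by
    intro f
    refine (Fintype.sum_equiv (Subgroup.subgroupOfEquivOfLe hPH).toEquiv _ _ fun v => ?_).symm
    rfl
  have hint : ∀ f : H → ℂ, f ∈ zch H →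
      IsIntegral ℤ ((Nat.card P : ℂ)⁻¹ * ∑ v : P, f ⟨s * v, H.mul_mem hsH (hPH v.2)⟩) := by
    intro f hf
    rw [hsum, ← hcard]
    refine isIntegral_avg_coset 2 sH PH ?_ ?_ ?_ hf
    · intro v hv
      exact Subtype.ext (hPs v hv)
    · rwa [Subgroup.orderOf_mk]
    · exact (hT2.to_le hPT).comap_of_injective H.subtype H.subtype_injective
  have hθH : (fun h : H => θ h) ∈ zch H := zch_comp H.subtype hθ
  have haz : a ∈ zch H := mem_zch_of_isCharacter ha
  have haz' : (fun h => a h⁻¹) ∈ zch H := zch_inv haz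
  have hacl := isCharacter_isClassFunction ha
  have hθcl := zch_isClassFunction hθ
  -- the flip
  have hflip : ∑ v : P, (fun h : H => a h⁻¹ * a h⁻¹ * θ h) ⟨s * v, H.mul_mem hsH (hPH v.2)⟩
      = ∑ v : P, (fun h : H => a h * a h * θ h) ⟨s * v, H.mul_mem hsH (hPH v.2)⟩ := by
    refine Fintype.sum_equiv
      { toFun := fun v : P => (⟨t * (v : G)⁻¹ * t⁻¹, hconj t htT ht _ (P.inv_mem v.2)⟩ : P)
        invFun := fun v : P => (⟨t⁻¹ * (v : G)⁻¹ * t, by
          have := hconj t⁻¹ (T.inv_mem htT) (by rw [inv_inv]; exact ht') _ (P.inv_mem v.2)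
          rwa [inv_inv] at this⟩ : P)
        left_inv := fun v => by
          apply Subtype.ext
          simp only [mul_inv_rev, inv_inv]
          group
        right_inv := fun v => by
          apply Subtype.ext
          simp only [mul_inv_rev, inv_inv]
          group } _ _ fun v => ?_
    have h2 : (⟨s * (t * (v : G)⁻¹ * t⁻¹), H.mul_mem hsH (hPH (hconj t htT ht _ (P.inv_mem v.2)))⟩ : H)
        = (⟨t, hTH htT⟩ : H) * (⟨s * v, H.mul_mem hsH (hPH v.2)⟩ : H)⁻¹ * (⟨t, hTH htT⟩ : H)⁻¹ := by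
      apply Subtype.ext
      show s * (t * (v : G)⁻¹ * t⁻¹) = t * (s * v)⁻¹ * t⁻¹
      have h3 : (s * (v : G))⁻¹ = s⁻¹ * (v : G)⁻¹ := by
        rw [(hPs v v.2).eq, mul_inv_rev]
      have h4 : t * s⁻¹ * t⁻¹ = s := by
        have : t * s⁻¹ * t⁻¹ = (t * s * t⁻¹)⁻¹ := by group
        rw [this, ht, inv_inv]
      rw [h3]
      calc s * (t * (v : G)⁻¹ * t⁻¹) = (t * s⁻¹ * t⁻¹) * (t * (v : G)⁻¹ * t⁻¹) := by rw [h4]
        _ = t * (s⁻¹ * (v : G)⁻¹) * t⁻¹ := by group
    show a (⟨s * v, H.mul_mem hsH (hPH v.2)⟩ : H)⁻¹ * a (⟨s * v, H.mul_mem hsH (hPH v.2)⟩ : H)⁻¹ *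
        θ (s * v) = a ⟨s * (t * (v : G)⁻¹ * t⁻¹), H.mul_mem hsH (hPH (hconj t htT ht _ (P.inv_mem v.2)))⟩ *
        a ⟨s * (t * (v : G)⁻¹ * t⁻¹), H.mul_mem hsH (hPH (hconj t htT ht _ (P.inv_mem v.2)))⟩ *
        θ (s * (t * (v : G)⁻¹ * t⁻¹))
    have h5 : θ (s * (t * (v : G)⁻¹ * t⁻¹)) = θ (s * v) := by
      have h6 := congrArg (fun h : H => (h : G)) h2
      have h7 : s * (t * (v : G)⁻¹ * t⁻¹) = t * (s * v)⁻¹ * t⁻¹ := h6
      rw [h7, hθcl, hθs]
    rw [h5, h2, hacl]
  refine ⟨(Nat.card P : ℂ)⁻¹ * ∑ v : P, (fun h : H => a h * a h * θ h)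
      ⟨s * v, H.mul_mem hsH (hPH v.2)⟩ + (Nat.card P : ℂ)⁻¹ * ∑ v : P,
      (fun h : H => a h * a h⁻¹ * θ h) ⟨s * v, H.mul_mem hsH (hPH v.2)⟩, ?_, ?_⟩
  · exact (hint _ (zch_mul (zch_mul haz haz) hθH)).add
      (hint _ (zch_mul (zch_mul haz haz') hθH))
  · rw [h1]
    have h3 : ∀ v : P, (χ * χ * θ) (s * v) =
        (fun h : H => a h * a h * θ h) ⟨s * v, H.mul_mem hsH (hPH v.2)⟩
        + (fun h : H => a h⁻¹ * a h⁻¹ * θ h) ⟨s * v, H.mul_mem hsH (hPH v.2)⟩
        + 2 * (fun h : H => a h * a h⁻¹ * θ h) ⟨s * v, H.mul_mem hsH (hPH v.2)⟩ := by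
      intro v
      have h4 := haχ ⟨s * v, H.mul_mem hsH (hPH v.2)⟩
      have h5 : χ (s * v) = a ⟨s * v, H.mul_mem hsH (hPH v.2)⟩
        + a (⟨s * v, H.mul_mem hsH (hPH v.2)⟩ : H)⁻¹ := by
        rw [isCharacter_apply_inv ha]
        exact h4
      simp only [Pi.mul_apply]
      rw [h5]
      ring
    rw [Finset.sum_congr rfl fun v _ => h3 v, Finset.sum_add_distrib, Finset.sum_add_distrib,
      hflip, ← Finset.mul_sum]
    ring

/-- **The parity principle.** -/
theorem exists_not_split {χ : G → ℂ} (hχ : IsIrrCharacter G χ) (hreal : ∀ g, (χ g).im = 0) :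
    ∃ (s : G) (T : Subgroup G), Odd (orderOf s) ∧ IsPGroup 2 T ∧ T ≤ cstar s ∧
      (∃ t ∈ T, t * s * t⁻¹ = s⁻¹) ∧
      ∀ H : Subgroup G, s ∈ H → T ≤ H → ¬ Split (fun h : H => χ h) := by
  classical
  by_contra hcon
  push Not at hcon
  have : Fact (Nat.Prime 2) := ⟨Nat.prime_two⟩
  have hχc := isIrr_isCharacter hχ
  have hχi : ∀ g, χ g⁻¹ = χ g := by
    intro g
    rw [isCharacter_apply_inv hχc]
    exact Complex.conj_eq_iff_im.2 (hreal g)
  let good : (G → ℤ) → Prop := fun f => ∀ θ ∈ zch G, (∀ g, θ g⁻¹ = θ g) →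
    ∃ c : ℂ, IsIntegral ℤ c ∧ (Nat.card G : ℂ)⁻¹ * ∑ g : G, χ g * χ g * (f g : ℂ) * θ g = 2 * c
  let W : NonUnitalSubring (G → ℤ) :=
    { carrier := {f | (fun g => (f g : ℂ)) ∈ zch G ∧ (∀ g, f g⁻¹ = f g) ∧ good f}
      zero_mem' := by
        refine ⟨?_, fun g => rfl, fun θ _ _ => ⟨0, isIntegral_zero, ?_⟩⟩
        · have : (fun g : G => (((0 : G → ℤ) g : ℤ) : ℂ)) = 0 := by
            funext g
            simp
          rw [this]
          exact zero_mem _
        · simp
      add_mem' := by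
        rintro f f' ⟨h1, h2, h3⟩ ⟨h1', h2', h3'⟩
        refine ⟨?_, fun g => ?_, fun θ hθ hθs => ?_⟩
        · have : (fun g : G => (((f + f') g : ℤ) : ℂ)) = (fun g => (f g : ℂ)) +
              fun g => (f' g : ℂ) := by
            funext g
            simp
          rw [this]
          exact add_mem h1 h1'
        · rw [Pi.add_apply, Pi.add_apply, h2, h2']
        · obtain ⟨c, hc, hc'⟩ := h3 θ hθ hθs
          obtain ⟨d, hd, hd'⟩ := h3' θ hθ hθs
          refine ⟨c + d, hc.add hd, ?_⟩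
          rw [mul_add, ← hc', ← hd', ← mul_add, ← Finset.sum_add_distrib]
          congr 1
          refine Finset.sum_congr rfl fun g _ => ?_
          rw [Pi.add_apply]
          push_cast
          ring
      neg_mem' := by
        rintro f ⟨h1, h2, h3⟩
        refine ⟨?_, fun g => ?_, fun θ hθ hθs => ?_⟩
        · have : (fun g : G => (((-f) g : ℤ) : ℂ)) = -fun g => (f g : ℂ) := by
            funext g
            simp
          rw [this]
          exact neg_mem h1
        · rw [Pi.neg_apply, Pi.neg_apply, h2]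
        · obtain ⟨c, hc, hc'⟩ := h3 θ hθ hθs
          refine ⟨-c, hc.neg, ?_⟩
          rw [mul_neg, ← hc', ← mul_neg, ← Finset.sum_neg_distrib]
          congr 1
          refine Finset.sum_congr rfl fun g _ => ?_
          rw [Pi.neg_apply]
          push_cast
          ring
      mul_mem' := by
        rintro f f' ⟨h1, h2, h3⟩ ⟨h1', h2', h3'⟩
        refine ⟨?_, fun g => ?_, fun θ hθ hθs => ?_⟩
        · have : (fun g : G => (((f * f') g : ℤ) : ℂ)) = (fun g => (f g : ℂ)) *
              fun g => (f' g : ℂ) := by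
            funext g
            simp
          rw [this]
          exact zch_mul h1 h1'
        · rw [Pi.mul_apply, Pi.mul_apply, h2, h2']
        · obtain ⟨c, hc, hc'⟩ := h3 ((fun g => (f' g : ℂ)) * θ) (zch_mul h1' hθ) (by
            intro g
            rw [Pi.mul_apply, Pi.mul_apply, hθs, h2'])
          refine ⟨c, hc, ?_⟩
          rw [← hc']
          congr 1
          refine Finset.sum_congr rfl fun g _ => ?_
          rw [Pi.mul_apply, Pi.mul_apply]
          push_cast
          ring }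
  have hW : ∀ f : G → ℤ, f ∈ W ↔
      ((fun g => (f g : ℂ)) ∈ zch G ∧ (∀ g, f g⁻¹ = f g) ∧ good f) := fun f => Iff.rfl
  have hcent : ∀ s g : G, g ∈ Subgroup.centralizer ({s} : Set G) ↔ Commute s g := by
    intro s g
    rw [Subgroup.mem_centralizer_iff]
    simp only [Set.mem_singleton_iff, forall_eq]
    exact Iff.rfl
  have hex : ∀ x : G, ∃ f ∈ W, Odd (f x) := by
    intro x
    obtain ⟨s, e, hodd, hse, hv, hgood⟩ := exists_good_elem x
    have hcop : (orderOf s).Coprime 2 := Nat.coprime_two_right.2 hodd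
    by_cases hr : IsConj s s⁻¹
    · obtain ⟨P0, T, hT2, hTs, ⟨t, htT, ht⟩, hTP⟩ := exists_sylow s hr
      obtain ⟨n, hn, hnx⟩ := hgood P0
      obtain ⟨H, hsH, hTH, hsp⟩ := hcon s T hodd hT2 hTs ⟨t, htT, ht⟩
      set P : Subgroup G := (P0 : Subgroup (Subgroup.centralizer ({s} : Set G))).map
        (Subgroup.centralizer ({s} : Set G)).subtype with hP
      have hPT : P ≤ T := by rw [← hTP]; exact inf_le_left
      have hPs : ∀ v ∈ P, Commute s v := by
        intro v hv
        rw [← hTP] at hv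
        exact (hcent s v).1 hv.2
      have hconj : ∀ (t : G), t ∈ T → t * s * t⁻¹ = s⁻¹ → ∀ v ∈ P, t * v * t⁻¹ ∈ P := by
        intro t htT ht v hv
        have h1 := hPs v hv
        rw [← hTP]
        refine Subgroup.mem_inf.2 ⟨T.mul_mem (T.mul_mem htT (hPT hv)) (T.inv_mem htT), ?_⟩
        rw [hcent]
        have h2 : Commute (t * s * t⁻¹) (t * v * t⁻¹) := by
          show t * s * t⁻¹ * (t * v * t⁻¹) = t * v * t⁻¹ * (t * s * t⁻¹)
          have : t * s * t⁻¹ * (t * v * t⁻¹) = t * (s * v) * t⁻¹ := by group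
          rw [this, h1.eq]
          group
        rw [ht] at h2
        simpa using h2.inv_left
      have hcn : (fun g => (((fun y => (n y : ℤ)) g : ℤ) : ℂ)) = cnt s P := by
        funext g
        rw [hn g]
        simp
      refine ⟨fun y => (n y : ℤ), ?_, (Int.odd_coe_nat _).2 hnx⟩
      rw [hW]
      refine ⟨?_, ?_, ?_⟩
      · rw [hcn]
        exact cnt_mem 2 s P hPs hcop (hT2.to_le hPT)
      · intro g
        have h1 := cnt_inv s P hPs t ht (hconj t htT ht) (by
          have ht' : t⁻¹ * s * t⁻¹⁻¹ = s⁻¹ := by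
            have h2 : s = (t * s * t⁻¹)⁻¹ := by rw [ht, inv_inv]
            nth_rewrite 1 [h2]
            group
          intro v hv
          have := hconj t⁻¹ (T.inv_mem htT) ht' v hv
          rwa [inv_inv] at this) g
        rw [hn, hn] at h1
        exact_mod_cast h1
      · intro θ hθ hθs
        obtain ⟨c, hc, hc'⟩ := even_local s hodd T hT2 hTs htT ht P hTP.symm H hsH hTH hχc hsp hθ hθs
        refine ⟨c, hc, ?_⟩
        rw [← hc']
        congr 1
        refine Finset.sum_congr rfl fun g _ => ?_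
        rw [hn g]
        simp
    · obtain ⟨P0⟩ : Nonempty (Sylow 2 (Subgroup.centralizer ({s} : Set G))) := inferInstance
      obtain ⟨n, hn, hnx⟩ := hgood P0
      set P : Subgroup G := (P0 : Subgroup (Subgroup.centralizer ({s} : Set G))).map
        (Subgroup.centralizer ({s} : Set G)).subtype with hP
      have hP2 : IsPGroup 2 P := P0.isPGroup'.map _
      have hPs : ∀ v ∈ P, Commute s v := by
        rintro _ ⟨v, _, rfl⟩
        exact (hcent s v).1 v.2
      have hcn : (fun g => (n g : ℂ)) = cnt s P := by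
        funext g
        rw [hn g]
      have hnz : (fun g => (n g : ℂ)) ∈ zch G := by
        rw [hcn]
        exact cnt_mem 2 s P hPs hcop hP2
      have hn0 : n x⁻¹ = 0 := by
        by_contra h0
        apply hr
        have h1 : cnt s P x⁻¹ ≠ 0 := by
          rw [hn]
          exact_mod_cast h0
        have h2 : Nat.card {z : G // s⁻¹ * (z⁻¹ * x⁻¹ * z) ∈ P} ≠ 0 := by
          intro h3
          apply h1
          rw [cnt, h3]
          simp
        obtain ⟨⟨z, hz⟩⟩ := (Nat.card_ne_zero.1 h2).1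
        obtain ⟨v, hvz⟩ : ∃ v, v = s⁻¹ * (z⁻¹ * x⁻¹ * z) := ⟨_, rfl⟩
        rw [← hvz] at hz
        have h4 : (s * v) ^ e = s := hv v (hPs v hz) (by
          obtain ⟨j, hj⟩ := hP2 ⟨v, hz⟩
          exact ⟨j, by simpa using congrArg Subtype.val hj⟩)
        have h5 : s * v = z⁻¹ * x⁻¹ * z := by rw [hvz, mul_inv_cancel_left]
        have h6 : (z⁻¹ * x⁻¹ * z) ^ e = z⁻¹ * s⁻¹ * z := by
          have := conj_pow (i := e) (a := z⁻¹) (b := x⁻¹)
          rw [inv_inv] at this
          rw [this, inv_pow, hse]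
        rw [h5, h6] at h4
        rw [isConj_comm, isConj_iff]
        exact ⟨z⁻¹, by rw [inv_inv]; exact h4⟩
      refine ⟨fun y => (n y : ℤ) + n y⁻¹, ?_, by
        simp only [hn0, Nat.cast_zero, add_zero]
        exact_mod_cast hnx⟩
      rw [hW]
      have hinv : (fun g => (n g⁻¹ : ℂ)) ∈ zch G := zch_inv hnz
      refine ⟨?_, fun g => ?_, fun θ hθ hθs => ?_⟩
      · have : (fun g => ((((fun y => (n y : ℤ) + n y⁻¹) : G → ℤ) g : ℤ) : ℂ))
            = (fun g => (n g : ℂ)) + fun g => (n g⁻¹ : ℂ) := by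
          funext g
          simp
        rw [this]
        exact add_mem hnz hinv
      · simp only [inv_inv]
        ring
      · refine ⟨(Nat.card G : ℂ)⁻¹ * ∑ g : G, (χ * χ * (fun g => (n g : ℂ)) * θ) g, ?_, ?_⟩
        · have hz := mem_zch_of_isCharacter hχc
          exact isIntegral_avg (zch_mul (zch_mul (zch_mul hz hz) hnz) hθ)
        · have h1 : ∀ g : G, χ g * χ g * ((((n g : ℤ) + n g⁻¹ : ℤ)) : ℂ) * θ g
              = (χ * χ * (fun g => (n g : ℂ)) * θ) g + (χ * χ * (fun g => (n g : ℂ)) * θ) g⁻¹ := by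
            intro g
            simp only [Pi.mul_apply]
            rw [hχi, hθs]
            push_cast
            ring
          have h2 : ∑ g : G, (χ * χ * (fun g => (n g : ℂ)) * θ) g⁻¹
              = ∑ g : G, (χ * χ * (fun g => (n g : ℂ)) * θ) g :=
            Fintype.sum_equiv (Equiv.inv G) _ _ fun g => rfl
          rw [Finset.sum_congr rfl fun g _ => h1 g, Finset.sum_add_distrib, h2]
          ring
  obtain ⟨m, hm, hmW⟩ := exists_odd_const W hex
  obtain ⟨-, -, hg⟩ := (hW _).1 hmW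
  obtain ⟨c, hc, hc'⟩ := hg 1 (mem_zch_of_isCharacter isCharacter_one) (fun g => rfl)
  have h1 : (Nat.card G : ℂ)⁻¹ * ∑ g : G, χ g * χ g = 1 := by
    rw [← classInner_irr_self hχ, classInner_def]
    congr 1
    refine Finset.sum_congr rfl fun g _ => ?_
    rw [Complex.conj_eq_iff_im.2 (hreal g)]
  have h2 : (m : ℂ) = 2 * c := by
    rw [← hc']
    have : ∀ g : G, χ g * χ g * (m : ℂ) * (1 : G → ℂ) g = m * (χ g * χ g) := by
      intro g
      simp only [Pi.one_apply]
      ring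
    rw [Finset.sum_congr rfl fun g _ => this g, ← Finset.mul_sum]
    calc (m : ℂ) = m * 1 := (mul_one _).symm
      _ = m * ((Nat.card G : ℂ)⁻¹ * ∑ g : G, χ g * χ g) := by rw [h1]
      _ = _ := by ring
  have h3 : c = (((m : ℚ) / 2 : ℚ) : ℂ) := by
    push_cast
    rw [h2]
    ring
  rw [h3] at hc
  have h4 : IsIntegral ℤ (algebraMap ℚ ℂ ((m : ℚ) / 2)) := hc
  rw [isIntegral_algebraMap_iff (algebraMap ℚ ℂ).injective] at h4
  obtain ⟨k, hk⟩ := IsIntegrallyClosed.isIntegral_iff.1 h4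
  have h5 : (m : ℚ) = 2 * k := by
    have h6 : ((k : ℤ) : ℚ) = (m : ℚ) / 2 := hk
    rw [h6]
    ring
  have h6 : m = 2 * k := by exact_mod_cast h5
  rw [h6] at hm
  exact (Int.not_even_iff_odd.2 hm) (even_two_mul k)

end parity

end Cfsg.Agent.H592.FSPar
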