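import Cfsg.Agent.H592.FSPar
import Cfsg.Agent.H705.Indicator

/-!
# Restrictions of characters of indicator `-1`

* `even_mult`: if `χ ∈ Irr(G)` has indicator `-1` and `ψ ∈ Irr(H)` has indicator `1`, the
  multiplicity of `ψ` in `χ_H` is even.
* `split_of_noQ`: if `H` has no irreducible character of indicator `-1`, then `χ_H` has the form
  `a + conj a`.
* `noQ_of_split`: a criterion for `G` to have no irreducible character of indicator `-1`.
-/

set_option autoImplicit false
set_option linter.unusedSectionVars false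
set_option linter.style.haveILetI false

namespace Cfsg.Agent.H592.FSPar

open Cfsg Cfsg.Agent.Characters.Core Representation
open scoped ComplexConjugate

/-- A nondegenerate skew-symmetric form over `ℂ` lives in even dimension. -/
theorem even_finrank_of_skew {V : Type*} [AddCommGroup V] [Module ℂ V] [FiniteDimensional ℂ V]
    (β : LinearMap.BilinForm ℂ V)
    (hskew : ∀ x y, β x y = - β y x) (hnd : ∀ x, (∀ y, β x y = 0) → x = 0) :
    Even (Module.finrank ℂ V) := by
  classical
  let b := Module.finBasis ℂ V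
  have hN : β.Nondegenerate := by
    refine ⟨hnd, fun y hy => hnd y fun x => ?_⟩
    rw [hskew, hy, neg_zero]
  have hdet := (LinearMap.BilinForm.nondegenerate_iff_det_ne_zero b).1 hN
  set G := LinearMap.BilinForm.toMatrix b β with hG
  have hT : G.transpose = - G := by
    ext i j
    rw [Matrix.transpose_apply, Matrix.neg_apply, hG, LinearMap.BilinForm.toMatrix_apply,
      LinearMap.BilinForm.toMatrix_apply, hskew]
  have h1 : G.det = (-1) ^ (Module.finrank ℂ V) * G.det := by
    conv_lhs => rw [← Matrix.det_transpose, hT, Matrix.det_neg, Fintype.card_fin]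
  by_contra hodd
  rw [Nat.not_even_iff_odd] at hodd
  rw [hodd.neg_one_pow] at h1
  have h3 : (2 : ℂ) * G.det = 0 := by linear_combination h1
  rcases mul_eq_zero.mp h3 with h | h
  · exact two_ne_zero h
  · exact hdet h

section rep

variable {G : Type*} [Group G] [Fintype G] {H : Type*} [Group H] [Fintype H]
  {V : Type*} [AddCommGroup V] [Module ℂ V] [FiniteDimensional ℂ V]
  {W : Type*} [AddCommGroup W] [Module ℂ W] [FiniteDimensional ℂ W]

/-- The space of homomorphisms from an orthogonal irreducible representation of `H` to a symplectic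
irreducible representation of `G` has even dimension. -/
theorem even_finrank_hom (f : H →* G) (ρ : Representation ℂ G V) (σ : Representation ℂ H W)
    [ρ.IsIrreducible] [σ.IsIrreducible]
    (f₀ : IntertwiningMap ρ ρ.dual) (hf₀ : f₀ ≠ 0) (hskew : ∀ v w, f₀ v w = - f₀ w v)
    (B : IntertwiningMap σ σ.dual) (hB : B ≠ 0) (hsymm : ∀ v w, B v w = B w v)
    [FiniteDimensional ℂ (IntertwiningMap σ (ρ.comp f))] :
    Even (Module.finrank ℂ (IntertwiningMap σ (ρ.comp f))) := by
  have hf₀b := Cfsg.Agent.S0158.bijective_of_ne_zero ρ f₀ hf₀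
  have hsw : ∀ (g : G) (v w : V), f₀ (ρ g v) (ρ g w) = f₀ v w :=
    fun g v w => Cfsg.Agent.S0158.dual_swap ρ f₀ g v w
  have hswB : ∀ (h : H) (v w : W), B (σ h v) (σ h w) = B v w :=
    fun h v w => Cfsg.Agent.S0158.dual_swap σ B h v w
  obtain ⟨w₀, w₁, hww⟩ : ∃ w w' : W, B w w' ≠ 0 := by
    by_contra hcon
    push Not at hcon
    apply hB
    apply IntertwiningMap.ext
    apply LinearMap.ext
    intro v
    apply LinearMap.ext
    intro w
    exact hcon v w
  have hint : ∀ (i : IntertwiningMap σ (ρ.comp f)) (h : H) (w : W),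
      i (σ h w) = ρ (f h) (i w) := fun i h w => i.isIntertwining σ (ρ.comp f) h w
  -- the forms `f₀ (i w) (j w')` are multiples of `B`
  have hc : ∀ i j : IntertwiningMap σ (ρ.comp f), ∃ c : ℂ, ∀ w w' : W,
      f₀ (i w) (j w') = c * B w w' := by
    intro i j
    let q : IntertwiningMap σ σ.dual :=
      LinearMap.intertwiningMap_of_isIntertwiningMap σ σ.dual
        ((show V →ₗ[ℂ] V →ₗ[ℂ] ℂ from f₀.toLinearMap).compl₁₂ i.toLinearMap j.toLinearMap) (by
          intro h w
          ext w'
          simp only [Representation.dual_apply, Module.Dual.transpose_apply, LinearMap.coe_comp,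
            Function.comp_apply, LinearMap.compl₁₂_apply]
          have h1 := hsw (f h) (i w) (j (σ h⁻¹ w'))
          have h2 : j (σ h⁻¹ w') = ρ (f h⁻¹) (j w') := hint j h⁻¹ w'
          have h3 : ρ (f h) (j (σ h⁻¹ w')) = j w' := by
            rw [h2, ← Module.End.mul_apply, ← map_mul, ← map_mul, mul_inv_cancel, map_one, map_one,
              Module.End.one_apply]
          have h4 : i (σ h w) = ρ (f h) (i w) := hint i h w
          rw [h3] at h1
          show f₀ (i (σ h w)) (j w') = f₀ (i w) (j (σ h⁻¹ w'))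
          rw [h4]
          exact h1)
    have hq : ∀ w w', q w w' = f₀ (i w) (j w') := fun _ _ => rfl
    obtain ⟨c, hc⟩ := Cfsg.Agent.S0158.exists_smul σ B q hB
    refine ⟨c, fun w w' => ?_⟩
    rw [← hq, ← hc]
    rfl
  let β : LinearMap.BilinForm ℂ (IntertwiningMap σ (ρ.comp f)) :=
    LinearMap.mk₂ ℂ (fun i j => f₀ (i w₀) (j w₁))
      (fun i i' j => by
        have : (i + i') w₀ = i w₀ + i' w₀ := rfl
        rw [this]
        show f₀ (i w₀ + i' w₀) (j w₁) = f₀ (i w₀) (j w₁) + f₀ (i' w₀) (j w₁)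
        rw [map_add]
        rfl)
      (fun c i j => by
        have : (c • i) w₀ = c • i w₀ := rfl
        rw [this]
        show f₀ (c • i w₀) (j w₁) = c • f₀ (i w₀) (j w₁)
        rw [map_smul]
        rfl)
      (fun i j j' => by
        have : (j + j') w₁ = j w₁ + j' w₁ := rfl
        rw [this, map_add])
      (fun c i j => by
        have : (c • j) w₁ = c • j w₁ := rfl
        rw [this, map_smul])
  have hβ : ∀ i j, β i j = f₀ (i w₀) (j w₁) := fun _ _ => rfl
  refine even_finrank_of_skew β ?_ ?_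
  · intro i j
    obtain ⟨c, hc⟩ := hc i j
    rw [hβ, hβ, hc, hskew, neg_neg, hc, hsymm]
  · intro i hi
    by_contra hi0
    have hinj : Function.Injective i := (IsIrreducible.injective_or_eq_zero i).resolve_right hi0
    obtain ⟨p, hp⟩ := H705.Indicator.exists_retraction (ρ.comp f) σ i hinj
    let e := f₀.ofBijective hf₀b
    have he : ∀ v, e v = f₀ v := fun _ => rfl
    -- the homomorphism `j` with `f₀ (j w) v = B w (p v)`
    let j₀ : W →ₗ[ℂ] V := (LinearEquiv.ofBijective f₀.toLinearMap hf₀b).symm.toLinearMap ∘ₗ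
      (LinearMap.compl₂ (show W →ₗ[ℂ] W →ₗ[ℂ] ℂ from B.toLinearMap) p.toLinearMap)
    have hj₀ : ∀ w v, f₀ (j₀ w) v = B w (p v) := by
      intro w v
      have h1 : (LinearEquiv.ofBijective f₀.toLinearMap hf₀b) (j₀ w)
          = (LinearMap.compl₂ (show W →ₗ[ℂ] W →ₗ[ℂ] ℂ from B.toLinearMap) p.toLinearMap) w :=
        LinearEquiv.apply_symm_apply _ _
      exact congrArg (fun l : V →ₗ[ℂ] ℂ => l v) h1
    have hj₁ : ∀ (h : H) (w : W), j₀ (σ h w) = ρ (f h) (j₀ w) := by
      intro h w
      apply hf₀b.1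
      apply LinearMap.ext
      intro v
      have h1 : f₀ (j₀ (σ h w)) v = B (σ h w) (p v) := hj₀ _ _
      have h2 : f₀ (ρ (f h) (j₀ w)) v = B w (p (ρ (f h⁻¹) v)) := by
        have h3 := hsw (f h) (j₀ w) (ρ (f h⁻¹) v)
        rw [← Module.End.mul_apply (ρ (f h)), ← map_mul, ← map_mul, mul_inv_cancel, map_one, map_one,
          Module.End.one_apply] at h3
        rw [h3]
        exact hj₀ _ _
      have h4 : p (ρ (f h⁻¹) v) = σ h⁻¹ (p v) := p.isIntertwining (ρ.comp f) σ h⁻¹ v
      have h5 := hswB h w (σ h⁻¹ (p v))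
      rw [← Module.End.mul_apply (σ h), ← map_mul, mul_inv_cancel, map_one,
        Module.End.one_apply] at h5
      show f₀ (j₀ (σ h w)) v = f₀ (ρ (f h) (j₀ w)) v
      rw [h1, h2, h4, h5]
    let j : IntertwiningMap σ (ρ.comp f) :=
      LinearMap.intertwiningMap_of_isIntertwiningMap σ (ρ.comp f) j₀ (fun h w => hj₁ h w)
    have hj : ∀ w, j w = j₀ w := fun _ => rfl
    obtain ⟨c, hcij⟩ := hc i j
    have h1 := hi j
    rw [hβ, hcij] at h1
    have hc0 : c = 0 := (mul_eq_zero.1 h1).resolve_right hww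
    have h2 : f₀ (i w₁) (j w₀) = 0 := by
      rw [hcij, hc0, zero_mul]
    rw [hskew, hj, hj₀, hp] at h2
    exact hww (neg_eq_zero.1 h2)

end rep

/-! ### Indicators -/

/-- The Frobenius–Schur indicator. -/
noncomputable def fs {G : Type*} [Group G] (χ : G → ℂ) : ℂ :=
  (Nat.card G : ℂ)⁻¹ * ∑ᶠ g : G, χ (g * g)

/-- No irreducible character has indicator `-1`. -/
def NoQ (G : Type*) [Group G] : Prop := ∀ χ : G → ℂ, IsIrrCharacter G χ → fs χ ≠ -1

theorem fs_eq_sum {G : Type*} [Group G] [Fintype G] (χ : G → ℂ) :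
    fs χ = (Nat.card G : ℂ)⁻¹ * ∑ g : G, χ (g * g) := by
  rw [fs, finsum_eq_sum_of_fintype]

theorem fs_irr {G : Type*} [Group G] [Finite G] {χ : G → ℂ} (hχ : IsIrrCharacter G χ) :
    (fs χ = 0 ∨ fs χ = 1 ∨ fs χ = -1) ∧ (fs χ = 0 ↔ ∃ s : G, (χ s).im ≠ 0) := by
  have := Fintype.ofFinite G
  obtain ⟨n, ρ, hρ, rfl⟩ := hχ
  haveI := hρ
  rw [fs_eq_sum]
  exact Cfsg.Agent.S0158.result ρ

theorem real_of_fs {G : Type*} [Group G] [Finite G] {χ : G → ℂ} (hχ : IsIrrCharacter G χ)
    (h : fs χ ≠ 0) : ∀ g, (χ g).im = 0 := by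
  by_contra hcon
  push Not at hcon
  exact h ((fs_irr hχ).2.2 hcon)

theorem fs_comp {G H : Type*} [Group G] [Group H] (e : H ≃* G) (χ : G → ℂ) :
    fs (fun h => χ (e h)) = fs χ := by
  unfold fs
  rw [Nat.card_congr e.toEquiv]
  congr 1
  exact finsum_eq_of_bijective e e.bijective (fun h => by
    show χ (e (h * h)) = χ (e h * e h)
    rw [map_mul])

theorem NoQ.of_equiv {G H : Type*} [Group G] [Group H] (e : H ≃* G) (h : NoQ G) : NoQ H := by
  intro χ hχ
  have h1 := h (fun g => χ (e.symm g)) (isIrr_comp e.symm.toMonoidHom e.symm.surjective hχ)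
  rwa [fs_comp e.symm] at h1

/-- The multiplicity of a character of indicator `1` in a character of indicator `-1` is even. -/
theorem even_mult {G : Type*} [Group G] [Fintype G] {H : Type*} [Group H] [Fintype H]
    (f : H →* G) {χ : G → ℂ} (hχ : IsIrrCharacter G χ) (hχ1 : fs χ = -1)
    {ψ : H → ℂ} (hψ : IsIrrCharacter H ψ) (hψ1 : fs ψ = 1) :
    ∃ k : ℕ, classInner (fun h => χ (f h)) ψ = 2 * k := by
  classical
  rw [fs_eq_sum] at hχ1 hψ1
  haveI : Invertible (Nat.card G : ℂ) := invertibleOfNonzero (by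
    exact_mod_cast Nat.card_pos.ne')
  haveI : Invertible (Nat.card H : ℂ) := invertibleOfNonzero (by
    exact_mod_cast Nat.card_pos.ne')
  obtain ⟨n, ρ, hρ, rfl⟩ := hχ
  obtain ⟨m, σ, hσ, rfl⟩ := hψ
  obtain ⟨ε, hε, hε1, hε2⟩ := H705.Indicator.indicator_eq ρ
  obtain ⟨δ, hδ, hδ1, hδ2⟩ := H705.Indicator.indicator_eq σ
  rw [hψ1] at hδ2
  rw [hχ1] at hε2
  have hδ3 : Module.finrank ℂ (IntertwiningMap σ σ.dual) ≠ 0 := by
    intro h0
    rw [h0] at hδ2
    simp at hδ2
  have hε3 : Module.finrank ℂ (IntertwiningMap ρ ρ.dual) ≠ 0 := by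
    intro h0
    rw [h0] at hε2
    simp at hε2
  have hδ4 : δ = 1 := by
    rcases hδ with h | h
    · exact h
    · exfalso
      rw [h] at hδ2
      have h1 : (0 : ℝ) ≤ (Module.finrank ℂ (IntertwiningMap σ σ.dual) : ℝ) := Nat.cast_nonneg _
      have h2 := congrArg Complex.re hδ2
      simp at h2
      linarith
  have hε4 : ε = -1 := by
    rcases hε with h | h
    · exfalso
      rw [h] at hε2
      have h1 : (0 : ℝ) ≤ (Module.finrank ℂ (IntertwiningMap ρ ρ.dual) : ℝ) := Nat.cast_nonneg _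
      have h2 := congrArg Complex.re hε2
      simp at h2
      linarith
    · exact h
  subst hδ4 hε4
  obtain ⟨B, hB⟩ := H705.Indicator.exists_ne_zero (n := m) hδ3
  have hBs : ∀ v w, B v w = B w v := fun v w => by
    have := hδ1 B v w
    rwa [one_mul] at this
  obtain ⟨f₀, hf₀⟩ := H705.Indicator.exists_ne_zero (n := n) hε3
  have hf₀s : ∀ v w, f₀ v w = - f₀ w v := fun v w => by
    have := hε1 f₀ v w
    rwa [neg_one_mul] at this
  obtain ⟨k, hk⟩ := even_finrank_hom f ρ σ f₀ hf₀ hf₀s B hB hBs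
  refine ⟨k, ?_⟩
  have h1 := card_inv_mul_sum_char_mul_char_eq_finrank (k := ℂ) σ (ρ.comp f)
  have h2 : (Nat.card H : ℂ)⁻¹ * ∑ g : H, Representation.character (ρ.comp f) g * σ.character g⁻¹
      = classInner (fun h => ρ.character (f h)) σ.character := by
    rw [H705.Indicator.classInner_eq_sum]
    congr 1
    refine Finset.sum_congr rfl fun g _ => ?_
    rw [Cfsg.Agent.S0158.char_inv]
    rfl
  rw [← h2, h1, hk]
  push_cast
  ring

/-- The complex conjugate. -/
noncomputable def bar {H : Type*} [Group H] [Finite H] (ψ : IrrCharacter H) : IrrCharacter H :=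
  ⟨fun h => conj ((ψ : H → ℂ) h), isIrr_conj ψ.2⟩

theorem bar_apply {H : Type*} [Group H] [Finite H] (ψ : IrrCharacter H) (h : H) :
    (bar ψ : H → ℂ) h = conj ((ψ : H → ℂ) h) := rfl

theorem bar_bar {H : Type*} [Group H] [Finite H] (ψ : IrrCharacter H) : bar (bar ψ) = ψ := by
  apply Subtype.ext
  funext h
  rw [bar_apply, bar_apply, Complex.conj_conj]

/-- A real-valued character in which the real irreducible characters have even multiplicity is of
the form `a + conj a`. -/
theorem split_of_even {H : Type*} [Group H] [Finite H] [Fintype H] {φ : H → ℂ} (hφ : IsCharacter H φ)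
    (hreal : ∀ h, (φ h).im = 0) (heven : ∀ ψ : IrrCharacter H, (∀ h, ((ψ : H → ℂ) h).im = 0) →
      ∃ k : ℕ, classInner φ (ψ : H → ℂ) = 2 * k) : Split φ := by
  classical
  have := finite_irr (G := H)
  have := Fintype.ofFinite (IrrCharacter H)
  have hm : ∀ ψ : IrrCharacter H, ∃ m : ℕ, classInner φ (ψ : H → ℂ) = m := fun ψ =>
    classInner_isNat hφ (isIrr_isCharacter ψ.2)
  choose m hm using hm
  have hmbar : ∀ ψ : IrrCharacter H, m (bar ψ) = m ψ := by
    intro ψ
    have h1 : classInner φ (bar ψ : H → ℂ) = conj (classInner φ (ψ : H → ℂ)) := by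
      rw [classInner_def, classInner_def, map_mul, map_inv₀, Complex.conj_natCast, map_sum]
      congr 1
      refine Finset.sum_congr rfl fun g _ => ?_
      rw [map_mul, Complex.conj_eq_iff_im.2 (hreal g), bar_apply]
    rw [hm, hm, Complex.conj_natCast] at h1
    exact_mod_cast h1
  have hev : ∀ ψ : IrrCharacter H, bar ψ = ψ → ∃ k : ℕ, m ψ = 2 * k := by
    intro ψ hψ
    obtain ⟨k, hk⟩ := heven ψ (by
      intro h
      have h1 := bar_apply ψ h
      rw [hψ] at h1
      exact Complex.conj_eq_iff_im.1 h1.symm)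
    rw [hm] at hk
    exact ⟨k, by exact_mod_cast hk⟩
  let idx := Fintype.equivFin (IrrCharacter H)
  let k : IrrCharacter H → ℕ := fun ψ =>
    if bar ψ = ψ then m ψ / 2 else if idx ψ < idx (bar ψ) then m ψ else 0
  have hk : ∀ ψ, k ψ + k (bar ψ) = m ψ := by
    intro ψ
    by_cases hb : bar ψ = ψ
    · obtain ⟨j, hj⟩ := hev ψ hb
      have h1 : k ψ = m ψ / 2 := if_pos hb
      rw [hb, h1]
      omega
    · have hb' : bar (bar ψ) ≠ bar ψ := by
        rw [bar_bar]
        exact fun h => hb h.symm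
      have h1 : k ψ = if idx ψ < idx (bar ψ) then m ψ else 0 := if_neg hb
      have h2 : k (bar ψ) = if idx (bar ψ) < idx ψ then m (bar ψ) else 0 := by
        have h3 : k (bar ψ) = if idx (bar ψ) < idx (bar (bar ψ)) then m (bar ψ) else 0 :=
          if_neg hb'
        rwa [bar_bar] at h3
      rw [h1, h2, hmbar]
      rcases lt_trichotomy (idx ψ) (idx (bar ψ)) with h | h | h
      · rw [if_pos h, if_neg (not_lt.2 h.le), add_zero]
      · exact absurd (idx.injective h).symm hb
      · rw [if_neg (not_lt.2 h.le), if_pos h, zero_add]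
  refine ⟨∑ ψ : IrrCharacter H, k ψ • (ψ : H → ℂ), ?_, ?_⟩
  · exact isCharacter_sum _ fun ψ _ => isCharacter_nsmul _ (isIrr_isCharacter ψ.2)
  · intro h
    have h1 := classFunction_eq_sum (isCharacter_isClassFunction hφ)
    have h2 : φ h = ∑ ψ : IrrCharacter H, (m ψ : ℂ) * (ψ : H → ℂ) h := by
      conv_lhs => rw [h1]
      rw [Finset.sum_apply]
      refine Finset.sum_congr rfl fun ψ _ => ?_
      rw [Pi.smul_apply, smul_eq_mul, hm]
    have h3 : (∑ ψ : IrrCharacter H, k ψ • (ψ : H → ℂ)) h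
        = ∑ ψ : IrrCharacter H, (k ψ : ℂ) * (ψ : H → ℂ) h := by
      rw [Finset.sum_apply]
      refine Finset.sum_congr rfl fun ψ _ => ?_
      rw [Pi.smul_apply, nsmul_eq_mul]
    have h4 : conj (∑ ψ : IrrCharacter H, (k ψ : ℂ) * (ψ : H → ℂ) h)
        = ∑ ψ : IrrCharacter H, (k (bar ψ) : ℂ) * (ψ : H → ℂ) h := by
      rw [map_sum]
      refine Fintype.sum_equiv (⟨bar, bar, bar_bar, bar_bar⟩ : IrrCharacter H ≃ IrrCharacter H)
        _ _ fun ψ => ?_
      rw [map_mul, Complex.conj_natCast]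
      show (k ψ : ℂ) * conj ((ψ : H → ℂ) h) = (k (bar (bar ψ)) : ℂ) * (bar ψ : H → ℂ) h
      rw [bar_bar, bar_apply]
    rw [h2, h3, h4, ← Finset.sum_add_distrib]
    refine Finset.sum_congr rfl fun ψ _ => ?_
    rw [← hk ψ]
    push_cast
    ring

/-- The restriction of a character of indicator `-1` to a group without such characters is of the
form `a + conj a`. -/
theorem split_of_noQ {G : Type*} [Group G] [Finite G] {H : Type*} [Group H] [Finite H]
    (f : H →* G) (hH : NoQ H) {χ : G → ℂ} (hχ : IsIrrCharacter G χ) (hχ1 : fs χ = -1) :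
    Split (fun h => χ (f h)) := by
  have := Fintype.ofFinite G
  have := Fintype.ofFinite H
  have hreal := real_of_fs hχ (by rw [hχ1]; norm_num)
  refine split_of_even (isCharacter_comp f (isIrr_isCharacter hχ)) (fun h => hreal _) ?_
  intro ψ hψ
  refine even_mult f hχ hχ1 ψ.2 ?_
  rcases (fs_irr ψ.2).1 with h | h | h
  · obtain ⟨s, hs⟩ := (fs_irr ψ.2).2.1 h
    exact absurd (hψ s) hs
  · exact h
  · exact absurd h (hH _ ψ.2)

/-- **Criterion.** If, for each `s` of odd order and each `2`-group `T` of elements centralising or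
inverting `s`, some element of `T` inverting it, there is a subgroup containing `s` and `T` without
irreducible characters of indicator `-1`, then `G` has no such character. -/
theorem noQ_of_forall {G : Type*} [Group G] [Finite G]
    (h : ∀ (s : G) (T : Subgroup G), Odd (orderOf s) → IsPGroup 2 T → T ≤ cstar s →
      (∃ t ∈ T, t * s * t⁻¹ = s⁻¹) → ∃ H : Subgroup G, s ∈ H ∧ T ≤ H ∧ NoQ H) : NoQ G := by
  intro χ hχ hχ1
  have := Fintype.ofFinite G
  obtain ⟨s, T, hs, hT, hTs, ht, hno⟩ := exists_not_split hχ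
    (real_of_fs hχ (by rw [hχ1]; norm_num))
  obtain ⟨H, hsH, hTH, hH⟩ := h s T hs hT hTs ht
  exact hno H hsH hTH (split_of_noQ H.subtype hH hχ hχ1)

end Cfsg.Agent.H592.FSPar
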