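import Cfsg.Agent.Characters.Core
import Cfsg.Agent.OddOrderCharacters.IndRes
import Cfsg.Agent.Blocks.Basic
import Cfsg.Agent.Blocks.Local
import Cfsg.Agent.S0907

/-!
# The class functions `∑_{χ ∈ U} χ(1) χ`

* `fS U = ∑_{χ ∈ U} χ(1) χ` for a set `U` of irreducible characters.
* `Van p F`: the function `F` vanishes at the `p`-singular elements.
* `union_mem`: sums over unions of blocks.
* `van_proj`: the projection to the span of a union of blocks preserves `Van`.
-/

set_option autoImplicit false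
open Cfsg

namespace Cfsg.Agent.H592.Har

open Cfsg.Agent Cfsg.Agent.Characters.Core Cfsg.Agent.OddOrderCharacters.IndRes
open scoped ComplexConjugate

universe u

variable {G : Type u} [Group G]

/-- `∑_{χ ∈ U} χ(1) χ`. -/
noncomputable def fS (U : Set (IrrCharacter G)) : G → ℂ :=
  fun g => ∑ᶠ χ ∈ U, (χ : G → ℂ) 1 * (χ : G → ℂ) g

/-- Vanishing at the `p`-singular elements. -/
def Van (p : ℕ) (F : G → ℂ) : Prop := ∀ g : G, p ∣ orderOf g → F g = 0

/-- Unions of blocks. -/
def Closed (M : Ideal AlgInt) (U : Set (IrrCharacter G)) : Prop :=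
  ∀ χ ∈ U, ∀ ψ : IrrCharacter G, SameBlock M (χ : G → ℂ) (ψ : G → ℂ) → ψ ∈ U

open Classical in
theorem finsum_mem_irr [Fintype (IrrCharacter G)] (U : Set (IrrCharacter G))
    (f : IrrCharacter G → ℂ) : ∑ᶠ χ ∈ U, f χ = ∑ χ : IrrCharacter G, if χ ∈ U then f χ else 0 := by
  rw [finsum_mem_eq_finite_toFinset_sum _ (Set.toFinite U), ← Finset.sum_filter]
  refine Finset.sum_congr ?_ fun _ _ => rfl
  ext χ
  simp

open Classical in
theorem fS_eq_sum [Fintype (IrrCharacter G)] (U : Set (IrrCharacter G)) :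
    fS U = ∑ χ : IrrCharacter G, (if χ ∈ U then (χ : G → ℂ) 1 else 0) • (χ : G → ℂ) := by
  funext g
  unfold fS
  rw [finsum_mem_irr, Finset.sum_apply]
  refine Finset.sum_congr rfl fun χ _ => ?_
  rw [Pi.smul_apply, smul_eq_mul]
  split_ifs <;> simp

theorem isClassFunction_sum {ι : Type*} (s : Finset ι) {f : ι → G → ℂ}
    (h : ∀ i ∈ s, IsClassFunction G (f i)) : IsClassFunction G (∑ i ∈ s, f i) := by
  intro g x
  rw [Finset.sum_apply, Finset.sum_apply]
  exact Finset.sum_congr rfl fun i hi => h i hi g x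

theorem isClassFunction_smul (c : ℂ) {f : G → ℂ} (h : IsClassFunction G f) :
    IsClassFunction G (c • f) := by
  intro g x
  rw [Pi.smul_apply, Pi.smul_apply, h g x]

theorem isClassFunction_add {f f' : G → ℂ} (h : IsClassFunction G f) (h' : IsClassFunction G f') :
    IsClassFunction G (f + f') := by
  intro g x
  rw [Pi.add_apply, Pi.add_apply, h g x, h' g x]

theorem isClassFunction_sub {f f' : G → ℂ} (h : IsClassFunction G f) (h' : IsClassFunction G f') :
    IsClassFunction G (f - f') := by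
  intro g x
  rw [Pi.sub_apply, Pi.sub_apply, h g x, h' g x]

theorem isClassFunction_fS [Finite G] (U : Set (IrrCharacter G)) : IsClassFunction G (fS U) := by
  classical
  have := finite_irr (G := G)
  have := Fintype.ofFinite (IrrCharacter G)
  rw [fS_eq_sum]
  exact isClassFunction_sum _ fun χ _ => isClassFunction_smul _ (isIrr_isClassFunction χ.2)

theorem isCharacter_fS [Finite G] (U : Set (IrrCharacter G)) : IsCharacter G (fS U) := by
  classical
  have := finite_irr (G := G)
  have := Fintype.ofFinite (IrrCharacter G)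
  rw [fS_eq_sum]
  refine isCharacter_sum _ fun χ _ => ?_
  split_ifs
  · obtain ⟨n, -, hn⟩ := isIrr_apply_one χ.2
    rw [hn, Nat.cast_smul_eq_nsmul]
    exact isCharacter_nsmul n (isIrr_isCharacter χ.2)
  · rw [zero_smul]
    exact isCharacter_zero

open Classical in
theorem classInner_fS [Fintype G] (U : Set (IrrCharacter G)) (χ : IrrCharacter G) :
    classInner (fS U) (χ : G → ℂ) = if χ ∈ U then (χ : G → ℂ) 1 else 0 := by
  have := finite_irr (G := G)
  have := Fintype.ofFinite (IrrCharacter G)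
  rw [fS_eq_sum, classInner_sum_smul_irr]

theorem classInner_fS_of_mem [Fintype G] {U : Set (IrrCharacter G)} {χ : IrrCharacter G}
    (h : χ ∈ U) : classInner (fS U) (χ : G → ℂ) = (χ : G → ℂ) 1 := by
  classical
  rw [classInner_fS, if_pos h]

theorem classInner_fS_of_notMem [Fintype G] {U : Set (IrrCharacter G)} {χ : IrrCharacter G}
    (h : χ ∉ U) : classInner (fS U) (χ : G → ℂ) = 0 := by
  classical
  rw [classInner_fS, if_neg h]

theorem mem_iff_classInner_fS [Fintype G] {U : Set (IrrCharacter G)} {χ : IrrCharacter G} :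
    χ ∈ U ↔ classInner (fS U) (χ : G → ℂ) ≠ 0 := by
  constructor
  · intro h
    rw [classInner_fS_of_mem h]
    exact isIrr_apply_one_ne_zero χ.2
  · intro h
    by_contra h'
    exact h (classInner_fS_of_notMem h')

/-- `fS U` is determined by its coefficients. -/
theorem eq_fS [Fintype G] {U : Set (IrrCharacter G)} {F : G → ℂ} (hF : IsClassFunction G F)
    (h1 : ∀ χ ∈ U, classInner F (χ : G → ℂ) = (χ : G → ℂ) 1)
    (h2 : ∀ χ : IrrCharacter G, χ ∉ U → classInner F (χ : G → ℂ) = 0) : F = fS U := by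
  classical
  refine classFunction_ext hF (isClassFunction_fS U) fun χ hχ => ?_
  by_cases h : (⟨χ, hχ⟩ : IrrCharacter G) ∈ U
  · exact (h1 _ h).trans (classInner_fS_of_mem h).symm
  · exact (h2 _ h).trans (classInner_fS_of_notMem h).symm

theorem classInner_fS_right [Fintype G] (F : G → ℂ) (U : Set (IrrCharacter G)) :
    classInner F (fS U) = ∑ᶠ χ ∈ U, (χ : G → ℂ) 1 * classInner F (χ : G → ℂ) := by
  classical
  have := finite_irr (G := G)
  have := Fintype.ofFinite (IrrCharacter G)
  rw [fS_eq_sum, classInner_sum_right, finsum_mem_irr]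
  refine Finset.sum_congr rfl fun χ _ => ?_
  rw [classInner_smul_right]
  split_ifs
  · obtain ⟨n, -, hn⟩ := isIrr_apply_one χ.2
    rw [hn, Complex.conj_natCast]
  · rw [map_zero, zero_mul]

theorem fS_one_ne_zero [Finite G] {U : Set (IrrCharacter G)} (hU : U.Nonempty) : fS U 1 ≠ 0 := by
  classical
  have := finite_irr (G := G)
  have := Fintype.ofFinite (IrrCharacter G)
  obtain ⟨χ₀, hχ₀⟩ := hU
  have h1 : ∀ χ : IrrCharacter G, ∃ n : ℕ, 0 < n ∧ (χ : G → ℂ) 1 = n := fun χ => isIrr_apply_one χ.2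
  choose d hd0 hd using h1
  have h2 : fS U 1 = ((∑ χ : IrrCharacter G, if χ ∈ U then d χ * d χ else 0 : ℕ) : ℂ) := by
    unfold fS
    rw [finsum_mem_irr]
    push_cast
    refine Finset.sum_congr rfl fun χ _ => ?_
    rw [hd]
  rw [h2]
  norm_cast
  intro h3
  have h4 := (Finset.sum_eq_zero_iff.1 h3) χ₀ (Finset.mem_univ _)
  rw [if_pos hχ₀] at h4
  have := hd0 χ₀
  have := Nat.mul_pos this this
  omega

/-! ### Unions of blocks -/

/-- If the sums of `f` over the blocks lie in an additive submonoid, so do the sums over unions of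
blocks. -/
theorem union_mem [Finite G] {M : Ideal AlgInt} [M.IsPrime] (A : AddSubmonoid ℂ)
    (f : IrrCharacter G → ℂ) (n : ℕ) : ∀ U : Set (IrrCharacter G), U.ncard ≤ n → Closed M U →
      (∀ B : Set (IrrCharacter G), IsPBlock M B → B ⊆ U → ∑ᶠ χ ∈ B, f χ ∈ A) →
      ∑ᶠ χ ∈ U, f χ ∈ A := by
  have := finite_irr (G := G)
  induction n with
  | zero =>
    intro U hU _ _
    have h1 : U = ∅ := by
      rw [← Set.ncard_eq_zero (Set.toFinite U)]
      omega
    rw [h1, finsum_mem_empty]
    exact A.zero_mem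
  | succ n ih =>
    intro U hU hcl hf
    rcases U.eq_empty_or_nonempty with h1 | ⟨χ₀, hχ₀⟩
    · rw [h1, finsum_mem_empty]
      exact A.zero_mem
    · set B : Set (IrrCharacter G) := blockOf M (χ₀ : G → ℂ) with hB
      have hBU : B ⊆ U := fun χ hχ => hcl χ₀ hχ₀ χ hχ
      have hBb : IsPBlock M B := Blocks.Basic.isPBlock_blockOf χ₀
      have h2 : U = B ∪ (U \ B) := (Set.union_sdiff_cancel hBU).symm
      have hcl' : Closed M (U \ B) := by
        rintro χ ⟨hχ, hχB⟩ ψ hψ
        refine ⟨hcl χ hχ ψ hψ, fun h3 => hχB ?_⟩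
        exact Blocks.Basic.isPBlock_mem_of_sameBlock hBb h3 (Blocks.Basic.sameBlock_symm hψ)
      have hcard : (U \ B).ncard ≤ n := by
        have h4 : (U \ B).ncard < U.ncard := by
          apply Set.ncard_lt_ncard _ (Set.toFinite U)
          refine ⟨Set.sdiff_subset, fun h5 => ?_⟩
          exact (h5 hχ₀).2 (Blocks.Basic.mem_blockOf_self χ₀)
        omega
      rw [h2, finsum_mem_union Set.disjoint_sdiff_right (Set.toFinite _) (Set.toFinite _)]
      exact A.add_mem (hf B hBb hBU) (ih _ hcard hcl' fun B' hB' hsub =>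
        hf B' hB' (hsub.trans Set.sdiff_subset))

theorem union_mem' [Finite G] {M : Ideal AlgInt} [M.IsPrime] (A : AddSubmonoid ℂ)
    (f : IrrCharacter G → ℂ) {U : Set (IrrCharacter G)} (hcl : Closed M U)
    (hf : ∀ B : Set (IrrCharacter G), IsPBlock M B → B ⊆ U → ∑ᶠ χ ∈ B, f χ ∈ A) :
    ∑ᶠ χ ∈ U, f χ ∈ A :=
  union_mem A f U.ncard U le_rfl hcl hf

/-- The projection to the span of a union of blocks. -/
noncomputable def pr [Fintype G] (U : Set (IrrCharacter G)) (F : G → ℂ) : G → ℂ :=
  fun g => ∑ᶠ χ ∈ U, classInner F (χ : G → ℂ) * (χ : G → ℂ) g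

theorem van_pr [Fintype G] (p : ℕ) [Fact p.Prime] {M : Ideal AlgInt} (hM : IsPModular p M)
    {U : Set (IrrCharacter G)} (hcl : Closed M U) {F : G → ℂ} (hF : Van p F) : Van p (pr U F) := by
  classical
  have hprime : M.IsPrime := Blocks.Local.isPrime_of_isPModular hM
  have := finite_irr (G := G)
  have := Fintype.ofFinite (IrrCharacter G)
  intro y hy
  have h1 : pr U F y = (Nat.card G : ℂ)⁻¹ *
      ∑ x : G, F x * ∑ᶠ χ ∈ U, (χ : G → ℂ) y * conj ((χ : G → ℂ) x) := by
    unfold pr
    rw [finsum_mem_irr]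
    simp only [finsum_mem_irr, Finset.mul_sum]
    rw [Finset.sum_comm]
    refine Finset.sum_congr rfl fun χ _ => ?_
    split_ifs
    · rw [classInner_def, Finset.mul_sum, Finset.sum_mul]
      refine Finset.sum_congr rfl fun x _ => ?_
      ring
    · simp
  rw [h1]
  rw [Finset.sum_eq_zero, mul_zero]
  intro x _
  by_cases hx : p ∣ orderOf x
  · rw [hF x hx, zero_mul]
  · have h2 : ∑ᶠ χ ∈ U, (χ : G → ℂ) y * conj ((χ : G → ℂ) x) ∈ (⊥ : AddSubmonoid ℂ) := by
      refine union_mem' (M := M) ⊥ _ hcl fun B hB _ => ?_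
      rw [AddSubmonoid.mem_bot]
      have h3 := S0907.result p M hM B hB x y hx hy
      have h4 := congrArg conj h3
      rw [map_zero, finsum_mem_irr, map_sum] at h4
      rw [finsum_mem_irr]
      refine Eq.trans (Finset.sum_congr rfl fun χ _ => ?_) h4
      split_ifs
      · rw [map_mul, Complex.conj_conj, mul_comm]
      · rw [map_zero]
    rw [AddSubmonoid.mem_bot.1 h2, mul_zero]

/-- A class function with coefficients supported on `U` where they agree with those of `F`. -/
theorem eq_pr [Fintype G] {U : Set (IrrCharacter G)} {F F' : G → ℂ} (hF' : IsClassFunction G F')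
    (h1 : ∀ χ ∈ U, classInner F' (χ : G → ℂ) = classInner F (χ : G → ℂ))
    (h2 : ∀ χ : IrrCharacter G, χ ∉ U → classInner F' (χ : G → ℂ) = 0) : F' = pr U F := by
  classical
  have := finite_irr (G := G)
  have := Fintype.ofFinite (IrrCharacter G)
  conv_lhs => rw [classFunction_eq_sum hF']
  funext g
  unfold pr
  rw [finsum_mem_irr, Finset.sum_apply]
  refine Finset.sum_congr rfl fun χ _ => ?_
  rw [Pi.smul_apply, smul_eq_mul]
  split_ifs with h
  · rw [h1 χ h]
  · rw [h2 χ h, zero_mul]

end Cfsg.Agent.H592.Har
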