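import Cfsg.Agent.H592.HarDefl

/-!
# The central case

`P` a normal `p`-subgroup of `G`, `G ⧸ P` `p`-solvable, `N` central, containing the `p`-regular
elements centralizing `P`.  If the theorem holds for `G ⧸ P`, then two disjoint sets `U`, `V` of
irreducible characters of `G` such that `fS U`, `fS V` vanish at the `p`-singular elements, `N` acts
by the same scalars on `U ∪ V` and `fS U + fS V` vanishes off `N` cannot both be nonempty.
-/

set_option autoImplicit false
open Cfsg

namespace Cfsg.Agent.H592.Har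

open Cfsg.Agent Cfsg.Agent.Characters.Core Cfsg.Agent.OddOrderCharacters.IndRes
open scoped ComplexConjugate

universe u

variable {G : Type u} [Group G]

theorem nat_union [Fintype G] (p : ℕ) [Fact p.Prime] {M : Ideal AlgInt} (hM : IsPModular p M)
    (hsolv : IsPSolvable p G) {β : G → ℂ} (hcl : IsClassFunction G β) (hvan : Van p β)
    (hpos : Pos p β) {W : Set (IrrCharacter G)} (hW : Closed M W) :
    ∃ k : ℕ, ∑ᶠ χ ∈ W, (χ : G → ℂ) 1 * classInner β (χ : G → ℂ) = k := by
  have hprime : M.IsPrime := Blocks.Local.isPrime_of_isPModular hM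
  have h1 := union_mem' (M := M) (AddMonoidHom.mrange (Nat.castAddMonoidHom ℂ))
    (fun χ : IrrCharacter G => (χ : G → ℂ) 1 * classInner β (χ : G → ℂ)) hW fun B hB _ => by
      obtain ⟨k, hk⟩ := (pos_block p M hM _ G le_rfl hsolv β hcl hvan hpos B hB).1
      exact ⟨k, hk.symm⟩
  obtain ⟨k, hk⟩ := h1
  exact ⟨k, hk.symm⟩

theorem classInner_eq_zero_of_union [Fintype G] (p : ℕ) [Fact p.Prime] {M : Ideal AlgInt}
    (hM : IsPModular p M) (hsolv : IsPSolvable p G) {β : G → ℂ} (hcl : IsClassFunction G β)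
    (hvan : Van p β) (hpos : Pos p β) {W : Set (IrrCharacter G)} (hW : Closed M W)
    (h0 : ∑ᶠ χ ∈ W, (χ : G → ℂ) 1 * classInner β (χ : G → ℂ) = 0) :
    ∀ χ ∈ W, classInner β (χ : G → ℂ) = 0 := by
  have hprime : M.IsPrime := Blocks.Local.isPrime_of_isPModular hM
  have := finite_irr (G := G)
  intro χ hχ
  set B : Set (IrrCharacter G) := blockOf M (χ : G → ℂ) with hB
  have hBU : B ⊆ W := fun ψ hψ => hW χ hχ ψ hψ
  have hBb : IsPBlock M B := Blocks.Basic.isPBlock_blockOf χ
  have hcl' : Closed M (W \ B) := by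
    rintro ψ ⟨hψ, hψB⟩ φ hφ
    refine ⟨hW ψ hψ φ hφ, fun h3 => hψB ?_⟩
    exact Blocks.Basic.isPBlock_mem_of_sameBlock hBb h3 (Blocks.Basic.sameBlock_symm hφ)
  have h2 : W = B ∪ (W \ B) := (Set.union_sdiff_cancel hBU).symm
  rw [h2, finsum_mem_union Set.disjoint_sdiff_right (Set.toFinite _) (Set.toFinite _)] at h0
  obtain ⟨⟨k, hk⟩, h3⟩ := pos_block p M hM _ G le_rfl hsolv β hcl hvan hpos B hBb
  obtain ⟨l, hl⟩ := nat_union p hM hsolv hcl hvan hpos hcl'
  rw [hk, hl] at h0
  have h4 : k + l = 0 := by exact_mod_cast h0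
  have h5 : k = 0 := by omega
  rw [h5, Nat.cast_zero] at hk
  exact h3 hk χ (Blocks.Basic.mem_blockOf_self χ)

theorem classInner_fS_disjoint [Fintype G] {U V : Set (IrrCharacter G)} (h : Disjoint U V) :
    classInner (fS U) (fS V) = 0 := by
  rw [classInner_fS_right]
  rw [finsum_mem_congr rfl (g := fun _ => (0 : ℂ))]
  · simp
  · intro χ hχ
    rw [classInner_fS_of_notMem (fun h' => Set.disjoint_left.1 h h' hχ), mul_zero]

/-- The last step: `fS U` cannot be supported on `N` if `N` acts on `U ∪ V` by the same scalars. -/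
theorem final_step [Finite G] (N : Subgroup G) (U V : Set (IrrCharacter G)) (hUV : Disjoint U V)
    (hlin : ∀ n ∈ N, ∃ ζ : ℂ, ∀ χ ∈ U ∪ V, (χ : G → ℂ) n = ζ * (χ : G → ℂ) 1)
    (hzero : ∀ g, g ∉ N → fS U g = 0) : ¬ (U.Nonempty ∧ V.Nonempty) := by
  classical
  rintro ⟨hUne, hVne⟩
  have := Fintype.ofFinite G
  have hval : ∀ n ∈ N, ∃ ζ : ℂ, (fS U n = ζ * fS U 1 ∧ fS V n = ζ * fS V 1) ∧ (n = 1 → ζ = 1) := by
    intro n hn
    obtain ⟨ζ, hζ⟩ := hlin n hn
    have hfin := finite_irr (G := G)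
    refine ⟨ζ, ⟨?_, ?_⟩, ?_⟩
    · unfold fS
      rw [mul_finsum_mem]
      refine finsum_mem_congr rfl fun χ hχ => ?_
      rw [hζ χ (Or.inl hχ)]
      ring
    · unfold fS
      rw [mul_finsum_mem]
      refine finsum_mem_congr rfl fun χ hχ => ?_
      rw [hζ χ (Or.inr hχ)]
      ring
    · rintro rfl
      obtain ⟨χ, hχ⟩ := hUne
      have h1 := hζ χ (Or.inl hχ)
      have h2 := isIrr_apply_one_ne_zero χ.2
      have h3 : (ζ - 1) * (χ : G → ℂ) 1 = 0 := by linear_combination -h1
      have h4 := (mul_eq_zero.1 h3).resolve_right h2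
      linear_combination h4
  choose! ζ hζ hζ1 using hval
  have h1 := classInner_fS_disjoint hUV
  rw [classInner_def] at h1
  have h2 : ∑ g : G, fS U g * conj (fS V g) =
      ((∑ g : G, if g ∈ N then Complex.normSq (ζ g) else 0 : ℝ) : ℂ) *
        (fS U 1 * conj (fS V 1)) := by
    rw [Complex.ofReal_sum, Finset.sum_mul]
    refine Finset.sum_congr rfl fun g _ => ?_
    by_cases hg : g ∈ N
    · rw [if_pos hg, (hζ g hg).1, (hζ g hg).2, ← Complex.mul_conj, map_mul]
      ring
    · rw [if_neg hg, hzero g hg, zero_mul, Complex.ofReal_zero, zero_mul]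
  rw [h2] at h1
  have h3 : (0 : ℝ) < ∑ g : G, if g ∈ N then Complex.normSq (ζ g) else 0 := by
    refine Finset.sum_pos' (fun g _ => ?_) ⟨1, Finset.mem_univ _, ?_⟩
    · split_ifs
      · exact Complex.normSq_nonneg _
      · exact le_rfl
    · rw [if_pos N.one_mem, hζ1 1 N.one_mem rfl, map_one]
      exact one_pos
  rcases mul_eq_zero.1 h1 with h4 | h4
  · exact absurd h4 (inv_ne_zero card_ne_zero_complex)
  · rcases mul_eq_zero.1 h4 with h5 | h5
    · exact h3.ne' (by exact_mod_cast h5)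
    · rcases mul_eq_zero.1 h5 with h6 | h6
      · exact fS_one_ne_zero hUne h6
      · exact fS_one_ne_zero hVne ((map_eq_zero _).1 h6)

set_option maxHeartbeats 2000000 in
theorem central (p : ℕ) [Fact p.Prime] {M : Ideal AlgInt} (hM : IsPModular p M) [Finite G]
    (P : Subgroup G) [P.Normal] (hP : IsPGroup p P) (hsolv : IsPSolvable p (G ⧸ P))
    (hIH : ∀ U : Set (IrrCharacter (G ⧸ P)), Van p (fS U) → Closed M U)
    (N : Subgroup G) (hNc : N ≤ Subgroup.center G)
    (hC : ∀ g : G, ¬ p ∣ orderOf g → (∀ x ∈ P, x * g = g * x) → g ∈ N)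
    (U V : Set (IrrCharacter G)) (hUV : Disjoint U V) (hU : Van p (fS U)) (hV : Van p (fS V))
    (hsum : ∀ g, g ∉ N → fS U g + fS V g = 0)
    (hlin : ∀ n ∈ N, ∃ ζ : ℂ, ∀ χ ∈ U ∪ V, (χ : G → ℂ) n = ζ * (χ : G → ℂ) 1) :
    ¬ (U.Nonempty ∧ V.Nonempty) := by
  classical
  rintro ⟨hUne, hVne⟩
  have hp : p.Prime := Fact.out
  have hprime : M.IsPrime := Blocks.Local.isPrime_of_isPModular hM
  have := Fintype.ofFinite G
  have := Fintype.ofFinite P
  have := Fintype.ofFinite (G ⧸ P)
  have := finite_irr (G := G ⧸ P)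
  have hP0 : (Nat.card P : ℂ) ≠ 0 := by exact_mod_cast (Nat.card_pos (α := P)).ne'
  set U' := inflSet P U with hU'
  set V' := inflSet P V with hV'
  have hclU : Closed M U' := hIH _ (by rw [hU', ← defl_fS]; exact van_defl P hU)
  have hclV : Closed M V' := hIH _ (by rw [hV', ← defl_fS]; exact van_defl P hV)
  have hdisj : Disjoint U' V' := by
    rw [Set.disjoint_left]
    intro η h1 h2
    exact Set.disjoint_left.1 hUV h1 h2
  have hcU := isClassFunction_fS U
  have hcV := isClassFunction_fS V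
  set βU := up P p (fS U) with hβU
  set βV := up P p (fS V) with hβV
  have hcβU : IsClassFunction (G ⧸ P) βU := isClassFunction_up P hP hcU
  have hcβV : IsClassFunction (G ⧸ P) βV := isClassFunction_up P hP hcV
  have hvβU : Van p βU := van_up P _
  have hvβV : Van p βV := van_up P _
  have hpβU : Pos p βU := pos_up P hP (isCharacter_fS U)
  have hpβV : Pos p βV := pos_up P hP (isCharacter_fS V)
  -- (1), (2)
  have hUV' : ∀ η ∈ V', classInner βU (η : G ⧸ P → ℂ) = 0 := by
    apply classInner_eq_zero_of_union p hM hsolv hcβU hvβU hpβU hclV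
    rw [← classInner_fS_right, hV', ← defl_fS, hβU, classInner_up_defl P hP hcU hV,
      classInner_fS_disjoint hUV]
  have hVU' : ∀ η ∈ U', classInner βV (η : G ⧸ P → ℂ) = 0 := by
    apply classInner_eq_zero_of_union p hM hsolv hcβV hvβV hpβV hclU
    rw [← classInner_fS_right, hU', ← defl_fS, hβV, classInner_up_defl P hP hcV hU,
      classInner_fS_disjoint hUV.symm]
  -- (3)
  have hr1 : ∀ g ∈ N, ¬ p ∣ orderOf g →
      (Finset.univ.filter fun x : P => ¬ p ∣ orderOf (g * x)).card = 1 := by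
    intro g hg hgr
    rw [Finset.card_eq_one]
    refine ⟨1, ?_⟩
    ext x
    rw [Finset.mem_filter, Finset.mem_singleton]
    constructor
    · rintro ⟨-, hx⟩
      have h1 : ((g * x : G) : G ⧸ P) = g := QuotientGroup.mk_mul_of_mem _ x.2
      obtain ⟨c, hc⟩ := isConj_iff.1 (isConj_of_coset hP hgr hx h1.symm)
      have h2 : c * g * c⁻¹ = g := by
        rw [Subgroup.mem_center_iff.1 (hNc hg) c, mul_inv_cancel_right]
      rw [h2] at hc
      apply Subtype.ext
      exact (mul_eq_left.1 hc.symm)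
    · rintro rfl
      exact ⟨Finset.mem_univ _, by rwa [Subgroup.coe_one, mul_one]⟩
  have hsum' : βU + βV = (Nat.card P : ℂ) • (fS U' + fS V') := by
    funext q
    rw [Pi.add_apply, Pi.smul_apply, Pi.add_apply, smul_eq_mul, hU', hV', ← defl_fS, ← defl_fS]
    by_cases hq : p ∣ orderOf q
    · rw [hvβU q hq, hvβV q hq, van_defl P hU q hq, van_defl P hV q hq, add_zero, mul_zero]
    · obtain ⟨g, rfl, hg⟩ := exists_regular hP q hq
      rw [mul_add, defl_regular P hP hcU hU hg, defl_regular P hP hcV hV hg, hβU, hβV,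
        up_mk P hP hcU hg, up_mk P hP hcV hg, ← mul_add]
      by_cases hgN : g ∈ N
      · rw [hr1 g hgN hg, Nat.cast_one, one_mul]
      · rw [hsum g hgN, mul_zero]
  have hinner : ∀ η : IrrCharacter (G ⧸ P), classInner βU (η : G ⧸ P → ℂ) +
      classInner βV (η : G ⧸ P → ℂ) = (Nat.card P : ℂ) *
        (classInner (fS U') (η : G ⧸ P → ℂ) + classInner (fS V') (η : G ⧸ P → ℂ)) := by
    intro η
    rw [← classInner_add_left, hsum', classInner_smul_left, classInner_add_left]
  -- (4)
  have hclW : Closed M (U' ∪ V')ᶜ := by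
    intro χ hχ ψ hψ h
    apply hχ
    have h' := Blocks.Basic.sameBlock_symm hψ
    rcases h with h | h
    · exact Or.inl (hclU ψ h χ h')
    · exact Or.inr (hclV ψ h χ h')
  have hW : ∀ η ∈ (U' ∪ V')ᶜ, classInner βU (η : G ⧸ P → ℂ) = 0 := by
    apply classInner_eq_zero_of_union p hM hsolv hcβU hvβU hpβU hclW
    obtain ⟨k, hk⟩ := nat_union p hM hsolv hcβU hvβU hpβU hclW
    obtain ⟨l, hl⟩ := nat_union p hM hsolv hcβV hvβV hpβV hclW
    have h1 : ((k + l : ℕ) : ℂ) = 0 := by
      rw [Nat.cast_add, ← hk, ← hl, ← finsum_mem_add_distrib (Set.toFinite _)]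
      rw [finsum_mem_congr rfl (g := fun _ => (0 : ℂ))]
      · simp
      · intro η hη
        rw [← mul_add, hinner, classInner_fS_of_notMem (fun h => hη (Or.inl h)),
          classInner_fS_of_notMem (fun h => hη (Or.inr h)), add_zero, mul_zero, mul_zero]
    have h2 : k + l = 0 := by exact_mod_cast h1
    have h3 : k = 0 := by omega
    rw [hk, h3, Nat.cast_zero]
  -- (5)
  have hβ : βU = (Nat.card P : ℂ) • fS U' := by
    refine classFunction_ext hcβU (isClassFunction_smul _ (isClassFunction_fS U')) fun η hη => ?_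
    rw [classInner_smul_left]
    by_cases h1 : (⟨η, hη⟩ : IrrCharacter (G ⧸ P)) ∈ U'
    · have h2 := hinner ⟨η, hη⟩
      rw [hVU' _ h1, classInner_fS_of_notMem (Set.disjoint_left.1 hdisj h1), add_zero,
        add_zero] at h2
      exact h2
    · have h2 : classInner (fS U') η = 0 := classInner_fS_of_notMem (χ := ⟨η, hη⟩) h1
      rw [h2, mul_zero]
      by_cases h3 : (⟨η, hη⟩ : IrrCharacter (G ⧸ P)) ∈ V'
      · exact hUV' _ h3
      · exact hW ⟨η, hη⟩ (fun h => h.elim h1 h3)
  -- (6)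
  have hzero : ∀ g, g ∉ N → fS U g = 0 := by
    intro g hg
    by_cases hgr : p ∣ orderOf g
    · exact hU g hgr
    · have h1 : βU (g : G ⧸ P) = fS U g := up_mk P hP hcU hgr
      rw [hβ, Pi.smul_apply, smul_eq_mul, hU', ← defl_fS, defl_regular P hP hcU hU hgr] at h1
      have h2 : ¬ ∀ x ∈ P, x * g = g * x := fun h => hg (hC g hgr h)
      push Not at h2
      obtain ⟨y, hy, hyg⟩ := h2
      have h3 : 1 < (Finset.univ.filter fun x : P => ¬ p ∣ orderOf (g * x)).card := by
        rw [Finset.one_lt_card]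
        have hxP : g⁻¹ * y * g * y⁻¹ ∈ P := by
          refine P.mul_mem ?_ (P.inv_mem hy)
          have := ‹P.Normal›.conj_mem y hy g⁻¹
          rwa [inv_inv] at this
        refine ⟨1, ?_, ⟨g⁻¹ * y * g * y⁻¹, hxP⟩, ?_, ?_⟩
        · rw [Finset.mem_filter]
          exact ⟨Finset.mem_univ _, by rwa [Subgroup.coe_one, mul_one]⟩
        · rw [Finset.mem_filter]
          refine ⟨Finset.mem_univ _, ?_⟩
          have h4 : g * (g⁻¹ * y * g * y⁻¹) = y * g * y⁻¹ := by group
          have h5 : orderOf (y * g * y⁻¹) = orderOf g := MulEquiv.orderOf_eq (MulAut.conj y) g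
          show ¬ p ∣ orderOf (g * (g⁻¹ * y * g * y⁻¹))
          rwa [h4, h5]
        · intro h4
          have h5 : g⁻¹ * y * g * y⁻¹ = 1 := (congrArg Subtype.val h4).symm
          apply hyg
          have h6 : y * g = g * (g⁻¹ * y * g * y⁻¹) * y := by group
          rw [h6, h5, mul_one]
      set r := (Finset.univ.filter fun x : P => ¬ p ∣ orderOf (g * x)).card with hr
      have h4 : ((r : ℂ) - 1) * fS U g = 0 := by linear_combination h1
      rcases mul_eq_zero.1 h4 with h5 | h5
      · have h6 : (r : ℂ) = 1 := by linear_combination h5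
        have h7 : r = 1 := by exact_mod_cast h6
        omega
      · exact h5
  exact final_step N U V hUV hlin hzero ⟨hUne, hVne⟩

end Cfsg.Agent.H592.Har
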