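import Mathlib.GroupTheory.Nilpotent
import Cfsg.Agent.Characters.Core
import Cfsg.Agent.S0001

/-!
# `p`-regular elements and `p'`-subgroups modulo a normal `p`-subgroup

* `isConj_of_coset`: two `p`-regular elements in the same coset of a normal `p`-subgroup are
  conjugate.
* `exists_regular`: a `p`-regular element of the quotient lifts to a `p`-regular element.
* `exists_splitting`: a `p'`-subgroup of the quotient lifts.
-/

set_option autoImplicit false
open Cfsg

namespace Cfsg.Agent.H592.Har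

universe u

variable {G : Type u} [Group G]

theorem pow_mem_of_coprime {H : Subgroup G} {x : G} {n : ℕ} (hx : x ^ n ∈ H)
    (hcop : (orderOf x).Coprime n) : x ∈ H := by
  obtain ⟨m, hm⟩ := exists_pow_eq_self_of_coprime hcop.symm
  rw [← hm]
  exact H.pow_mem hx m

/-- A `p`-regular element of a `p`-subgroup is trivial. -/
theorem eq_one_of_regular {p : ℕ} [Fact p.Prime] {P : Subgroup G} (hP : IsPGroup p P) {x : G}
    (hx : x ∈ P) (hr : ¬ p ∣ orderOf x) : x = 1 := by
  have hp : p.Prime := Fact.out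
  obtain ⟨k, hk⟩ := hP ⟨x, hx⟩
  have h1 : x ^ p ^ k = 1 := congrArg Subtype.val hk
  have h2 : orderOf x ∣ p ^ k := orderOf_dvd_of_pow_eq_one h1
  obtain ⟨j, -, hj⟩ := (Nat.dvd_prime_pow hp).1 h2
  rcases Nat.eq_zero_or_pos j with h0 | h0
  · rw [h0, pow_zero] at hj
    exact orderOf_eq_one_iff.1 hj
  · exact absurd (hj ▸ dvd_pow_self p h0.ne') hr

theorem isComplement'_zpowers {p : ℕ} [Fact p.Prime] {P : Subgroup G} [P.Normal]
    (hP : IsPGroup p P) {g : G} (hg : ¬ p ∣ orderOf g) (h : P ⊔ Subgroup.zpowers g = ⊤) :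
    Subgroup.IsComplement' P (Subgroup.zpowers g) := by
  apply Subgroup.isComplement'_of_disjoint_and_mul_eq_univ
  · rw [Subgroup.disjoint_def]
    intro x hx hx'
    refine eq_one_of_regular hP hx fun h1 => hg (h1.trans ?_)
    exact orderOf_dvd_of_mem_zpowers hx'
  · rw [← Subgroup.normal_mul, h]
    rfl

theorem conj_aux [Finite G] {p : ℕ} [Fact p.Prime] {P : Subgroup G} [P.Normal]
    (hP : IsPGroup p P) {g g' : G} (hg : ¬ p ∣ orderOf g) (hg' : ¬ p ∣ orderOf g')
    (h1 : P ⊔ Subgroup.zpowers g = ⊤) (h2 : P ⊔ Subgroup.zpowers g' = ⊤)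
    (h : (g : G ⧸ P) = g') : IsConj g g' := by
  have hp : p.Prime := Fact.out
  have hc := isComplement'_zpowers hP hg h1
  have hc' := isComplement'_zpowers hP hg' h2
  have hcop : (Nat.card P).Coprime P.index := by
    obtain ⟨k, hk⟩ := IsPGroup.iff_card.1 hP
    rw [hk, hc.symm.index_eq_card, Nat.card_zpowers]
    exact Nat.Coprime.pow_left k (hp.coprime_iff_not_dvd.2 hg)
  have hnil : Group.IsNilpotent P := hP.isNilpotent
  obtain ⟨k, hk⟩ := S0001.result P hcop (Or.inl inferInstance) _ _ hc hc'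
  have h3 : k * g * k⁻¹ ∈ Subgroup.zpowers g' := by
    rw [← hk]
    exact ⟨g, Subgroup.mem_zpowers g, rfl⟩
  rw [isConj_iff]
  refine ⟨k, ?_⟩
  -- the quotient is commutative
  have h4 : (k : G ⧸ P) * (g : G ⧸ P) = g * k := by
    have h5 : k ∈ P ⊔ Subgroup.zpowers g := h1 ▸ Subgroup.mem_top k
    rw [Subgroup.mem_sup_of_normal_left] at h5
    obtain ⟨a, ha, y, hy, rfl⟩ := h5
    obtain ⟨i, rfl⟩ := Subgroup.mem_zpowers_iff.1 hy
    rw [QuotientGroup.mk_mul, (QuotientGroup.eq_one_iff a).2 ha, one_mul, QuotientGroup.mk_zpow]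
    exact ((Commute.refl (g : G ⧸ P)).zpow_left i).eq
  have h5 : (k * g * k⁻¹)⁻¹ * g' ∈ P := by
    rw [← QuotientGroup.eq_one_iff]
    rw [QuotientGroup.mk_mul, QuotientGroup.mk_inv, QuotientGroup.mk_mul, QuotientGroup.mk_mul,
      QuotientGroup.mk_inv, h4, ← h]
    group
  have h6 : (k * g * k⁻¹)⁻¹ * g' = 1 := by
    exact Subgroup.disjoint_def.1 hc'.disjoint h5
      (Subgroup.mul_mem _ (Subgroup.inv_mem _ h3) (Subgroup.mem_zpowers g'))
  exact (inv_mul_eq_one.1 h6)

/-- Two `p`-regular elements in the same coset of a normal `p`-subgroup are conjugate. -/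
theorem isConj_of_coset [Finite G] {p : ℕ} [Fact p.Prime] {P : Subgroup G} [hPn : P.Normal]
    (hP : IsPGroup p P) {g g' : G} (hg : ¬ p ∣ orderOf g) (hg' : ¬ p ∣ orderOf g')
    (h : (g : G ⧸ P) = g') : IsConj g g' := by
  have h0 : g⁻¹ * g' ∈ P := QuotientGroup.eq.1 h
  let K : Subgroup G := P ⊔ Subgroup.zpowers g
  have hPK : P ≤ K := le_sup_left
  have hgK : g ∈ K := (le_sup_right : Subgroup.zpowers g ≤ K) (Subgroup.mem_zpowers g)
  have hgK' : g' ∈ K := by
    have : g' = g * (g⁻¹ * g') := by group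
    rw [this]
    exact K.mul_mem hgK (hPK h0)
  have htop : ∀ x : K, P ⊔ Subgroup.zpowers (x : G) = K →
      P.subgroupOf K ⊔ Subgroup.zpowers x = ⊤ := by
    intro x hx
    apply Subgroup.map_injective K.subtype_injective
    rw [Subgroup.map_sup, Subgroup.map_subgroupOf_eq_of_le hPK, MonoidHom.map_zpowers,
      ← MonoidHom.range_eq_map, Subgroup.range_subtype]
    exact hx
  have h1 := conj_aux (G := K) (P := P.subgroupOf K) (p := p)
    (hP.comap_of_injective K.subtype K.subtype_injective)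
    (g := ⟨g, hgK⟩) (g' := ⟨g', hgK'⟩) (by rwa [← Subgroup.orderOf_coe])
    (by rwa [← Subgroup.orderOf_coe]) (htop _ rfl) (htop _ ?_) ?_
  · obtain ⟨c, hc⟩ := isConj_iff.1 h1
    exact isConj_iff.2 ⟨c, congrArg Subtype.val hc⟩
  · apply le_antisymm
    · refine sup_le hPK ?_
      rw [Subgroup.zpowers_le]
      exact hgK'
    · refine sup_le le_sup_left ?_
      rw [Subgroup.zpowers_le]
      have h2 : g = g' * (g⁻¹ * g')⁻¹ := by group
      rw [h2]
      exact Subgroup.mul_mem _ ((le_sup_right : Subgroup.zpowers g' ≤ P ⊔ Subgroup.zpowers g')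
        (Subgroup.mem_zpowers g')) ((le_sup_left : P ≤ P ⊔ Subgroup.zpowers g') (P.inv_mem h0))
  · rw [QuotientGroup.eq, Subgroup.mem_subgroupOf]
    exact h0

/-- A `p`-regular element of the quotient by a normal `p`-subgroup lifts to a `p`-regular element. -/
theorem exists_regular [Finite G] {p : ℕ} [Fact p.Prime] {P : Subgroup G} [hPn : P.Normal]
    (hP : IsPGroup p P) (q : G ⧸ P) (hq : ¬ p ∣ orderOf q) :
    ∃ g : G, (g : G ⧸ P) = q ∧ ¬ p ∣ orderOf g := by
  have hp : p.Prime := Fact.out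
  obtain ⟨y, rfl⟩ := QuotientGroup.mk_surjective q
  obtain ⟨k, hk⟩ := IsPGroup.iff_card.1 hP
  have hcop : (orderOf (y : G ⧸ P)).Coprime (p ^ k) :=
    (Nat.Coprime.pow_left k (hp.coprime_iff_not_dvd.2 hq)).symm
  obtain ⟨m, hm⟩ := exists_pow_eq_self_of_coprime hcop.symm
  refine ⟨(y ^ p ^ k) ^ m, ?_, ?_⟩
  · rw [QuotientGroup.mk_pow, QuotientGroup.mk_pow, hm]
  · have h1 : ((y ^ p ^ k) ^ m) ^ orderOf (y : G ⧸ P) = 1 := by
      have h2 : y ^ orderOf (y : G ⧸ P) ∈ P := by
        rw [← QuotientGroup.eq_one_iff, QuotientGroup.mk_pow, pow_orderOf_eq_one]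
      have h3 : (y ^ orderOf (y : G ⧸ P)) ^ p ^ k = 1 := by
        rw [← hk]
        have := pow_card_eq_one' (G := P) (x := ⟨_, h2⟩)
        exact congrArg Subtype.val this
      have h4 : ((y ^ p ^ k) ^ m) ^ orderOf (y : G ⧸ P) =
          ((y ^ orderOf (y : G ⧸ P)) ^ p ^ k) ^ m := by
        rw [← pow_mul, ← pow_mul, ← pow_mul, ← pow_mul]
        congr 1
        ring
      rw [h4, h3, one_pow]
    exact fun h2 => hq (h2.trans (orderOf_dvd_of_pow_eq_one h1))

/-- A `p'`-subgroup of the quotient by a normal `p`-subgroup lifts. -/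
theorem exists_splitting [Finite G] {p : ℕ} [Fact p.Prime] {P : Subgroup G} [hPn : P.Normal]
    (hP : IsPGroup p P) (C : Subgroup (G ⧸ P)) (hC : ¬ p ∣ Nat.card C) :
    ∃ s : C →* G, ∀ c, ((s c : G) : G ⧸ P) = c := by
  have hp : p.Prime := Fact.out
  let D : Subgroup G := C.comap (QuotientGroup.mk' P)
  have hPD : P ≤ D := by
    intro x hx
    show (x : G ⧸ P) ∈ C
    rw [(QuotientGroup.eq_one_iff x).2 hx]
    exact C.one_mem
  let f : D →* C := ((QuotientGroup.mk' P).comp D.subtype).codRestrict C fun d => d.2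
  have hf : Function.Surjective f := by
    rintro ⟨c, hc⟩
    obtain ⟨g, rfl⟩ := QuotientGroup.mk_surjective c
    exact ⟨⟨g, hc⟩, rfl⟩
  have hker : f.ker = P.subgroupOf D := by
    ext d
    rw [MonoidHom.mem_ker, Subgroup.mem_subgroupOf, ← QuotientGroup.eq_one_iff]
    constructor
    · intro h
      exact congrArg Subtype.val h
    · intro h
      exact Subtype.ext h
  have hcard : Nat.card (P.subgroupOf D) = Nat.card P :=
    Nat.card_congr (Subgroup.subgroupOfEquivOfLe hPD).toEquiv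
  have hindex : (P.subgroupOf D).index = Nat.card C := by
    rw [← hker, Subgroup.index_ker, MonoidHom.range_eq_top.2 hf, Subgroup.card_top]
  obtain ⟨H, hH⟩ := Subgroup.exists_right_complement'_of_coprime (N := P.subgroupOf D) (by
    rw [hcard, hindex]
    obtain ⟨k, hk⟩ := IsPGroup.iff_card.1 hP
    rw [hk]
    exact Nat.Coprime.pow_left k (hp.coprime_iff_not_dvd.2 hC))
  let f' : H →* C := f.comp H.subtype
  have hf' : Function.Bijective f' := by
    constructor
    · rw [← MonoidHom.ker_eq_bot_iff, eq_bot_iff]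
      intro x hx
      have h1 : (x : D) ∈ P.subgroupOf D := by
        rw [← hker]
        exact hx
      have h2 := Subgroup.disjoint_def.1 hH.disjoint h1 x.2
      rw [Subgroup.mem_bot]
      exact Subtype.ext h2
    · intro c
      obtain ⟨d, rfl⟩ := hf c
      obtain ⟨⟨a, b⟩, hab⟩ := hH.2 d
      refine ⟨b, ?_⟩
      have h1 : (a : D) ∈ f.ker := by
        rw [hker]
        exact a.2
      have h2 : (a : D) * (b : D) = d := hab
      show f (b : D) = f d
      rw [← h2, map_mul, MonoidHom.mem_ker.1 h1, one_mul]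
  let e : H ≃* C := MulEquiv.ofBijective f' hf'
  refine ⟨(D.subtype.comp H.subtype).comp e.symm.toMonoidHom, fun c => ?_⟩
  have h1 : e (e.symm c) = c := e.apply_symm_apply c
  exact congrArg Subtype.val h1

end Cfsg.Agent.H592.Har
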