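import Cfsg.Agent.H592.HarPos
import Cfsg.Agent.H592.HarConj

/-!
# Deflation of class functions and its adjoint on `p`-regular elements

`P` a normal `p`-subgroup of `G`.
* `defl P F`: the average of `F` over cosets of `P`.
* `up P p F`: the class function of `G ⧸ P`, zero at the `p`-singular elements, whose value at the
  image of a `p`-regular element `g` is `F g`.
* `classInner_up_defl`.
-/

set_option autoImplicit false
open Cfsg

namespace Cfsg.Agent.H592.Har

open Cfsg.Agent Cfsg.Agent.Characters.Core Cfsg.Agent.OddOrderCharacters.IndRes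
open scoped ComplexConjugate

universe u

variable {G : Type u} [Group G] (P : Subgroup G)

/-- Averages over the cosets of `P`. -/
noncomputable def defl [Fintype P] (F : G → ℂ) : G ⧸ P → ℂ :=
  fun q => (Nat.card P : ℂ)⁻¹ * ∑ x : P, F (q.out * x)

theorem defl_mk [Fintype P] (F : G → ℂ) (g : G) :
    defl P F (g : G ⧸ P) = (Nat.card P : ℂ)⁻¹ * ∑ x : P, F (g * x) := by
  unfold defl
  obtain ⟨h, hh⟩ := QuotientGroup.mk_out_eq_mul P g
  rw [hh]
  congr 1
  refine Fintype.sum_equiv (Equiv.mulLeft h) _ _ fun x => ?_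
  simp only [Equiv.coe_mulLeft, Subgroup.coe_mul, mul_assoc]

theorem defl_add [Fintype P] (F F' : G → ℂ) : defl P (F + F') = defl P F + defl P F' := by
  funext q
  unfold defl
  rw [Pi.add_apply, ← mul_add, ← Finset.sum_add_distrib]
  rfl

theorem isClassFunction_defl [hP : P.Normal] [Fintype P] {F : G → ℂ} (hF : IsClassFunction G F) :
    IsClassFunction (G ⧸ P) (defl P F) := by
  intro q r
  obtain ⟨g, rfl⟩ := QuotientGroup.mk_surjective q
  obtain ⟨k, rfl⟩ := QuotientGroup.mk_surjective r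
  rw [← QuotientGroup.mk_inv, ← QuotientGroup.mk_mul, ← QuotientGroup.mk_mul, defl_mk, defl_mk]
  congr 1
  refine Fintype.sum_equiv (MulAut.conjNormal k⁻¹ : MulAut P).toEquiv _ _ fun x => ?_
  have h1 := hF (g * ((MulAut.conjNormal k⁻¹ : MulAut P) x : P)) k
  refine Eq.trans ?_ h1
  congr 1
  rw [MulAut.conjNormal_apply]
  group

/-- Reciprocity for deflation. -/
theorem classInner_defl [hP : P.Normal] [Fintype P] [Fintype G] [Fintype (G ⧸ P)] (F : G → ℂ)
    (η : G ⧸ P → ℂ) :
    classInner (defl P F) η = classInner F (fun g => η (g : G ⧸ P)) := by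
  rw [classInner_def, classInner_def]
  have hc : (Nat.card G : ℂ) = (Nat.card P : ℂ) * (Nat.card (G ⧸ P) : ℂ) := by
    rw [← Nat.cast_mul, ← Subgroup.card_mul_index P]
    rfl
  have hP0 : (Nat.card P : ℂ) ≠ 0 := by exact_mod_cast (Nat.card_pos (α := P)).ne'
  have hs : ∑ g : G, F g * conj (η (g : G ⧸ P)) =
      ∑ q : G ⧸ P, ∑ x : P, F (q.out * x) * conj (η q) := by
    rw [← Fintype.sum_prod_type']
    symm
    refine Fintype.sum_bijective (fun z : (G ⧸ P) × P => z.1.out * (z.2 : G)) ⟨?_, ?_⟩ _ _ ?_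
    · rintro ⟨q, x⟩ ⟨q', x'⟩ h
      have h1 : q = q' := by
        have h2 : ((q.out * (x : G) : G) : G ⧸ P) = ((q'.out * (x' : G) : G) : G ⧸ P) :=
          congrArg _ h
        rw [QuotientGroup.mk_mul_of_mem _ x.2, QuotientGroup.mk_mul_of_mem _ x'.2,
          QuotientGroup.out_eq', QuotientGroup.out_eq'] at h2
        exact h2
      subst h1
      have h2 : (x : G) = x' := mul_left_cancel h
      rw [Subtype.ext h2]
    · intro g
      obtain ⟨h, hh⟩ := QuotientGroup.mk_out_eq_mul P g
      refine ⟨(g, h⁻¹), ?_⟩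
      show (g : G ⧸ P).out * ((h⁻¹ : P) : G) = g
      rw [hh, Subgroup.coe_inv, mul_inv_cancel_right]
    · rintro ⟨q, x⟩
      show F (q.out * x) * conj (η q) = F (q.out * x) * conj (η ((q.out * (x : G) : G) : G ⧸ P))
      rw [QuotientGroup.mk_mul_of_mem _ x.2, QuotientGroup.out_eq']
  rw [hs, hc, mul_inv]
  unfold defl
  rw [mul_comm (Nat.card P : ℂ)⁻¹, mul_assoc, Finset.mul_sum (s := (Finset.univ : Finset (G ⧸ P)))
    (a := (Nat.card P : ℂ)⁻¹)]
  congr 1
  refine Finset.sum_congr rfl fun q _ => ?_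
  rw [← Finset.sum_mul]
  ring

/-- Inflation of an irreducible character. -/
noncomputable def infl [P.Normal] (η : IrrCharacter (G ⧸ P)) : IrrCharacter G :=
  ⟨fun g => (η : G ⧸ P → ℂ) (g : G ⧸ P),
    isIrr_comp (QuotientGroup.mk' P) (QuotientGroup.mk'_surjective P) η.2⟩

theorem infl_apply [P.Normal] (η : IrrCharacter (G ⧸ P)) (g : G) :
    (infl P η : G → ℂ) g = (η : G ⧸ P → ℂ) (g : G ⧸ P) := rfl

/-- The irreducible characters of `G ⧸ P` inflating into `U`. -/
def inflSet [P.Normal] (U : Set (IrrCharacter G)) : Set (IrrCharacter (G ⧸ P)) :=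
  {η | infl P η ∈ U}

theorem defl_fS [P.Normal] [Fintype P] [Finite G] (U : Set (IrrCharacter G)) :
    defl P (fS U) = fS (inflSet P U) := by
  classical
  have := Fintype.ofFinite G
  have := Fintype.ofFinite (G ⧸ P)
  refine eq_fS (isClassFunction_defl P (isClassFunction_fS U)) (fun η hη => ?_) (fun η hη => ?_)
  · rw [classInner_defl]
    exact classInner_fS_of_mem (χ := infl P η) hη
  · rw [classInner_defl]
    exact classInner_fS_of_notMem (χ := infl P η) hη

theorem van_defl [P.Normal] [Fintype P] {p : ℕ} {F : G → ℂ} (hF : Van p F) :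
    Van p (defl P F) := by
  intro q hq
  obtain ⟨g, rfl⟩ := QuotientGroup.mk_surjective q
  rw [defl_mk, Finset.sum_eq_zero, mul_zero]
  intro x _
  apply hF
  refine hq.trans ?_
  have h1 : ((g * x : G) : G ⧸ P) = g := QuotientGroup.mk_mul_of_mem _ x.2
  rw [← h1]
  exact orderOf_map_dvd (QuotientGroup.mk' P) (g * x)

open Classical in
/-- The function of `G ⧸ P` with value `F g` at the image of a `p`-regular element `g`. -/
noncomputable def up (p : ℕ) (F : G → ℂ) : G ⧸ P → ℂ :=
  fun q => if h : ∃ g : G, (g : G ⧸ P) = q ∧ ¬ p ∣ orderOf g then F h.choose else 0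

theorem up_mk [P.Normal] [Finite G] {p : ℕ} [Fact p.Prime] (hP : IsPGroup p P) {F : G → ℂ}
    (hF : IsClassFunction G F) {g : G} (hg : ¬ p ∣ orderOf g) :
    up P p F (g : G ⧸ P) = F g := by
  have h : ∃ g' : G, (g' : G ⧸ P) = g ∧ ¬ p ∣ orderOf g' := ⟨g, rfl, hg⟩
  unfold up
  rw [dif_pos h]
  have h1 := isConj_of_coset hP h.choose_spec.2 hg h.choose_spec.1
  obtain ⟨c, hc⟩ := isConj_iff.1 h1
  exact (hF _ c).symm.trans (congrArg F hc)

theorem van_up [P.Normal] {p : ℕ} (F : G → ℂ) : Van p (up P p F) := by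
  intro q hq
  unfold up
  rw [dif_neg]
  rintro ⟨g, rfl, hg⟩
  exact hg (hq.trans (orderOf_map_dvd (QuotientGroup.mk' P) g))

theorem isClassFunction_up [P.Normal] [Finite G] {p : ℕ} [Fact p.Prime] (hP : IsPGroup p P)
    {F : G → ℂ} (hF : IsClassFunction G F) : IsClassFunction (G ⧸ P) (up P p F) := by
  intro q r
  have h0 : orderOf (r * q * r⁻¹) = orderOf q := MulEquiv.orderOf_eq (MulAut.conj r) q
  by_cases hq : p ∣ orderOf q
  · rw [van_up P F q hq, van_up P F _ (by rwa [h0])]
  · obtain ⟨g, rfl, hg⟩ := exists_regular hP q hq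
    obtain ⟨k, rfl⟩ := QuotientGroup.mk_surjective r
    rw [← QuotientGroup.mk_inv, ← QuotientGroup.mk_mul, ← QuotientGroup.mk_mul, up_mk P hP hF hg,
      up_mk P hP hF, hF]
    have h1 : orderOf (k * g * k⁻¹) = orderOf g := MulEquiv.orderOf_eq (MulAut.conj k) g
    rwa [h1]

theorem pos_up [P.Normal] [Finite G] {p : ℕ} [Fact p.Prime] (hP : IsPGroup p P)
    {F : G → ℂ} (hF : IsCharacter G F) : Pos p (up P p F) := by
  intro C hC
  obtain ⟨s, hs⟩ := exists_splitting hP C hC
  have h1 : res C (up P p F) = fun c => F (s c) := by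
    funext c
    rw [res_apply, ← hs c, up_mk P hP (isCharacter_isClassFunction hF)]
    intro h
    exact hC (h.trans ((orderOf_map_dvd s c).trans (orderOf_dvd_natCard c)))
  rw [h1]
  exact isCharacter_comp s hF

theorem classInner_up_defl [P.Normal] [Fintype P] [Fintype G] [Fintype (G ⧸ P)] {p : ℕ}
    [Fact p.Prime] (hP : IsPGroup p P) {F F' : G → ℂ} (hF : IsClassFunction G F)
    (hF' : Van p F') : classInner (up P p F) (defl P F') = classInner F F' := by
  rw [← classInner_conj_symm, classInner_defl, classInner_conj_symm, classInner_def, classInner_def]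
  congr 1
  refine Finset.sum_congr rfl fun g _ => ?_
  by_cases hg : p ∣ orderOf g
  · rw [hF' g hg, map_zero, mul_zero, mul_zero]
  · rw [up_mk P hP hF hg]

open Classical in
/-- Deflation at a `p`-regular element of a class function vanishing at the `p`-singular ones. -/
theorem defl_regular [P.Normal] [Fintype P] [Finite G] {p : ℕ} [Fact p.Prime] (hP : IsPGroup p P)
    {F : G → ℂ} (hF : IsClassFunction G F) (hv : Van p F) {g : G} (hg : ¬ p ∣ orderOf g) :
    (Nat.card P : ℂ) * defl P F (g : G ⧸ P) =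
      ((Finset.univ.filter fun x : P => ¬ p ∣ orderOf (g * x)).card : ℂ) * F g := by
  have hP0 : (Nat.card P : ℂ) ≠ 0 := by exact_mod_cast (Nat.card_pos (α := P)).ne'
  rw [defl_mk, mul_inv_cancel_left₀ hP0, ← nsmul_eq_mul, ← Finset.sum_const,
    ← Finset.sum_filter_add_sum_filter_not Finset.univ (fun x : P => ¬ p ∣ orderOf (g * x))]
  rw [Finset.sum_eq_zero (s := Finset.univ.filter fun x : P => ¬ ¬ p ∣ orderOf (g * x)), add_zero]
  · refine Finset.sum_congr rfl fun x hx => ?_
    have h1 : ((g * x : G) : G ⧸ P) = g := QuotientGroup.mk_mul_of_mem _ x.2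
    obtain ⟨c, hc⟩ := isConj_iff.1 (isConj_of_coset hP (Finset.mem_filter.1 hx).2 hg h1)
    exact (hF _ c).symm.trans (congrArg F hc)
  · intro x hx
    exact hv _ (not_not.1 (Finset.mem_filter.1 hx).2)

end Cfsg.Agent.H592.Har
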