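import Cfsg.Agent.H592.HeightInv
import Cfsg.Agent.H592.Defect
import Cfsg.Agent.Blocks.PrimeNormal
import Cfsg.Agent.S4435
import Cfsg.Agent.S4436
import Cfsg.Agent.S0959
import Cfsg.Agent.PLocal.PSolvable

/-!
# Heights in `p`-solvable groups

The height of a character in a `p`-block of a `p`-solvable group is at most the exponent of `p` in
the index of the centre of a defect group.
-/

set_option autoImplicit false
open Cfsg

namespace Cfsg.Agent.H592.Height

open Cfsg.Agent Cfsg.Agent.Characters.Core Cfsg.Agent.OddOrderCharacters.IndRes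

universe u

/-- Blocks of a group of order prime to `p` have one member. -/
theorem eq_of_sameBlock {N : Type u} [Group N] [Finite N] {p : ℕ} {M : Ideal AlgInt}
    (hM : IsPModular p M) (hN : ¬ p ∣ Nat.card N) {χ ψ : N → ℂ} (hχ : IsIrrCharacter N χ)
    (hψ : IsIrrCharacter N ψ) (h : SameBlock M χ ψ) : χ = ψ := by
  classical
  have := Fintype.ofFinite N
  have := Fintype.ofFinite (⊤ : Subgroup N)
  have h1 : IsIrrCharacter (⊤ : Subgroup N) (fun n : (⊤ : Subgroup N) => χ n) :=
    isIrr_comp (Subgroup.topEquiv : (⊤ : Subgroup N) ≃* N).toMonoidHom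
      (Subgroup.topEquiv : (⊤ : Subgroup N) ≃* N).surjective hχ
  have h2 : IsIrrCharacter (⊤ : Subgroup N) (fun n : (⊤ : Subgroup N) => ψ n) :=
    isIrr_comp (Subgroup.topEquiv : (⊤ : Subgroup N) ≃* N).toMonoidHom
      (Subgroup.topEquiv : (⊤ : Subgroup N) ≃* N).surjective hψ
  have h3 := Blocks.PrimeNormal.constituent_of_sameBlock hM (⊤ : Subgroup N)
    (by rwa [Subgroup.card_top]) hχ hψ h h1 (by rw [classInner_irr_self h1]; exact one_ne_zero)
  by_contra hne
  apply h3
  apply classInner_irr_ne h2 h1
  intro h4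
  apply hne
  funext n
  exact (congrFun h4 ⟨n, Subgroup.mem_top n⟩).symm

theorem index_center_eq {A B : Type*} [Group A] [Group B] (e : A ≃* B) :
    (Subgroup.center A).index = (Subgroup.center B).index := by
  have h1 : (Subgroup.center A).map e.toMonoidHom = Subgroup.center B := by
    ext b
    constructor
    · rintro ⟨a, ha, rfl⟩
      rw [Subgroup.mem_center_iff]
      intro c
      obtain ⟨c, rfl⟩ := e.surjective c
      have h2 := Subgroup.mem_center_iff.1 ha c
      have h3 := congrArg e h2
      simpa using h3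
    · intro hb
      refine ⟨e.symm b, ?_, by simp⟩
      show e.symm b ∈ Subgroup.center A
      rw [Subgroup.mem_center_iff]
      intro c
      apply e.injective
      have h2 := Subgroup.mem_center_iff.1 hb (e c)
      simpa using h2
  rw [← h1]
  exact (Subgroup.index_map_equiv (Subgroup.center A) e).symm

/-- Two defect groups of a block have centres of the same index. -/
theorem index_center_defect {G : Type u} [Group G] [Finite G] (p : ℕ) [Fact p.Prime]
    {M : Ideal AlgInt} (hM : IsPModular p M) {B : Set (IrrCharacter G)} (hB : IsPBlock M B)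
    {D E : Subgroup G} (hD : IsDefectGroup p M B D) (hE : IsDefectGroup p M B E) :
    (Subgroup.center D).index = (Subgroup.center E).index := by
  have h1 := (S0959.result p M hM B hB D hD D (Defect.isPGroup_of_isDefectGroup hD)).2
    ⟨1, by rw [Blocks.Basic.map_conj_one]⟩
  obtain ⟨x, hx⟩ := (S0959.result p M hM B hB E hE D (Defect.isPGroup_of_isDefectGroup hD)).1 h1
  have h2 : D.map (MulAut.conj x).toMonoidHom = E := by
    apply Subgroup.eq_of_le_of_card_ge hx
    have h3 : Nat.card (D.map (MulAut.conj x).toMonoidHom) = Nat.card D :=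
      Nat.card_congr (D.equivMapOfInjective _ (MulAut.conj x).injective).toEquiv.symm
    rw [h3, S0908.result p M hM B hB D hD, S0908.result p M hM B hB E hE]
  rw [← h2]
  exact index_center_eq (D.equivMapOfInjective _ (MulAut.conj x).injective)

theorem index_center_map {G : Type u} [Group G] (T : Subgroup G) (D : Subgroup T) :
    (Subgroup.center (D.map T.subtype)).index = (Subgroup.center D).index :=
  (index_center_eq (D.equivMapOfInjective _ T.subtype_injective)).symm

theorem main (p : ℕ) [Fact p.Prime] (M : Ideal AlgInt) (hM : IsPModular p M) (n : ℕ) :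
    ∀ (G : Type u) [Group G] [Finite G], Nat.card G ≤ n → IsPSolvable p G →
      ∀ (B : Set (IrrCharacter G)), IsPBlock M B → ∀ (P : Subgroup G), IsDefectGroup p M B P →
      ∀ χ ∈ B, blockHeight p B (χ : G → ℂ) ≤ ((Subgroup.center P).index).factorization p := by
  classical
  have hp : p.Prime := Fact.out
  have hprime : M.IsPrime := Blocks.Local.isPrime_of_isPModular hM
  induction n with
  | zero =>
    intro G _ _ h
    exact absurd h (Nat.not_le.2 Nat.card_pos)
  | succ n ih =>
    intro G _ _ hcard hsolv B hB P hP χ hχ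
    have := Fintype.ofFinite G
    obtain ⟨N, hNdef⟩ : ∃ N : Subgroup G, N = pPrimeCore p G := ⟨_, rfl⟩
    have hN : N.Normal := hNdef ▸ Lib.Cores.pPrimeCore_normal p
    have hNp : ¬ p ∣ Nat.card N := by
      rw [hNdef]
      exact hp.coprime_iff_not_dvd.1 (Lib.Cores.pPrimeCore_coprime (G := G) p).symm
    have := Fintype.ofFinite N
    obtain ⟨θ, hθ⟩ := Blocks.Fong.exists_constituent N χ
    by_cases hinv : ∀ (g : G) (n : N),
        (θ : N → ℂ) ⟨g * n * g⁻¹, hN.conj_mem n n.2 g⟩ = (θ : N → ℂ) n
    · -- the invariant case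
      obtain ⟨B₀, hB₀, hmem, hsyl, hdef⟩ :=
        S4492.result p M hM hsolv N hNdef θ hinv
      have hχ₀ : χ ∈ B₀ := (hmem χ).2 hθ
      have hBB : B = B₀ := Blocks.Basic.isPBlock_eq_of_mem hB hB₀ hχ hχ₀
      subst hBB
      obtain ⟨Q, rfl⟩ := hdef P hP
      refine le_trans ?_ (HeightInv.factorization_degree_le p hsolv N hNdef θ hinv χ hθ Q)
      rw [Blocks.Basic.blockHeight_def]
      exact Nat.sub_le _ _
    · -- Clifford
      let b : Set (IrrCharacter N) := blockOf M (θ : N → ℂ)
      have hb : IsPBlock M b := Blocks.Basic.isPBlock_blockOf θ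
      have hbs : ∀ θ' : IrrCharacter N, θ' ∈ b ↔ θ' = θ := by
        intro θ'
        constructor
        · intro h
          exact Subtype.ext (eq_of_sameBlock hM hNp θ.2 θ'.2 h).symm
        · rintro rfl
          exact Blocks.Basic.mem_blockOf_self _
      set T : Subgroup G := OddOrderCharacters.PF9.CliffGen.inertia N (θ : N → ℂ) with hTdef
      have hT' : ∀ g : G, g ∈ T ↔
          ∀ h : N, (θ : N → ℂ) ⟨g * h * g⁻¹, hN.conj_mem h h.2 g⟩ = (θ : N → ℂ) h :=
        fun g => OddOrderCharacters.PF9.CliffGen.mem_inertia'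
      have hst : H591.Reynolds.IsStab b T := by
        intro g
        rw [hT']
        constructor
        · intro h θ₁ hθ₁ θ' hθ'
          rw [hbs] at hθ₁ ⊢
          subst hθ₁
          apply Subtype.ext
          funext n
          rw [hθ' n, h n]
        · intro h
          have h1 := h θ ((hbs θ).2 rfl) (Blocks.Covering.conjIrr N g θ) (fun n => by
            rw [Blocks.Covering.conjIrr_apply, H591.Reynolds.conjNormal_eq])
          rw [hbs] at h1
          intro n
          have h2 : (Blocks.Covering.conjIrr N g θ : N → ℂ) n = (θ : N → ℂ) n := by rw [h1]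
          rw [Blocks.Covering.conjIrr_apply, H591.Reynolds.conjNormal_eq] at h2
          exact h2
      have hNT : N ≤ T :=
        OddOrderCharacters.PF9.CliffGen.le_inertia (isIrr_isClassFunction θ.2)
      have hTtop : T ≠ ⊤ := by
        intro h
        apply hinv
        intro g
        exact (hT' g).1 (h ▸ Subgroup.mem_top g)
      have hTcard : Nat.card T ≤ n := by
        have h1 : Nat.card T < Nat.card G := by
          refine lt_of_le_of_ne (Nat.le_of_dvd Nat.card_pos (Subgroup.card_subgroup_dvd_card T)) ?_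
          intro h
          exact hTtop (Subgroup.eq_top_of_card_eq T h)
        omega
      have := Fintype.ofFinite T
      obtain ⟨B', hB', ⟨ψ₀, hψ₀, θ₀, hθ₀, h₀⟩, hind⟩ :=
        (S4435.result p M hM N b hb T hst hNT).2.2 B hB ⟨χ, hχ, θ, (hbs θ).2 rfl, hθ⟩
      obtain ⟨ψ, hψ, hχψ⟩ :=
        (H591.ReynoldsMain.mem_induced_iff p hM hb hst hNT hB' hψ₀ hθ₀ h₀ hind χ).1 hχ
      obtain ⟨hD1, hD2⟩ :=
        S4436.result p M hM N b hb T hst hNT B' hB' ⟨ψ₀, hψ₀, θ₀, hθ₀, h₀⟩ B hind
      obtain ⟨χ', -, hχ', hheight⟩ := hD2 ψ hψ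
      have hχχ : (χ' : G → ℂ) = (χ : G → ℂ) := by rw [hχ', hχψ]
      rw [hχχ] at hheight
      obtain ⟨D, hD⟩ := Defect.exists_defectGroup p hM hB'
      rw [hheight, index_center_defect p hM hB hP (hD1 D hD), index_center_map]
      exact ih T hTcard (PLocal.PSolvable.isPSolvable_subgroup hsolv T) B' hB' D hD ψ hψ

end Cfsg.Agent.H592.Height
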