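import Cfsg.Agent.H592.HarBasic
import Cfsg.Agent.H592.Height

/-!
# Positivity on `p'`-subgroups

`G` `p`-solvable, `β` a class function that vanishes at the `p`-singular elements and restricts to a
character of each `p'`-subgroup, `B` a block.  Then `∑_{χ ∈ B} χ(1) [β, χ]` is a natural number and
if it is zero then all `[β, χ]`, `χ ∈ B`, are zero.
-/

set_option autoImplicit false
open Cfsg

namespace Cfsg.Agent.H592.Har

open Cfsg.Agent Cfsg.Agent.Characters.Core Cfsg.Agent.OddOrderCharacters.IndRes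
open scoped ComplexConjugate

universe u

variable {G : Type u} [Group G]

/-- `β` restricts to a character of each `p'`-subgroup. -/
def Pos (p : ℕ) (β : G → ℂ) : Prop :=
  ∀ C : Subgroup G, ¬ p ∣ Nat.card C → IsCharacter C (res C β)

/-- The twisted sum over a normal subgroup. -/
theorem twist_sum (N : Subgroup G) [hN : N.Normal] [Fintype N] {θ : N → ℂ}
    (hinv : ∀ (g : G) (n : N), θ ⟨g * n * g⁻¹, hN.conj_mem n n.2 g⟩ = θ n)
    (C : Subgroup G) (hNC : N ≤ C) {α : C → ℂ} (hα : IsIrrCharacter C α) (x : C) :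
    (∑ n : N, conj (θ n) * α (x * ⟨n, hNC n.2⟩)) * α 1 =
      α x * ∑ n : N, conj (θ n) * α ⟨n, hNC n.2⟩ := by
  refine H591.Reynolds.sum_weight_mul_one hα (Subgroup.inclusion hNC) (fun n => conj (θ n))
    (fun h => (MulAut.conjNormal (h : G) : N ≃* N).toEquiv) (fun h n => ?_) (fun h n => ?_) x
  · apply Subtype.ext
    show (((MulAut.conjNormal (h : G) : N ≃* N) n : N) : G) = h * n * (h : G)⁻¹
    rw [MulAut.conjNormal_apply]
  · show conj (θ (MulAut.conjNormal (h : G) n)) = conj (θ n)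
    rw [← hinv h n]
    congr 2

/-- A character of `C ≥ N` without constituent `θ` on `N` is killed by the idempotent of `θ`. -/
theorem twist_sum_eq_zero [Finite G] (N : Subgroup G) [hN : N.Normal] [Fintype N] {θ : N → ℂ}
    (hθ : IsIrrCharacter N θ)
    (hinv : ∀ (g : G) (n : N), θ ⟨g * n * g⁻¹, hN.conj_mem n n.2 g⟩ = θ n)
    (C : Subgroup G) (hNC : N ≤ C) {β : C → ℂ} (hβ : IsCharacter C β)
    (h0 : classInner (fun n : N => β ⟨n, hNC n.2⟩) θ = 0) (x : C) :
    ∑ n : N, conj (θ n) * β (x * ⟨n, hNC n.2⟩) = 0 := by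
  classical
  have := Fintype.ofFinite C
  have := finite_irr (G := C)
  have := Fintype.ofFinite (IrrCharacter C)
  obtain ⟨m, hm⟩ := isCharacter_iff.1 hβ
  have hval : ∀ c : C, β c = ∑ α : IrrCharacter C, (m α : ℂ) * (α : C → ℂ) c := by
    intro c
    have := congrFun hm c
    rw [Finset.sum_apply] at this
    rw [this]
    exact Finset.sum_congr rfl fun θ _ => by rw [Pi.smul_apply, nsmul_eq_mul]
  have hnat : ∀ α : IrrCharacter C, ∃ k : ℕ,
      classInner (fun n : N => (α : C → ℂ) ⟨n, hNC n.2⟩) θ = k := fun α =>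
    classInner_isNat (isCharacter_comp (Subgroup.inclusion hNC) (isIrr_isCharacter α.2))
      (isIrr_isCharacter hθ)
  choose k hk using hnat
  have h1 : ((∑ α : IrrCharacter C, m α * k α : ℕ) : ℂ) = 0 := by
    rw [← h0]
    have e1 : (fun n : N => β ⟨n, hNC n.2⟩) =
        ∑ α : IrrCharacter C, (m α : ℂ) • (fun n : N => (α : C → ℂ) ⟨n, hNC n.2⟩) := by
      funext n
      rw [Finset.sum_apply, hval]
      rfl
    rw [e1, classInner_sum_left]
    push_cast
    refine Finset.sum_congr rfl fun α _ => ?_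
    rw [classInner_smul_left, hk]
  have h2 : ∑ α : IrrCharacter C, m α * k α = 0 := by exact_mod_cast h1
  have h3 := fun α => (Finset.sum_eq_zero_iff.1 h2) α (Finset.mem_univ α)
  have h4 : ∑ n : N, conj (θ n) * β (x * ⟨n, hNC n.2⟩) =
      ∑ α : IrrCharacter C, (m α : ℂ) *
        ∑ n : N, conj (θ n) * (α : C → ℂ) (x * ⟨n, hNC n.2⟩) := by
    simp only [hval, Finset.mul_sum]
    rw [Finset.sum_comm]
    refine Finset.sum_congr rfl fun α _ => Finset.sum_congr rfl fun n _ => ?_
    ring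
  rw [h4]
  refine Finset.sum_eq_zero fun α _ => ?_
  rcases Nat.mul_eq_zero.1 (h3 α) with h5 | h5
  · rw [h5, Nat.cast_zero, zero_mul]
  · have h6 := twist_sum N hinv C hNC α.2 x
    have h7 := hk α
    rw [h5, Nat.cast_zero, classInner_def] at h7
    have h8 : ∑ n : N, conj (θ n) * (α : C → ℂ) ⟨n, hNC n.2⟩ = 0 := by
      rcases mul_eq_zero.1 h7 with h9 | h9
      · exact absurd h9 (inv_ne_zero card_ne_zero_complex)
      · rw [← h9]
        exact Finset.sum_congr rfl fun n _ => mul_comm _ _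
    rw [h8, mul_zero] at h6
    rw [(mul_eq_zero.1 h6).resolve_right (isIrr_apply_one_ne_zero α.2), mul_zero]

/-- Multiplying by an element of a normal `p'`-subgroup does not change `p`-singularity. -/
theorem dvd_orderOf_mul [Finite G] {p : ℕ} [Fact p.Prime] (N : Subgroup G) [N.Normal]
    (hN : ¬ p ∣ Nat.card N) {x : G} (hx : p ∣ orderOf x) (n : N) : p ∣ orderOf (x * n) := by
  have hp : p.Prime := Fact.out
  have h1 : (QuotientGroup.mk (x * n) : G ⧸ N) = QuotientGroup.mk x := by
    rw [QuotientGroup.mk_mul, (QuotientGroup.eq_one_iff (n : G)).2 n.2, mul_one]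
  have h2 : orderOf (QuotientGroup.mk x : G ⧸ N) ∣ orderOf (x * n) := by
    rw [← h1]
    exact orderOf_map_dvd (QuotientGroup.mk' N) (x * n)
  refine dvd_trans ?_ h2
  have h3 : x ^ orderOf (QuotientGroup.mk x : G ⧸ N) ∈ N := by
    rw [← QuotientGroup.eq_one_iff, QuotientGroup.mk_pow, pow_orderOf_eq_one]
  have h4 : orderOf x ∣ orderOf (QuotientGroup.mk x : G ⧸ N) * Nat.card N := by
    apply orderOf_dvd_of_pow_eq_one
    rw [pow_mul]
    have := pow_card_eq_one' (G := N) (x := ⟨_, h3⟩)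
    exact congrArg Subtype.val this
  exact ((hp.dvd_mul.1 (hx.trans h4)).resolve_right hN)

/-- The case of an invariant character. -/
theorem pos_invariant [Fintype G] {p : ℕ} [Fact p.Prime] (N : Subgroup G) [hN : N.Normal]
    [Fintype N] (hNp : ¬ p ∣ Nat.card N) (θ : IrrCharacter N)
    (hinv : ∀ (g : G) (n : N), (θ : N → ℂ) ⟨g * n * g⁻¹, hN.conj_mem n n.2 g⟩ = (θ : N → ℂ) n)
    {β : G → ℂ} (hcl : IsClassFunction G β) (hvan : Van p β) (hpos : Pos p β)
    (B : Set (IrrCharacter G))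
    (hB : ∀ χ : IrrCharacter G, χ ∈ B ↔ classInner (fun n : N => (χ : G → ℂ) n) (θ : N → ℂ) ≠ 0) :
    (∃ k : ℕ, ∑ᶠ χ ∈ B, (χ : G → ℂ) 1 * classInner β (χ : G → ℂ) = k) ∧
      (∑ᶠ χ ∈ B, (χ : G → ℂ) 1 * classInner β (χ : G → ℂ) = 0 →
        ∀ χ ∈ B, classInner β (χ : G → ℂ) = 0) := by
  classical
  have := finite_irr (G := G)
  have := Fintype.ofFinite (IrrCharacter G)
  have hp : p.Prime := Fact.out
  obtain ⟨d, hd0, hd⟩ := isIrr_apply_one θ.2
  -- the value of the sum
  have hsum : ∑ᶠ χ ∈ B, (χ : G → ℂ) 1 * classInner β (χ : G → ℂ) =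
      (θ : N → ℂ) 1 * classInner (res N β) (θ : N → ℂ) := by
    rw [finsum_mem_irr, ← classInner_indFun_right N (θ : N → ℂ) hcl,
      classInner_eq_sum hcl (isClassFunction_indFun N (θ : N → ℂ)), Finset.mul_sum]
    refine Finset.sum_congr rfl fun χ _ => ?_
    have h1 : conj (classInner (indFun N (θ : N → ℂ)) (χ : G → ℂ)) =
        classInner (fun n : N => (χ : G → ℂ) n) (θ : N → ℂ) := by
      rw [classInner_indFun_left N (θ : N → ℂ) (isIrr_isClassFunction χ.2), classInner_conj_symm]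
      rfl
    rw [h1]
    split_ifs with h
    · have h2 := S4492.restrict_eq_smul N χ.2 θ.2 hinv ((hB χ).1 h)
      have h3 := congrFun h2 1
      simp only [Pi.smul_apply, smul_eq_mul, Subgroup.coe_one] at h3
      rw [h3]
      ring
    · have h4 : classInner (fun n : N => (χ : G → ℂ) n) (θ : N → ℂ) = 0 := by
        by_contra h5
        exact h ((hB χ).2 h5)
      rw [h4, mul_zero, mul_zero]
  obtain ⟨k, hk⟩ := classInner_isNat (hpos N hNp) (isIrr_isCharacter θ.2)
  refine ⟨⟨d * k, by rw [hsum, hk, hd, Nat.cast_mul]⟩, fun h0 χ hχ => ?_⟩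
  have h1 : classInner (res N β) (θ : N → ℂ) = 0 := by
    rw [hsum] at h0
    exact (mul_eq_zero.1 h0).resolve_left (isIrr_apply_one_ne_zero θ.2)
  -- the idempotent of `θ` kills `β`
  have h2 : ∀ x : G, ∑ n : N, conj ((θ : N → ℂ) n) * β (x * n) = 0 := by
    intro x
    by_cases hx : p ∣ orderOf x
    · refine Finset.sum_eq_zero fun n _ => ?_
      rw [hvan _ (dvd_orderOf_mul N hNp hx n), mul_zero]
    · let C : Subgroup G := N ⊔ Subgroup.zpowers x
      have hNC : N ≤ C := le_sup_left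
      have hxC : x ∈ C := (le_sup_right : Subgroup.zpowers x ≤ C) (Subgroup.mem_zpowers x)
      have hC : ¬ p ∣ Nat.card C := by
        intro h
        have h3 := h.trans (Lib.Cores.card_sup_dvd N (Subgroup.zpowers x) hN)
        rw [Nat.card_zpowers] at h3
        rcases hp.dvd_mul.1 h3 with h4 | h4
        · exact hNp h4
        · exact hx h4
      exact twist_sum_eq_zero N θ.2 hinv C hNC (hpos C hC) h1 ⟨x, hxC⟩
  -- the idempotent of `θ` fixes `χ`
  have hne := (hB χ).1 hχ
  have h3 : ∀ x : G, (∑ n : N, conj ((θ : N → ℂ) n) * (χ : G → ℂ) (x * n)) * (χ : G → ℂ) 1 =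
      (χ : G → ℂ) x * ∑ n : N, conj ((θ : N → ℂ) n) * (χ : G → ℂ) n := by
    intro x
    refine H591.Reynolds.sum_weight_mul_one χ.2 N.subtype (fun n => conj ((θ : N → ℂ) n))
      (fun h => (MulAut.conjNormal h : N ≃* N).toEquiv) (fun h n => ?_) (fun h n => ?_) x
    · show (((MulAut.conjNormal h : N ≃* N) n : N) : G) = h * n * h⁻¹
      rw [MulAut.conjNormal_apply]
    · show conj ((θ : N → ℂ) (MulAut.conjNormal h n)) = conj ((θ : N → ℂ) n)
      rw [← hinv h n]
      congr 2
  set c : ℂ := ∑ n : N, conj ((θ : N → ℂ) n) * (χ : G → ℂ) n with hc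
  have hc0 : c ≠ 0 := by
    intro h4
    apply hne
    rw [classInner_def]
    have h5 : ∑ n : N, (χ : G → ℂ) n * conj ((θ : N → ℂ) n) = 0 := by
      rw [← h4]
      exact Finset.sum_congr rfl fun n _ => mul_comm _ _
    rw [h5, mul_zero]
  have h4 : (∑ x : G, β x * conj ((χ : G → ℂ) x)) * conj c = 0 := by
    calc (∑ x : G, β x * conj ((χ : G → ℂ) x)) * conj c
        = ∑ x : G, β x * conj ((χ : G → ℂ) x * c) := by
          rw [Finset.sum_mul]
          exact Finset.sum_congr rfl fun x _ => by rw [map_mul]; ring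
      _ = ∑ x : G, ∑ n : N, β x * ((θ : N → ℂ) n * conj ((χ : G → ℂ) (x * n))) *
            conj ((χ : G → ℂ) 1) := by
          refine Finset.sum_congr rfl fun x _ => ?_
          rw [← h3 x, map_mul, map_sum, ← mul_assoc, Finset.mul_sum, Finset.sum_mul]
          refine Finset.sum_congr rfl fun n _ => ?_
          rw [map_mul, Complex.conj_conj]
      _ = ∑ n : N, ∑ x : G, β x * ((θ : N → ℂ) n * conj ((χ : G → ℂ) (x * n))) *
            conj ((χ : G → ℂ) 1) := Finset.sum_comm
      _ = ∑ n : N, ∑ y : G, β (y * (n : G)⁻¹) * ((θ : N → ℂ) n * conj ((χ : G → ℂ) y)) *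
            conj ((χ : G → ℂ) 1) := by
          refine Finset.sum_congr rfl fun n _ => ?_
          refine Fintype.sum_equiv (Equiv.mulRight (n : G)) _ _ fun x => ?_
          simp only [Equiv.coe_mulRight, mul_inv_cancel_right]
      _ = ∑ y : G, (∑ n : N, (θ : N → ℂ) n * β (y * (n : G)⁻¹)) *
            (conj ((χ : G → ℂ) y) * conj ((χ : G → ℂ) 1)) := by
          rw [Finset.sum_comm]
          refine Finset.sum_congr rfl fun y _ => ?_
          rw [Finset.sum_mul]
          exact Finset.sum_congr rfl fun n _ => by ring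
      _ = 0 := by
          refine Finset.sum_eq_zero fun y _ => ?_
          have h5 : ∑ n : N, (θ : N → ℂ) n * β (y * (n : G)⁻¹) =
              ∑ n : N, conj ((θ : N → ℂ) n) * β (y * n) := by
            refine Fintype.sum_equiv (Equiv.inv N) _ _ fun n => ?_
            simp only [Equiv.inv_apply]
            rw [isCharacter_apply_inv (isIrr_isCharacter θ.2), Complex.conj_conj]
            rfl
          rw [h5, h2, zero_mul]
  rw [classInner_def]
  rcases mul_eq_zero.1 h4 with h5 | h5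
  · rw [h5, mul_zero]
  · exact absurd ((map_eq_zero _).1 h5) hc0

/-! ### The Clifford correspondence with the blocks of a normal `p'`-subgroup -/

theorem mem_blockOf_iff [Finite G] {p : ℕ} {M : Ideal AlgInt} (hM : IsPModular p M)
    {N : Subgroup G} (hNp : ¬ p ∣ Nat.card N) (θ θ' : IrrCharacter N) [M.IsPrime] :
    θ' ∈ (blockOf M (θ : N → ℂ) : Set (IrrCharacter N)) ↔ θ' = θ := by
  constructor
  · intro h
    exact Subtype.ext (Height.eq_of_sameBlock hM hNp θ.2 θ'.2 h).symm
  · rintro rfl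
    exact Blocks.Basic.mem_blockOf_self _

/-- The inertia group of `θ` is the stabilizer of its block. -/
theorem isStab_inertia [Finite G] {p : ℕ} {M : Ideal AlgInt} (hM : IsPModular p M)
    {N : Subgroup G} [hN : N.Normal] (hNp : ¬ p ∣ Nat.card N) (θ : IrrCharacter N) [M.IsPrime] :
    H591.Reynolds.IsStab (blockOf M (θ : N → ℂ) : Set (IrrCharacter N))
      (OddOrderCharacters.PF9.CliffGen.inertia N (θ : N → ℂ)) := by
  intro g
  rw [OddOrderCharacters.PF9.CliffGen.mem_inertia']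
  constructor
  · intro h θ₁ hθ₁ θ' hθ'
    rw [mem_blockOf_iff hM hNp] at hθ₁ ⊢
    subst hθ₁
    apply Subtype.ext
    funext n
    rw [hθ' n, h n]
  · intro h
    have h1 := h θ ((mem_blockOf_iff hM hNp θ θ).2 rfl) (Blocks.Covering.conjIrr N g θ)
      (fun n => by rw [Blocks.Covering.conjIrr_apply, H591.Reynolds.conjNormal_eq])
    rw [mem_blockOf_iff hM hNp] at h1
    intro n
    have h2 : (Blocks.Covering.conjIrr N g θ : N → ℂ) n = (θ : N → ℂ) n := by rw [h1]
    rw [Blocks.Covering.conjIrr_apply, H591.Reynolds.conjNormal_eq] at h2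
    exact h2

theorem van_res {p : ℕ} {β : G → ℂ} (h : Van p β) (T : Subgroup G) : Van p (res T β) := by
  intro t ht
  exact h t (by rwa [Subgroup.orderOf_coe])

theorem pos_res {p : ℕ} {β : G → ℂ} (h : Pos p β) (T : Subgroup G) : Pos p (res T β) := by
  intro C hC
  have e := C.equivMapOfInjective T.subtype T.subtype_injective
  have h1 := h (C.map T.subtype) (by
    rwa [Nat.card_congr (C.equivMapOfInjective T.subtype T.subtype_injective).toEquiv.symm])
  exact isCharacter_comp
    (C.equivMapOfInjective T.subtype T.subtype_injective).toMonoidHom h1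

theorem pos_block (p : ℕ) [Fact p.Prime] (M : Ideal AlgInt) (hM : IsPModular p M) (n : ℕ) :
    ∀ (G : Type u) [Group G] [Fintype G], Nat.card G ≤ n → IsPSolvable p G →
      ∀ (β : G → ℂ), IsClassFunction G β → Van p β → Pos p β →
      ∀ (B : Set (IrrCharacter G)), IsPBlock M B →
      (∃ k : ℕ, ∑ᶠ χ ∈ B, (χ : G → ℂ) 1 * classInner β (χ : G → ℂ) = k) ∧
      (∑ᶠ χ ∈ B, (χ : G → ℂ) 1 * classInner β (χ : G → ℂ) = 0 →
        ∀ χ ∈ B, classInner β (χ : G → ℂ) = 0) := by
  classical
  have hp : p.Prime := Fact.out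
  have hprime : M.IsPrime := Blocks.Local.isPrime_of_isPModular hM
  induction n with
  | zero =>
    intro G _ _ h
    exact absurd h (Nat.not_le.2 Nat.card_pos)
  | succ n ih =>
    intro G _ _ hcard hsolv β hcl hvan hpos B hB
    obtain ⟨N, hNdef⟩ : ∃ N : Subgroup G, N = pPrimeCore p G := ⟨_, rfl⟩
    have hN : N.Normal := hNdef ▸ Lib.Cores.pPrimeCore_normal p
    have hNp : ¬ p ∣ Nat.card N := by
      rw [hNdef]
      exact hp.coprime_iff_not_dvd.1 (Lib.Cores.pPrimeCore_coprime (G := G) p).symm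
    have := Fintype.ofFinite N
    obtain ⟨χ, hχ⟩ := Blocks.Basic.isPBlock_nonempty hB
    obtain ⟨θ, hθ⟩ := Blocks.Fong.exists_constituent N χ
    by_cases hinv : ∀ (g : G) (n : N),
        (θ : N → ℂ) ⟨g * n * g⁻¹, hN.conj_mem n n.2 g⟩ = (θ : N → ℂ) n
    · obtain ⟨B₀, hB₀, hmem, -, -⟩ := S4492.result p M hM hsolv N hNdef θ hinv
      have hBB : B = B₀ := Blocks.Basic.isPBlock_eq_of_mem hB hB₀ hχ ((hmem χ).2 hθ)
      subst hBB
      exact pos_invariant N hNp θ hinv hcl hvan hpos B hmem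
    · obtain ⟨T, hTdef⟩ : ∃ T : Subgroup G,
        T = OddOrderCharacters.PF9.CliffGen.inertia N (θ : N → ℂ) := ⟨_, rfl⟩
      obtain ⟨b, hbdef⟩ : ∃ b : Set (IrrCharacter N), b = blockOf M (θ : N → ℂ) := ⟨_, rfl⟩
      have hb : IsPBlock M b := hbdef ▸ Blocks.Basic.isPBlock_blockOf θ
      have hbs : ∀ θ', θ' ∈ b ↔ θ' = θ := by
        intro θ'
        rw [hbdef]
        exact mem_blockOf_iff hM hNp θ θ'
      have hst : H591.Reynolds.IsStab b T := by
        rw [hTdef, hbdef]
        exact isStab_inertia hM hNp θ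
      have hNT : N ≤ T := by
        rw [hTdef]
        exact OddOrderCharacters.PF9.CliffGen.le_inertia (isIrr_isClassFunction θ.2)
      have hTin : ∀ g, OddOrderCharacters.NormalInduced.conjFn N (θ : N → ℂ) g = θ → g ∈ T := by
        intro g hg
        rw [hTdef]
        exact hg
      have hTtop : T ≠ ⊤ := by
        intro h
        apply hinv
        intro g
        have h1 : g ∈ T := h ▸ Subgroup.mem_top g
        rw [hTdef] at h1
        exact OddOrderCharacters.PF9.CliffGen.mem_inertia'.1 h1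
      have hTcard : Nat.card T ≤ n := by
        have h1 : Nat.card T < Nat.card G := by
          refine lt_of_le_of_ne (Nat.le_of_dvd Nat.card_pos (Subgroup.card_subgroup_dvd_card T)) ?_
          intro h
          exact hTtop (Subgroup.eq_top_of_card_eq T h)
        omega
      have := Fintype.ofFinite T
      obtain ⟨B', hB', ⟨ψ₀, hψ₀, θ₀, hθ₀, h₀⟩, hind⟩ :=
        (S4435.result p M hM N b hb T hst hNT).2.2 B hB ⟨χ, hχ, θ, (hbs θ).2 rfl, hθ⟩
      have hmem := H591.ReynoldsMain.mem_induced_iff p hM hb hst hNT hB' hψ₀ hθ₀ h₀ hind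
      have hirr : ∀ ψ ∈ B', IsIrrCharacter G (indFun T (ψ : T → ℂ)) := fun ψ hψ =>
        (H591.ReynoldsMain.isInducedBlock_ind p hM hb hst hNT hB' hψ₀ hθ₀ h₀ hψ).1
      have hover : ∀ ψ ∈ B', classInner (OddOrderCharacters.PF9.CliffGen.resTo hNT
          ((ψ : IrrCharacter T) : T → ℂ)) (θ : N → ℂ) ≠ 0 := by
        intro ψ hψ
        obtain ⟨θ', hθ'⟩ := H591.Reynolds.exists_over hNT ψ.2
        have h1 := H591.ReynoldsMain.over_of_mem p hM hb hst hNT hB' hψ₀ hθ₀ h₀ hψ hθ'
        rw [(hbs θ').1 h1] at hθ'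
        exact hθ'
      let e : IrrCharacter T → IrrCharacter G := fun ψ =>
        if h : IsIrrCharacter G (indFun T (ψ : T → ℂ)) then ⟨_, h⟩ else ⟨1, isIrr_one⟩
      have he : ∀ ψ ∈ B', (e ψ : G → ℂ) = indFun T (ψ : T → ℂ) := by
        intro ψ hψ
        simp only [e, dif_pos (hirr ψ hψ)]
      have hbij : Set.BijOn e B' B := by
        refine ⟨fun ψ hψ => (hmem _).2 ⟨ψ, hψ, he ψ hψ⟩, fun ψ hψ ψ' hψ' h => ?_, fun χ' hχ' => ?_⟩
        · apply Subtype.ext
          refine H591.Cliff.ind_inj θ.2 hTin hNT ψ.2 ψ'.2 (hover ψ hψ) (hover ψ' hψ') ?_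
          rw [← he ψ hψ, ← he ψ' hψ', h]
        · obtain ⟨ψ, hψ, h1⟩ := (hmem χ').1 hχ'
          exact ⟨ψ, hψ, Subtype.ext (by rw [he ψ hψ, h1])⟩
      have hinner : ∀ ψ ∈ B', classInner β (e ψ : G → ℂ) =
          classInner (res T β) ((ψ : IrrCharacter T) : T → ℂ) := by
        intro ψ hψ
        rw [he ψ hψ, classInner_indFun_right T _ hcl]
      have hsum : ∑ᶠ χ ∈ B, (χ : G → ℂ) 1 * classInner β (χ : G → ℂ) =
          (T.index : ℂ) * ∑ᶠ ψ ∈ B', (ψ : T → ℂ) 1 * classInner (res T β) (ψ : T → ℂ) := by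
        have := finite_irr (G := T)
        rw [mul_finsum_mem]
        symm
        refine finsum_mem_eq_of_bijOn e hbij fun ψ hψ => ?_
        rw [hinner ψ hψ, he ψ hψ, indFun_apply_one, mul_assoc]
      obtain ⟨⟨k, hk⟩, h0⟩ := ih T hTcard (PLocal.PSolvable.isPSolvable_subgroup hsolv T)
        (res T β) (isClassFunction_res T hcl) (van_res hvan T) (pos_res hpos T) B' hB'
      refine ⟨⟨T.index * k, by rw [hsum, hk, Nat.cast_mul]⟩, fun h χ' hχ' => ?_⟩
      rw [hsum] at h
      have h1 := (mul_eq_zero.1 h).resolve_left (by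
        have : T.index ≠ 0 := Subgroup.index_ne_zero_of_finite
        exact_mod_cast this)
      obtain ⟨ψ, hψ, h2⟩ := hbij.2.2 hχ'
      rw [← h2, hinner ψ hψ]
      exact h0 h1 ψ hψ

end Cfsg.Agent.H592.Har
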