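import Cfsg.Agent.S4492
import Cfsg.Agent.S0887
import Cfsg.Agent.H591.ReynoldsMain
import Cfsg.Agent.CharactersDeep.CosetAverage
import Cfsg.Agent.CharactersDeep.FeitLinear

/-!
# Degrees over an invariant character of the `p'`-core of a `p`-solvable group

If `G` is `p`-solvable, `N = O_{p'}(G)` and `χ ∈ Irr(G)` lies over a `G`-invariant character of `N`,
then the exponent of `p` in `χ(1)` is at most that in `|P : Z(P)|`, `P` a Sylow `p`-subgroup.
-/

set_option autoImplicit false
open Cfsg

namespace Cfsg.Agent.H592.HeightInv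

open Cfsg.Agent Cfsg.Agent.Characters.Core Cfsg.Agent.OddOrderCharacters.IndRes

universe u

/-- Group theory: the inverse image `A` of the centralizer of `O_p(G/O_{p'}(G))`. -/
theorem exists_group_data {G : Type u} [Group G] [Finite G] (p : ℕ) [Fact p.Prime]
    (hsolv : IsPSolvable p G) :
    ∃ (A : Subgroup G), A.Normal ∧ pPrimeCore p G ≤ A ∧
      (∃ k, (pPrimeCore p G).relIndex A = p ^ k) ∧
      (∀ x ∈ A, ∀ y ∈ A, x * y * x⁻¹ * y⁻¹ ∈ pPrimeCore p G) ∧
      ∀ P : Sylow p G, Nat.card (Subgroup.center P) ∣ (pPrimeCore p G).relIndex A := by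
  classical
  have hp : p.Prime := Fact.out
  have hN : (pPrimeCore p G).Normal := Lib.Cores.pPrimeCore_normal p
  set N := pPrimeCore p G with hNdef
  let π := QuotientGroup.mk' N
  have hπ : Function.Surjective π := QuotientGroup.mk'_surjective N
  have hcore : pPrimeCore p (G ⧸ N) = ⊥ := Lib.Cores.pPrimeCore_quotient_pPrimeCore p
  have hsolv' : IsPSolvable p (G ⧸ N) := Lib.PSolvable.IsPSolvable_of_surjective p hsolv π hπ
  have hcent := Lib.PSolvable.centralizer_pCore_le_of_pSolvable p hsolv' hcore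
  have hOp : IsPGroup p (pCore p (G ⧸ N)) := Lib.Cores.pCore_isPGroup p
  have hOpn : (pCore p (G ⧸ N)).Normal := Lib.Cores.pCore_normal p
  set Z : Subgroup (G ⧸ N) := Subgroup.centralizer (pCore p (G ⧸ N) : Set (G ⧸ N)) with hZ
  have hZn : Z.Normal := Subgroup.normal_centralizer
  have hZp : IsPGroup p Z := hOp.to_le hcent
  have hNker : ∀ n ∈ N, π n = 1 := fun n hn => (QuotientGroup.eq_one_iff n).2 hn
  have hNA : N ≤ Z.comap π := by
    intro n hn
    show π n ∈ Z
    rw [hNker n hn]
    exact Subgroup.one_mem _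
  have h2 : N.relIndex (Z.comap π) = Nat.card Z := by
    have h1 : N = (⊥ : Subgroup (G ⧸ N)).comap π := by
      rw [MonoidHom.comap_bot]
      exact (QuotientGroup.ker_mk' N).symm
    have h2 : N.relIndex (Z.comap π) = (⊥ : Subgroup (G ⧸ N)).relIndex Z := by
      refine (congrArg (fun K : Subgroup G => K.relIndex (Z.comap π)) h1).trans ?_
      show ((⊥ : Subgroup (G ⧸ N)).comap π).relIndex (Z.comap π) = _
      rw [Subgroup.relIndex_comap, Subgroup.map_comap_eq_self_of_surjective hπ]
    rw [h2, Subgroup.relIndex_bot_left]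
  refine ⟨Z.comap π, inferInstance, hNA, ?_, ?_, ?_⟩
  · obtain ⟨k, hk⟩ := IsPGroup.iff_card.1 hZp
    exact ⟨k, by rw [h2, hk]⟩
  · intro x hx y hy
    have hx' : π x ∈ Z := hx
    have hy' : π y ∈ Z := hy
    have h3 : π y * π x = π x * π y := Subgroup.mem_centralizer_iff.1 hx' (π y) (hcent hy')
    rw [← QuotientGroup.eq_one_iff]
    show π (x * y * x⁻¹ * y⁻¹) = 1
    rw [map_mul, map_mul, map_mul, map_inv, map_inv, ← h3]
    group
  · intro P
    rw [h2]
    -- the image of `P` contains `O_p`
    let P' : Sylow p (G ⧸ N) := P.mapSurjective hπ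
    have hP' : pCore p (G ⧸ N) ≤ (P' : Subgroup (G ⧸ N)) := by
      exact Lib.Cores.pCore_le_sylow P'
    have hmem : ∀ z : Subgroup.center P, π ((z : P) : G) ∈ Z := by
      intro z
      rw [hZ, Subgroup.mem_centralizer_iff]
      intro y hy
      have hy' : y ∈ (P : Subgroup G).map π := hP' hy
      obtain ⟨x, hx, rfl⟩ := hy'
      have h3 := Subgroup.mem_center_iff.1 z.2 ⟨x, hx⟩
      have h4 := congrArg (fun w : P => π (w : G)) h3
      simpa using h4
    let f : Subgroup.center P →* Z :=
      { toFun := fun z => ⟨π ((z : P) : G), hmem z⟩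
        map_one' := by
          apply Subtype.ext
          show π _ = 1
          simp
        map_mul' := fun a b => by
          apply Subtype.ext
          show π _ = π _ * π _
          rw [← map_mul]
          rfl }
    apply Subgroup.card_dvd_of_injective f
    rw [← MonoidHom.ker_eq_bot_iff, eq_bot_iff]
    intro z hz
    have h3 : π ((z : P) : G) = 1 := congrArg Subtype.val hz
    have h4 : ((z : P) : G) ∈ N := (QuotientGroup.eq_one_iff _).1 h3
    rw [Subgroup.mem_bot]
    apply Subtype.ext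
    apply Subtype.ext
    show ((z : P) : G) = 1
    have h5 : (N ⊓ (P : Subgroup G)) = ⊥ := by
      apply Subgroup.inf_eq_bot_of_coprime
      have h6 : ¬ p ∣ Nat.card N := by
        have h7 := Lib.Cores.pPrimeCore_coprime (G := G) p
        exact (hp.coprime_iff_not_dvd.1 h7.symm)
      obtain ⟨k, hk⟩ := IsPGroup.iff_card.1 P.2
      rw [hk]
      exact Nat.Coprime.pow_right k ((hp.coprime_iff_not_dvd.2 h6).symm)
    have h6 : ((z : P) : G) ∈ N ⊓ (P : Subgroup G) := ⟨h4, (z : P).2⟩
    rw [h5] at h6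
    exact h6

/-- Over an invariant character of the `p'`-core the exponent of `p` in the degrees is at most that
in the index of the centre of a Sylow `p`-subgroup. -/
theorem factorization_degree_le {G : Type u} [Group G] [Fintype G] (p : ℕ) [Fact p.Prime]
    (hsolv : IsPSolvable p G) (N : Subgroup G) [hN : N.Normal] [Fintype N]
    (hNdef : N = pPrimeCore p G) (θ : IrrCharacter N)
    (hinv : ∀ (g : G) (n : N), (θ : N → ℂ) ⟨g * n * g⁻¹, hN.conj_mem n n.2 g⟩ = (θ : N → ℂ) n)
    (χ : IrrCharacter G) (hχ : classInner (fun n : N => (χ : G → ℂ) n) (θ : N → ℂ) ≠ 0)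
    (P : Sylow p G) :
    (charDegree (χ : G → ℂ)).factorization p ≤ ((Subgroup.center P).index).factorization p := by
  classical
  have hp : p.Prime := Fact.out
  obtain ⟨A, hAn, hNA, ⟨k, hk⟩, hcomm, hcard⟩ := exists_group_data (G := G) p hsolv
  rw [← hNdef] at hNA hk hcomm
  have hcardP := hcard P
  rw [← hNdef] at hcardP
  have hNp : ¬ p ∣ Nat.card N := by
    have h7 := Lib.Cores.pPrimeCore_coprime (G := G) p
    rw [← hNdef] at h7
    exact (hp.coprime_iff_not_dvd.1 h7.symm)
  -- the canonical extension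
  obtain ⟨ψ, hψ, hres, -⟩ := S4492.exists_canonical (p := p) N A hNA hNp ⟨k, hk⟩ (θ : N → ℂ) θ.2 hinv
  -- a constituent of `χ` on `A`
  have : Fintype A := Fintype.ofFinite A
  obtain ⟨η, hη⟩ := Blocks.Fong.exists_constituent A χ
  have hχN := S4492.restrict_eq_smul N χ.2 θ.2 hinv hχ
  obtain ⟨θ', hθ'⟩ := H591.Reynolds.exists_over hNA η.2
  have h1 : classInner (res N (χ : G → ℂ)) (θ' : N → ℂ) ≠ 0 :=
    H591.Reynolds.over_trans hNA (isIrr_isCharacter χ.2) η.2 θ'.2 hη hθ'
  have h2 : θ' = θ := by
    by_contra hne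
    apply h1
    have h3 : res N (χ : G → ℂ) = fun n : N => (χ : G → ℂ) n := rfl
    rw [h3, hχN, classInner_smul_left]
    have h4 : classInner (θ : N → ℂ) (θ' : N → ℂ) = 0 :=
      classInner_irr_ne θ.2 θ'.2 fun h => hne (Subtype.ext h.symm)
    rw [h4, mul_zero]
  subst h2
  -- Gallagher
  have : Fintype (N.subgroupOf A) := Fintype.ofFinite _
  have h3 : (fun n : N.subgroupOf A => ψ n) =
      OddOrderCharacters.PF9.CliffGen.down N A (θ' : N → ℂ) := by
    funext n
    exact hres ⟨((n : A) : G), Subgroup.mem_subgroupOf.1 n.2⟩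
  have h4 : classInner (fun n : N.subgroupOf A => (η : A → ℂ) n)
      (fun n : N.subgroupOf A => ψ n) ≠ 0 := by
    rw [h3]
    have h5 := H591.Cliff.classInner_down_res hNA (η : A → ℂ) (θ' : N → ℂ)
    exact fun h => hθ' (h5.symm.trans h)
  obtain ⟨β, hβ, hβN, hηβ⟩ := CharactersDeep.CosetAverage.exists_irr_mul (N.subgroupOf A) ψ hψ
    (by rw [h3]; exact H591.Cliff.isIrr_down hNA θ'.2) (η : A → ℂ) η.2 h4
  have h5 : β 1 = 1 := by
    refine CharactersDeep.FeitLinear.apply_one_eq_one (N.subgroupOf A) (fun x y => ?_) hβ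
      fun k hk => ?_
    · rw [Subgroup.mem_subgroupOf]
      exact hcomm x x.2 y y.2
    · have h6 := hβN ⟨k, hk⟩ 1
      simpa using h6
  have h6 : (η : A → ℂ) 1 = (θ' : N → ℂ) 1 := by
    rw [hηβ, Pi.mul_apply, h5, mul_one]
    exact hres 1
  -- degrees
  have h7 : charDegree (η : A → ℂ) = charDegree (θ' : N → ℂ) := by
    apply Blocks.Basic.charDegree_of_eq
    rw [h6]
    exact Blocks.Basic.irr_one_eq_charDegree θ'.2
  have h8 := S0887.result A (χ : G → ℂ) χ.2 (η : A → ℂ) η.2 hη (charDegree (χ : G → ℂ))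
    (charDegree (η : A → ℂ)) (Blocks.Basic.irr_one_eq_charDegree χ.2)
    (Blocks.Basic.irr_one_eq_charDegree η.2)
  have h9 : ¬ p ∣ charDegree (η : A → ℂ) := by
    rw [h7]
    exact fun h => hNp (h.trans (S4492.degree_dvd_card θ'.2
      (Blocks.Basic.irr_one_eq_charDegree θ'.2)))
  obtain ⟨⟨m, hm⟩, h10⟩ := h8
  have hη0 : 0 < charDegree (η : A → ℂ) := Blocks.Basic.charDegree_pos η.2
  rw [hm, Nat.mul_div_cancel_left _ hη0] at h10
  have hA0 : A.index ≠ 0 := Subgroup.index_ne_zero_of_finite
  have hm0 : m ≠ 0 := by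
    rintro rfl
    rw [zero_dvd_iff] at h10
    exact hA0 h10
  have h11 : (charDegree (χ : G → ℂ)).factorization p ≤ A.index.factorization p := by
    rw [hm, Nat.factorization_mul hη0.ne' hm0, Finsupp.add_apply,
      Nat.factorization_eq_zero_of_not_dvd h9, zero_add]
    exact (Nat.factorization_le_iff_dvd hm0 hA0).2 h10 p
  refine h11.trans ?_
  -- the indices
  have e1 : (Nat.card G).factorization p = (Nat.card P).factorization p := by
    rw [Sylow.card_eq_multiplicity, Nat.factorization_pow, Finsupp.smul_apply,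
      Nat.Prime.factorization_self hp, smul_eq_mul, mul_one]
  have e2 : N.relIndex A * A.index = N.index := Subgroup.relIndex_mul_index hNA
  have e3 : Nat.card N * N.index = Nat.card G := Subgroup.card_mul_index N
  have e4 : Nat.card (Subgroup.center P) * (Subgroup.center P).index = Nat.card P :=
    Subgroup.card_mul_index _
  have hN0 : Nat.card N ≠ 0 := Nat.card_pos.ne'
  have hr0 : N.relIndex A ≠ 0 := by
    rw [hk]
    exact pow_ne_zero _ hp.ne_zero
  have hz0 : Nat.card (Subgroup.center P) ≠ 0 := Nat.card_pos.ne'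
  have hzi0 : (Subgroup.center P).index ≠ 0 := Subgroup.index_ne_zero_of_finite
  have f1 : (Nat.card (Subgroup.center P)).factorization p ≤ (N.relIndex A).factorization p :=
    (Nat.factorization_le_iff_dvd hz0 hr0).2 hcardP p
  have f2 := congrArg (fun n : ℕ => n.factorization p) e4
  have f3 := congrArg (fun n : ℕ => n.factorization p) e3
  simp only [← e2] at f3
  simp only [Nat.factorization_mul hz0 hzi0, Nat.factorization_mul hN0 (mul_ne_zero hr0 hA0),
    Nat.factorization_mul hr0 hA0, Finsupp.add_apply,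
    Nat.factorization_eq_zero_of_not_dvd hNp] at f2 f3
  omega

end Cfsg.Agent.H592.HeightInv
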