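import Mathlib
import Cfsg.Prelude.Def_Blocks
import Cfsg.Agent.Characters.Core
import Cfsg.Agent.CharDeep.CliffordCorr
import Cfsg.Agent.Blocks.Basic
import Cfsg.Agent.Blocks.Local
import Cfsg.Agent.Blocks.Over
import Cfsg.Agent.Blocks.Covering
import Cfsg.Agent.Classification.QDW.WrDeg
import Cfsg.Agent.Lib.Cores
import Cfsg.Agent.H592.Defect
import Cfsg.Agent.S0193
import Cfsg.Agent.S0887
import Cfsg.Agent.S0912
import Cfsg.Agent.S0964
import Cfsg.Agent.S0968
import Cfsg.Agent.S0971

/-!
# Blocks over `P C_G(P)` for a normal `p`-subgroup `P` (helper592)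

`defect_iff` : `P` normal, `L = P C_G(P)`, `b` a block of `L` with defect group `P`, `T` its
stabilizer.  The induced block has defect group `P` iff `p ∤ [T : L]`.
-/

set_option autoImplicit false
open Cfsg

namespace Cfsg.Agent.H592.NormalCase

open Cfsg.Agent.Characters Cfsg.Agent.Characters.Core Cfsg.Agent.Blocks Cfsg.Agent.Blocks.Local
open Cfsg.Agent.Blocks.Covering (conjIrr conjIrr_apply sameBlock_conjIrr conjIrr_conjIrr
  conjIrr_one conjIrr_at_one)
open Cfsg.Agent.Classification.QDW.WrDeg (stab mem_stab degree_eq)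
open Cfsg.Agent.H592.Defect
open scoped ComplexConjugate

variable {G : Type*} [Group G]

/-- The product formula for `p`-adic valuations along a subgroup. -/
theorem factorization_card_eq [Finite G] (p : ℕ) (H : Subgroup G) :
    (Nat.card G).factorization p = H.index.factorization p + (Nat.card H).factorization p := by
  rw [← H.index_mul_card, Nat.factorization_mul H.index_ne_zero_of_finite Nat.card_pos.ne']
  rfl

theorem factorization_index_eq [Finite G] (p : ℕ) {H K : Subgroup G} (hHK : H ≤ K) :
    H.index.factorization p = (H.relIndex K).factorization p + K.index.factorization p := by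
  rw [← Subgroup.relIndex_mul_index hHK, Nat.factorization_mul _ K.index_ne_zero_of_finite]
  · rfl
  · exact (H.subgroupOf K).index_ne_zero_of_finite

/-- **Clifford, valuations.** -/
theorem factorization_degree [Fintype G] (p : ℕ) (N : Subgroup G) [N.Normal] [Fintype N]
    (χ : IrrCharacter G) (θ : IrrCharacter N)
    (h : classInner (fun n : N => (χ : G → ℂ) n) (θ : N → ℂ) ≠ 0) :
    ∃ e : ℕ, e ≠ 0 ∧ classInner (fun n : N => (χ : G → ℂ) n) (θ : N → ℂ) = e ∧
      (charDegree (χ : G → ℂ)).factorization p = e.factorization p +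
        (stab N (θ : N → ℂ)).index.factorization p +
        (charDegree (θ : N → ℂ)).factorization p := by
  obtain ⟨e, he⟩ := classInner_isNat (Clifford.isCharacter_restrict N (isIrr_isCharacter χ.2))
    (isIrr_isCharacter θ.2)
  have he0 : e ≠ 0 := by
    rintro rfl
    exact h (by rw [he]; simp)
  refine ⟨e, he0, he, ?_⟩
  have h1 := degree_eq N χ.2 θ.2 he he0
  rw [Basic.irr_one_eq_charDegree χ.2, Basic.irr_one_eq_charDegree θ.2] at h1
  have h2 : charDegree (χ : G → ℂ) =
      e * (stab N (θ : N → ℂ)).index * charDegree (θ : N → ℂ) := by exact_mod_cast h1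
  rw [h2, Nat.factorization_mul (mul_ne_zero he0 Subgroup.index_ne_zero_of_finite)
    (Basic.charDegree_pos θ.2).ne', Nat.factorization_mul he0
    Subgroup.index_ne_zero_of_finite]
  rfl

/-- `N` is contained in the stabilizer of a character of `N`. -/
theorem le_stab (N : Subgroup G) [N.Normal] {θ : N → ℂ} (hθ : IsIrrCharacter N θ) :
    N ≤ stab N θ := by
  intro n hn
  rw [mem_stab]
  funext x
  change θ (MulAut.conjNormal (n : G) x) = θ x
  have h1 : (MulAut.conjNormal (n : G) x : N) = ⟨n, hn⟩ * x * ⟨n, hn⟩⁻¹ := by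
    apply Subtype.ext
    simp
  rw [h1]
  exact isIrr_isClassFunction hθ _ _

theorem isInducedBlock_of_cover [Fintype G] (p : ℕ) [Fact p.Prime] {M : Ideal AlgInt}
    (hM : IsPModular p M) (P : Subgroup G) [P.Normal] (hP : IsPGroup p P) (L : Subgroup G)
    (hL : L = P ⊔ Subgroup.centralizer (P : Set G)) [Fintype L]
    (b : Set (IrrCharacter L)) (hb : IsPBlock M b) (B : Set (IrrCharacter G))
    (hB : IsPBlock M B) (h : ∃ χ ∈ B, ∃ θ ∈ b,
      classInner (fun n : L => (χ : G → ℂ) n) (θ : L → ℂ) ≠ 0) :
    IsInducedBlock M L b B := by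
  subst hL
  exact (Cfsg.Agent.S0971.result p M hM P hP b hb).2 B hB h

/-- The main result for normal `P`. -/
theorem defect_iff [Fintype G] (p : ℕ) [hp : Fact p.Prime] {M : Ideal AlgInt}
    (hM : IsPModular p M) (P : Subgroup G) [hPn : P.Normal] (hP : IsPGroup p P)
    (L : Subgroup G) (hL : L = P ⊔ Subgroup.centralizer (P : Set G)) [hLn : L.Normal] [Fintype L]
    (b : Set (IrrCharacter L)) (hb : IsPBlock M b)
    (hbP : IsDefectGroup p M b (P.subgroupOf L)) (B : Set (IrrCharacter G))
    (hind : IsInducedBlock M L b B) (T : Subgroup G)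
    (hT : ∀ g : G, g ∈ T ↔ ∀ θ ∈ b, conjIrr L g θ ∈ b) :
    IsDefectGroup p M B P ↔ ¬ p ∣ L.relIndex T := by
  classical
  have hprime : M.IsPrime := isPrime_of_isPModular hM
  have hB : IsPBlock M B := hind.2.1
  have hPL : P ≤ L := hL ▸ le_sup_left
  have hPLp : IsPGroup p (P.subgroupOf L) := hP.comap_subtype
  -- `L` centralizer structure
  have hgen : P.subgroupOf L ⊔ Subgroup.centralizer ((P.subgroupOf L : Subgroup L) : Set L) = ⊤ := by
    rw [eq_top_iff]
    rintro ⟨x, hx⟩ -
    have hx' : x ∈ P ⊔ Subgroup.centralizer (P : Set G) := hL ▸ hx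
    obtain ⟨y, hy, z, hz, rfl⟩ := Subgroup.mem_sup_of_normal_left.1 hx'
    have hyL : y ∈ L := hPL hy
    have hzL : z ∈ L := hL ▸ Subgroup.mem_sup_right hz
    have h1 : (⟨y * z, hx⟩ : L) = ⟨y, hyL⟩ * ⟨z, hzL⟩ := rfl
    rw [h1]
    refine mul_mem (Subgroup.mem_sup_left ?_) (Subgroup.mem_sup_right ?_)
    · rw [Subgroup.mem_subgroupOf]
      exact hy
    · rw [Subgroup.mem_centralizer_iff]
      intro u hu
      apply Subtype.ext
      exact Subgroup.mem_centralizer_iff.1 hz (u : G) (Subgroup.mem_subgroupOf.1 hu)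
  -- the canonical character
  obtain ⟨⟨θ, ⟨hθb, hθP⟩, hθu⟩, hdeg, -⟩ :=
    Cfsg.Agent.S0968.result p M hM (P.subgroupOf L) hPLp hgen b hb hbP
  have hθdeg := hdeg θ hθb hθP
  -- the stabilizer of `θ` is `T`
  have hTθ : ∀ g : G, g ∈ T ↔ g ∈ stab L (θ : L → ℂ) := by
    intro g
    rw [hT, mem_stab]
    constructor
    · intro h
      have h1 := h θ hθb
      have h2 : conjIrr L g θ = θ := by
        refine hθu _ ⟨h1, fun x hx => ?_⟩
        rw [conjIrr_apply, conjIrr_at_one]
        refine hθP _ ?_
        rw [Subgroup.mem_subgroupOf] at hx ⊢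
        rw [MulAut.conjNormal_apply]
        exact hPn.conj_mem _ hx g
      funext x
      have h3 := congrArg (fun f : IrrCharacter L => (f : L → ℂ) x) h2
      simpa [conjIrr_apply] using h3
    · intro h ψ hψ
      have h2 : conjIrr L g θ = θ := by
        refine Subtype.ext (funext fun x => ?_)
        rw [conjIrr_apply]
        exact congrFun h x
      refine Basic.isPBlock_mem_of_sameBlock hb hθb ?_
      have h3 := sameBlock_conjIrr (N := L) g (Basic.isPBlock_sameBlock hb hθb hψ)
      rwa [h2] at h3
  have hTeq : stab L (θ : L → ℂ) = T := by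
    ext g
    exact (hTθ g).symm
  have hLT : L ≤ T := by
    rw [← hTeq]
    exact le_stab L θ.2
  -- characters over `b` are in `B`
  have hover : ∀ χ : IrrCharacter G, ∀ ψ ∈ b,
      classInner (fun n : L => (χ : G → ℂ) n) (ψ : L → ℂ) ≠ 0 → χ ∈ B := by
    intro χ ψ hψ hc
    have h1 := isInducedBlock_of_cover p hM P hP L hL b hb (blockOf M (χ : G → ℂ))
      (Basic.isPBlock_blockOf χ) ⟨χ, Basic.mem_blockOf_self χ, ψ, hψ, hc⟩
    obtain ⟨ξ, hξ⟩ := Basic.isPBlock_nonempty hB
    refine Basic.isPBlock_mem_of_sameBlock hB hξ ?_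
    intro g
    have h2 := hind.2.2 ψ hψ ξ hξ g
    have h3 := h1.2.2 ψ hψ χ (Basic.mem_blockOf_self χ) g
    have h4 := memLocalIdeal_sub h3 h2
    have h5 : inducedCentralChar L (ψ : L → ℂ) g - centralChar (χ : G → ℂ) g -
        (inducedCentralChar L (ψ : L → ℂ) g - centralChar (ξ : G → ℂ) g) =
        centralChar (ξ : G → ℂ) g - centralChar (χ : G → ℂ) g := by ring
    rwa [h5] at h4
  obtain ⟨χ₀, hχ₀⟩ := Over.exists_over L θ
  have hχ₀B : χ₀ ∈ B := hover χ₀ θ hθb hχ₀
  -- valuations
  have hLP : (Nat.card L).factorization p =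
      (P.subgroupOf L).index.factorization p + (Nat.card P).factorization p := by
    have h1 := factorization_card_eq p (P.subgroupOf L)
    rw [h1, Nat.card_congr (Subgroup.subgroupOfEquivOfLe hPL).toEquiv]
  have hcardG : (Nat.card G).factorization p =
      (L.relIndex T).factorization p + T.index.factorization p + (Nat.card L).factorization p := by
    rw [factorization_card_eq p L, factorization_index_eq p hLT]
  constructor
  · -- `B` has defect group `P`
    intro hBP hdvd
    have hν : 1 ≤ (L.relIndex T).factorization p := by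
      have h0 : L.relIndex T ≠ 0 := (L.subgroupOf T).index_ne_zero_of_finite
      exact hp.out.factorization_pos_of_dvd h0 hdvd
    set t := (L.relIndex T).factorization p with ht
    -- every multiplicity over `θ` is divisible by `p ^ t`
    have hmult : ∀ χ : IrrCharacter G,
        ∃ e : ℕ, classInner (fun n : L => (χ : G → ℂ) n) (θ : L → ℂ) = e ∧ p ^ t ∣ e := by
      intro χ
      by_cases h0 : classInner (fun n : L => (χ : G → ℂ) n) (θ : L → ℂ) = 0
      · exact ⟨0, by rw [h0]; simp, dvd_zero _⟩
      · obtain ⟨e, he0, he, hd⟩ := factorization_degree p L χ θ h0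
        refine ⟨e, he, ?_⟩
        rw [hp.out.pow_dvd_iff_le_factorization he0]
        have h1 := le_degree_add p hM hB hBP (hover χ θ hθb h0)
        rw [hTeq] at hd
        rw [hd, hcardG, hLP, hθdeg] at h1
        omega
    have := finite_irr (G := G)
    have := Fintype.ofFinite (IrrCharacter G)
    choose e he hpe using hmult
    -- the norm of the induced character
    have hcls : IsClassFunction G (indFun L (θ : L → ℂ)) :=
      isCharacter_isClassFunction
        (Cfsg.Agent.CharDeep.CliffordCorr.isCharacter_indFun L (isIrr_isCharacter θ.2))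
    have h1 := Cfsg.Agent.S0193.result L (θ : L → ℂ) θ.2
    obtain ⟨c, hc1, hc2⟩ := Cfsg.Agent.CharDeep.CliffordCorr.exists_nat_coeffs_indFun L
      (isIrr_isCharacter θ.2)
    have hce : ∀ χ, c χ = e χ := by
      intro χ
      have h2 := hc2 χ
      have h3 := he χ
      have h4 := classInner_conj_symm (fun n : L => (χ : G → ℂ) n) (θ : L → ℂ)
      rw [h3, h2] at h4
      have h5 : ((e χ : ℕ) : ℂ) = (c χ : ℂ) := by simpa using h4
      exact_mod_cast h5.symm
    have h2 : classInner (indFun L (θ : L → ℂ)) (indFun L (θ : L → ℂ)) =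
        ((∑ χ : IrrCharacter G, e χ * e χ : ℕ) : ℂ) := by
      rw [hc1, classInner_sum_smul_sum_smul]
      push_cast
      refine Finset.sum_congr rfl fun χ _ => ?_
      rw [hce]
      simp
    rw [h2] at h1
    have h3 : Nat.card {g : G // ∀ h : L, (θ : L → ℂ) ⟨g * h * g⁻¹, hLn.conj_mem h h.2 g⟩ =
        (θ : L → ℂ) h} = Nat.card T := by
      refine Nat.card_congr (Equiv.subtypeEquivRight fun g => ?_)
      rw [hTθ, mem_stab]
      constructor
      · intro h
        funext x
        exact h x
      · intro h x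
        exact congrFun h x
    rw [h3] at h1
    have h4 : Nat.card L * ∑ χ : IrrCharacter G, e χ * e χ = Nat.card T := by exact_mod_cast h1
    have h5 : p ^ (2 * t) ∣ ∑ χ : IrrCharacter G, e χ * e χ := by
      refine Finset.dvd_sum fun χ _ => ?_
      rw [two_mul, pow_add]
      exact mul_dvd_mul (hpe χ) (hpe χ)
    have h6 : Nat.card T = Nat.card L * L.relIndex T := by
      have h7 := (L.subgroupOf T).index_mul_card
      rw [Nat.card_congr (Subgroup.subgroupOfEquivOfLe hLT).toEquiv] at h7
      rw [← h7, mul_comm]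
      rfl
    rw [h6] at h4
    have h7 : ∑ χ : IrrCharacter G, e χ * e χ = L.relIndex T :=
      Nat.eq_of_mul_eq_mul_left Nat.card_pos h4
    rw [h7] at h5
    have h0 : L.relIndex T ≠ 0 := (L.subgroupOf T).index_ne_zero_of_finite
    rw [hp.out.pow_dvd_iff_le_factorization h0] at h5
    omega
  · -- `p ∤ [T : L]`
    intro hnd
    have hν : (L.relIndex T).factorization p = 0 := Nat.factorization_eq_zero_of_not_dvd hnd
    obtain ⟨D, hD⟩ := exists_defectGroup p hM hB
    have hPD : P ≤ D :=
      (Cfsg.Agent.Lib.Cores.le_pCore hPn hP).trans (Cfsg.Agent.S0912.result p M hM B hB D hD)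
    have hle : (Nat.card D).factorization p ≤ (Nat.card P).factorization p := by
      refine card_defect_le p hM hB hD fun χ hχ => ?_
      -- a constituent in `b`
      obtain ⟨c, hc⟩ : ∃ ψ : IrrCharacter L,
          classInner (fun n : L => (χ : G → ℂ) n) (ψ : L → ℂ) ≠ 0 := by
        by_contra hcon
        push Not at hcon
        have h1 := classFunction_eq_zero (G := L) (f := fun n : L => (χ : G → ℂ) n)
          (isCharacter_isClassFunction (Clifford.isCharacter_restrict L (isIrr_isCharacter χ.2)))
          (fun ψ hψ => hcon ⟨ψ, hψ⟩)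
        exact isIrr_apply_one_ne_zero χ.2 (congrFun h1 1)
      obtain ⟨g, θ', hθ', hconj⟩ := Cfsg.Agent.S0964.result p M hM L B hB b hb χ₀ hχ₀B θ hθb hχ₀
        χ hχ c hc
      have hc' : classInner (fun n : L => (χ : G → ℂ) n) (θ' : L → ℂ) ≠ 0 := by
        have h1 : (c : L → ℂ) = (θ' : L → ℂ) ∘ (MulAut.conjNormal g : MulAut L) := by
          funext n
          exact hconj n
        rwa [h1, Clifford.classInner_restrict_conjNormal (isIrr_isClassFunction χ.2)] at hc
      obtain ⟨e, -, -, hd⟩ := factorization_degree p L χ θ' hc'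
      -- the stabilizer of `θ'` is in `T`
      have hst : stab L (θ' : L → ℂ) ≤ T := by
        intro x hx
        rw [hT]
        intro ψ hψ
        have h2 : conjIrr L x θ' = θ' := by
          refine Subtype.ext (funext fun y => ?_)
          rw [conjIrr_apply]
          exact congrFun (mem_stab.1 hx) y
        refine Basic.isPBlock_mem_of_sameBlock hb hθ' ?_
        have h3 := sameBlock_conjIrr (N := L) x (Basic.isPBlock_sameBlock hb hθ' hψ)
        rwa [h2] at h3
      have h3 := factorization_index_eq p hst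
      have h4 := le_degree_add p hM hb hbP hθ'
      rw [Nat.card_congr (Subgroup.subgroupOfEquivOfLe hPL).toEquiv] at h4
      rw [hcardG, hν, hd, h3]
      omega
    rw [eq_of_le_of_factorization p hP (isPGroup_of_isDefectGroup hD) hPD hle]
    exact hD

end Cfsg.Agent.H592.NormalCase
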