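import Cfsg.Agent.H512.SylNum
import Cfsg.Agent.H150.FarAll
import Cfsg.Agent.H947.SqAlt
import Cfsg.Agent.S0204

/-!
# Every nonabelian finite simple group has an even number of Sylow `r`-subgroups for some `r` (S3932-H)
-/

set_option autoImplicit false

universe u

namespace Cfsg.Agent.H592.SylRow

open Cfsg Subgroup Cfsg.Agent.H512.SylNum

/-- The prime graph criterion. -/
theorem row_two_of_far {G : Type*} [Group G] [Finite G] [IsSimpleGroup G] (hc : ¬ IsCyclic G)
    (h : Cfsg.Agent.H150.Far G) : Row 2 G := by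
  by_contra hrow
  obtain ⟨r, hr, hr2, hd, ho⟩ := h
  have hrf := Fact.mk hr
  have h2 : Fact (Nat.Prime 2) := ⟨Nat.prime_two⟩
  obtain ⟨E, hE⟩ := Cfsg.Agent.S0204.result (G := G) hc
  have hE2 : IsPGroup 2 E := IsPGroup.of_card (n := 2) (by rw [hE.card_four]; norm_num)
  obtain ⟨R, hR⟩ := exists_norm (p := 2) (not_row hrow r) hE2
  have hEc : ∀ a ∈ E, ∀ b ∈ E, a * b = b * a := by
    intro a ha b hb
    exact congrArg Subtype.val (mul_comm_of_exponent_two hE.exponent_two (⟨a, ha⟩ : E) ⟨b, hb⟩)
  obtain ⟨a, -, x, -, h3, h4, h5⟩ := exists_comm_of_rank (p := 2) (r := r) hr2 hE2 hEc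
    hE.not_isCyclic R.2 (card_sylow_ne_one hd R) hR
  apply ho (a * x)
  have h6 : Commute a x := h5
  rw [h6.orderOf_mul_eq_mul_orderOf_of_coprime, h3, h4]
  rw [h3, h4]
  exact (Nat.coprime_primes Nat.prime_two hr).2 hr2.symm

/-- The alternating groups. -/
theorem row_two_alt {n : ℕ} (hn : 5 ≤ n) : Row 2 (alternatingGroup (Fin n)) := by
  classical
  rcases Nat.lt_or_ge n 7 with h7 | h7
  · have h5 : Fact (Nat.Prime 5) := ⟨by norm_num⟩
    have hcard : 2 * Nat.card (alternatingGroup (Fin n)) = n.factorial := by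
      have h1 : Nontrivial (Fin n) := Fin.nontrivial_iff_two_le.2 (by omega)
      rw [Nat.card_eq_fintype_card, two_mul_card_alternatingGroup, Fintype.card_perm,
        Fintype.card_fin]
    obtain hn5 | hn6 : n = 5 ∨ n = 6 := by omega
    · subst hn5
      refine ⟨5, h5, ?_⟩
      obtain ⟨R⟩ : Nonempty (Sylow 5 (alternatingGroup (Fin 5))) := inferInstance
      have hc : Nat.card (alternatingGroup (Fin 5)) = 60 := by
        have : Nat.factorial 5 = 120 := by decide
        omega
      have h1 := card_sylow_modEq_one 5 (alternatingGroup (Fin 5))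
      have h2 : Nat.card (Sylow 5 (alternatingGroup (Fin 5))) ∣ 60 := by
        rw [← hc]
        exact (R.card_dvd_index).trans (Subgroup.index_dvd_card _)
      have h3 : Nat.card (Sylow 5 (alternatingGroup (Fin 5))) ∣ 12 := by
        refine Nat.Coprime.dvd_of_dvd_mul_left (m := 5) ?_ h2
        rw [Nat.coprime_comm, Nat.Prime.coprime_iff_not_dvd h5.out]
        intro h4
        have h5 := (Nat.modEq_zero_iff_dvd.2 h4).symm.trans h1
        exact absurd h5 (by decide)
      have h4 : Nat.card (Sylow 5 (alternatingGroup (Fin 5))) ≠ 1 := by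
        intro h4
        have hs : IsSimpleGroup (alternatingGroup (Fin 5)) :=
          alternatingGroup.isSimpleGroup (by rw [Nat.card_eq_fintype_card, Fintype.card_fin])
        have hsub : Subsingleton (Sylow 5 (alternatingGroup (Fin 5))) :=
          (Nat.card_eq_one_iff_unique.1 h4).1
        have hn : (R : Subgroup (alternatingGroup (Fin 5))).Normal := R.normal_of_subsingleton
        have hR5 : 5 ∣ Nat.card R := R.dvd_card_of_dvd_card (by rw [hc]; norm_num)
        obtain ⟨k, hk⟩ := IsPGroup.iff_card.1 R.2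
        rcases hn.eq_bot_or_eq_top with h | h
        · rw [h, Subgroup.card_bot] at hR5
          omega
        · rw [h, Subgroup.card_top, hc] at hk
          have h6 : 2 ∣ 5 ^ k := by
            rw [← hk]
            norm_num
          have h7 := Nat.prime_two.dvd_of_dvd_pow h6
          omega
      have h6 : Nat.card (Sylow 5 (alternatingGroup (Fin 5))) ≤ 12 := Nat.le_of_dvd (by norm_num) h3
      generalize Nat.card (Sylow 5 (alternatingGroup (Fin 5))) = N at *
      unfold Nat.ModEq at h1
      interval_cases N <;> omega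
    · subst hn6
      refine ⟨5, h5, ?_⟩
      have h1 := Cfsg.Agent.H947.Sq.alt_dvd (n := 6) (r := 5) (by norm_num) (by norm_num)
        (by norm_num)
      have h2 : Nat.choose 6 5 * (5 - 2).factorial = 36 := by decide
      rw [h2] at h1
      omega
  · obtain ⟨r, hr, h7', hrn, hn2⟩ : ∃ r : ℕ, r.Prime ∧ 7 ≤ r ∧ r ≤ n ∧ n < 2 * r := by
      rcases Nat.lt_or_ge n 14 with h14 | h14
      · exact ⟨7, by norm_num, le_rfl, h7, by omega⟩
      · obtain ⟨r, hr, h1, h2⟩ := Nat.exists_prime_lt_and_le_two_mul (n / 2) (by omega)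
        exact ⟨r, hr, by omega, by omega, by omega⟩
    have hrf : Fact r.Prime := ⟨hr⟩
    refine ⟨r, hrf, ?_⟩
    have h1 := Cfsg.Agent.H947.Sq.alt_dvd (by omega) hrn hn2
    have h2 : 4 ∣ (r - 2).factorial :=
      dvd_trans (by decide) (Nat.factorial_dvd_factorial (show 5 ≤ r - 2 by omega))
    have h3 := (h2.mul_left (n.choose r)).trans h1
    omega

/-- **S3932-H.** -/
theorem row_two {G : Type u} [Group G] [Finite G] [IsSimpleGroup G]
    (hna : ∃ a b : G, a * b ≠ b * a) (hk : Cfsg.IsKnownSimple' G) : Row 2 G := by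
  have hc : ¬ IsCyclic G := by
    intro hcyc
    obtain ⟨a, b, hab⟩ := hna
    exact hab ((IsCyclic.isMulCommutative (α := G)).is_comm.comm a b)
  by_cases h2 : IsAlternating G
  · obtain ⟨n, hn, ⟨e⟩⟩ := h2
    exact (row_two_alt hn).congr e.symm
  · refine row_two_of_far hc (Cfsg.Agent.H150.far_of_known hk ?_ h2)
    intro h1
    have h3 : Fact (Nat.card G).Prime := ⟨h1⟩
    exact hc (isCyclic_of_prime_card (p := Nat.card G) rfl)

end Cfsg.Agent.H592.SylRow
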