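import Mathlib
import Cfsg.Prelude.Def_Blocks
import Cfsg.Agent.Characters.Core
import Cfsg.Agent.Blocks.Basic
import Cfsg.Agent.Blocks.Local
import Cfsg.Agent.Blocks.Fong
import Cfsg.Agent.Blocks.SylowIn

/-!
# Transport of blocks along a group isomorphism (helper592)
-/

set_option autoImplicit false
open Cfsg

namespace Cfsg.Agent.H592.Transport

open Cfsg.Agent.Characters.Core Cfsg.Agent.Blocks Cfsg.Agent.Blocks.Local
open scoped ComplexConjugate

variable {A B : Type*} [Group A] [Group B]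

/-- Pull back an irreducible character along an isomorphism. -/
def tr (e : A ≃* B) (θ : IrrCharacter B) : IrrCharacter A :=
  ⟨fun x => (θ : B → ℂ) (e x), isIrr_comp e.toMonoidHom e.surjective θ.2⟩

theorem tr_apply (e : A ≃* B) (θ : IrrCharacter B) (x : A) :
    (tr e θ : A → ℂ) x = (θ : B → ℂ) (e x) := rfl

theorem tr_symm_tr (e : A ≃* B) (θ : IrrCharacter B) : tr e.symm (tr e θ) = θ :=
  Subtype.ext (funext fun x => by rw [tr_apply, tr_apply, e.apply_symm_apply])

theorem tr_tr_symm (e : A ≃* B) (θ : IrrCharacter A) : tr e (tr e.symm θ) = θ :=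
  Subtype.ext (funext fun x => by rw [tr_apply, tr_apply, e.symm_apply_apply])

theorem centralChar_tr (e : A ≃* B) (θ : IrrCharacter B) (x : A) :
    centralChar (tr e θ : A → ℂ) x = centralChar (θ : B → ℂ) (e x) :=
  Fong.centralChar_comp_equiv e (θ : B → ℂ) x

theorem sameBlock_tr {M : Ideal AlgInt} (e : A ≃* B) {θ ψ : IrrCharacter B} :
    SameBlock M (tr e θ : A → ℂ) (tr e ψ : A → ℂ) ↔
      SameBlock M (θ : B → ℂ) (ψ : B → ℂ) := by
  constructor
  · intro h x
    have := h (e.symm x)
    rwa [centralChar_tr, centralChar_tr, e.apply_symm_apply] at this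
  · intro h x
    rw [centralChar_tr, centralChar_tr]
    exact h (e x)

/-- The set of characters of `A` corresponding to a set of characters of `B`. -/
def trSet (e : A ≃* B) (b : Set (IrrCharacter B)) : Set (IrrCharacter A) :=
  {θ | tr e.symm θ ∈ b}

theorem mem_trSet {e : A ≃* B} {b : Set (IrrCharacter B)} {θ : IrrCharacter A} :
    θ ∈ trSet e b ↔ tr e.symm θ ∈ b := Iff.rfl

theorem tr_mem_trSet {e : A ≃* B} {b : Set (IrrCharacter B)} {θ : IrrCharacter B} :
    tr e θ ∈ trSet e b ↔ θ ∈ b := by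
  rw [mem_trSet, tr_symm_tr]

theorem isPBlock_trSet {M : Ideal AlgInt} [M.IsPrime] (e : A ≃* B)
    {b : Set (IrrCharacter B)} (hb : IsPBlock M b) : IsPBlock M (trSet e b) := by
  obtain ⟨θ, rfl⟩ := hb
  refine ⟨tr e θ, ?_⟩
  ext ψ
  rw [mem_trSet, Basic.mem_blockOf, Basic.mem_blockOf, ← sameBlock_tr e, tr_tr_symm]

theorem finsum_trSet (e : A ≃* B) (b : Set (IrrCharacter B)) (F : IrrCharacter A → ℂ) :
    ∑ᶠ χ ∈ trSet e b, F χ = ∑ᶠ χ ∈ b, F (tr e χ) := by
  symm
  refine finsum_mem_eq_of_bijOn (tr e) ⟨fun θ hθ => tr_mem_trSet.2 hθ, ?_, ?_⟩ fun _ _ => rfl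
  · intro θ _ ψ _ h
    have := congrArg (tr e.symm) h
    rwa [tr_symm_tr, tr_symm_tr] at this
  · intro θ hθ
    exact ⟨tr e.symm θ, hθ, tr_tr_symm e θ⟩

theorem blockCoeff_trSet (e : A ≃* B) (b : Set (IrrCharacter B)) (x : A) :
    blockCoeff (trSet e b) x = blockCoeff b (e x) := by
  rw [Basic.blockCoeff_def, Basic.blockCoeff_def, finsum_trSet, Nat.card_congr e.toEquiv]
  congr 1
  refine finsum_mem_congr rfl fun θ _ => ?_
  rw [tr_apply, tr_apply, map_one]

theorem isDefectClass_trSet {M : Ideal AlgInt} (e : A ≃* B) {b : Set (IrrCharacter B)}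
    {x : B} (h : IsDefectClass M b x) : IsDefectClass M (trSet e b) (e.symm x) := by
  obtain ⟨h1, h2, h3⟩ := h
  refine ⟨?_, ?_, ?_⟩
  · rw [blockCoeff_trSet, e.apply_symm_apply]
    exact h1
  · rw [blockCoeff_trSet, e.apply_symm_apply]
    exact h2
  · intro χ hχ
    have h4 := h3 _ (mem_trSet.1 hχ)
    rwa [centralChar_tr] at h4

theorem centralizer_comap (e : A ≃* B) (x : B) :
    (Subgroup.centralizer ({x} : Set B)).comap e.toMonoidHom =
      Subgroup.centralizer ({e.symm x} : Set A) := by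
  ext y
  rw [Subgroup.mem_comap, Subgroup.mem_centralizer_singleton_iff,
    Subgroup.mem_centralizer_singleton_iff]
  constructor
  · intro h
    apply e.injective
    rw [map_mul, map_mul, e.apply_symm_apply]
    exact h
  · intro h
    have := congrArg e h
    rwa [map_mul, map_mul, e.apply_symm_apply] at this

theorem card_comap (e : A ≃* B) (D : Subgroup B) :
    Nat.card (D.comap e.toMonoidHom) = Nat.card D := by
  refine Nat.card_congr ?_
  refine e.toEquiv.subtypeEquiv fun a => ?_
  rfl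

theorem isDefectGroup_trSet {p : ℕ} [Fact p.Prime] [Finite A] [Finite B] {M : Ideal AlgInt}
    (e : A ≃* B) {b : Set (IrrCharacter B)} {D : Subgroup B} (h : IsDefectGroup p M b D) :
    IsDefectGroup p M (trSet e b) (D.comap e.toMonoidHom) := by
  obtain ⟨g, hg, S, hS⟩ := h
  refine ⟨e.symm g, isDefectClass_trSet e hg, ?_⟩
  have hDle : D ≤ Subgroup.centralizer ({g} : Set B) := by
    rw [hS]
    exact Subgroup.map_subtype_le _
  have h1 : D.comap e.toMonoidHom ≤ Subgroup.centralizer ({e.symm g} : Set A) := by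
    rw [← centralizer_comap]
    exact Subgroup.comap_mono hDle
  have h2 : Nat.card (D.comap e.toMonoidHom) =
      p ^ (Nat.card (Subgroup.centralizer ({e.symm g} : Set A))).factorization p := by
    rw [card_comap, ← centralizer_comap, card_comap]
    exact SylowIn.card_of_sylow_map_eq ⟨S, hS.symm⟩
  obtain ⟨S', hS'⟩ := SylowIn.exists_sylow_map_eq_of_card h1 h2
  exact ⟨S', hS'.symm⟩

end Cfsg.Agent.H592.Transport
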