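import Mathlib
import Cfsg.Prelude.Def_Blocks
import Cfsg.Agent.Characters.Core
import Cfsg.Agent.Blocks.Basic
import Cfsg.Agent.Blocks.Local
import Cfsg.Agent.Blocks.ClassSum
import Cfsg.Agent.H592.Transport

/-!
# Transitivity of block induction (helper592)

`trans_induced` : `H ≤ K ≤ G`, `b` a block of `H`, `C` the block of `K` induced by (the copy in
`K` of) `b`, `B` a block of `G`: if `C` induces `B` then `b` induces `B`, and conversely.
-/

set_option autoImplicit false
open Cfsg

namespace Cfsg.Agent.H592.Transit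

open Cfsg.Agent.Characters.Core Cfsg.Agent.Blocks Cfsg.Agent.Blocks.Local
open Cfsg.Agent.H592.Transport
open scoped ComplexConjugate

variable {G : Type*} [Group G]

theorem inducedCentralChar_eq_sum (H : Subgroup G) [Fintype H] (ξ : H → ℂ) (g : G)
    [DecidablePred fun h : H => IsConj g (h : G)] :
    inducedCentralChar H ξ g = ∑ h : H, (if IsConj g (h : G) then (1 : ℂ) else 0) *
      (ξ h / ξ 1) := by
  classical
  rw [Basic.inducedCentralChar_def]
  have h1 : ∀ h : H, (if IsConj g (h : G) then (1 : ℂ) else 0) * (ξ h / ξ 1) =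
      if IsConj g (h : G) then ξ h / ξ 1 else 0 := by
    intro h
    split_ifs <;> simp
  rw [Finset.sum_congr rfl fun h _ => h1 h, ← Finset.sum_filter, ← finsum_mem_finset_eq_sum]
  refine finsum_mem_congr ?_ fun _ _ => rfl
  ext h
  simp

/-- The copy of `H` inside `K`. -/
noncomputable def inK {H K : Subgroup G} (h : H ≤ K) : H.subgroupOf K ≃* H :=
  Subgroup.subgroupOfEquivOfLe h

theorem inK_coe {H K : Subgroup G} (h : H ≤ K) (x : H.subgroupOf K) :
    ((inK h x : H) : G) = ((x : K) : G) := rfl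

/-- The key congruence. -/
theorem congr_of_induced [Finite G] {M : Ideal AlgInt} [M.IsPrime] {H K : Subgroup G}
    (hHK : H ≤ K) (ξ : IrrCharacter H) (η : IrrCharacter K)
    (h : ∀ k : K, MemLocalIdeal M (inducedCentralChar (H.subgroupOf K)
      (tr (inK hHK) ξ : H.subgroupOf K → ℂ) k - centralChar (η : K → ℂ) k)) (g : G) :
    MemLocalIdeal M (inducedCentralChar H (ξ : H → ℂ) g -
      inducedCentralChar K (η : K → ℂ) g) := by
  classical
  have := Fintype.ofFinite H
  have := Fintype.ofFinite K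
  have := Fintype.ofFinite (H.subgroupOf K)
  have h1 := ClassSum.memLocalIdeal_of_induced (G := K) (H.subgroupOf K)
    (isIrr_isClassFunction η.2) h (f := fun k : K => if IsConj g (k : G) then (1 : ℂ) else 0)
    (by
      intro a x
      change (if IsConj g ((x * a * x⁻¹ : K) : G) then (1 : ℂ) else 0) =
        if IsConj g (a : G) then 1 else 0
      have h2 : IsConj g ((x * a * x⁻¹ : K) : G) ↔ IsConj g (a : G) := by
        constructor
        · intro h3
          exact h3.trans (isConj_iff.2 ⟨(x : G)⁻¹, by push_cast; group⟩)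
        · intro h3
          exact h3.trans (isConj_iff.2 ⟨(x : G), by push_cast; group⟩)
      by_cases h4 : IsConj g (a : G)
      · rw [if_pos h4, if_pos (h2.2 h4)]
      · rw [if_neg h4, if_neg (fun h5 => h4 (h2.1 h5))])
    (by
      intro k
      change MemLocalRing M (if IsConj g (k : G) then (1 : ℂ) else 0)
      split_ifs
      · exact memLocalRing_one
      · exact memLocalRing_zero)
  rw [inducedCentralChar_eq_sum, inducedCentralChar_eq_sum]
  convert h1 using 2
  refine (Fintype.sum_equiv (inK hHK).toEquiv _ _ fun x => ?_).symm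
  change (if IsConj g ((x : K) : G) then (1 : ℂ) else 0) *
      ((ξ : H → ℂ) (inK hHK x) / (ξ : H → ℂ) (inK hHK 1)) =
    (if IsConj g ((inK hHK x : H) : G) then (1 : ℂ) else 0) *
      ((ξ : H → ℂ) (inK hHK x) / (ξ : H → ℂ) 1)
  rw [map_one, inK_coe]

/-- **Transitivity of block induction.** -/
theorem trans_induced [Finite G] {M : Ideal AlgInt} [M.IsPrime] {H K : Subgroup G}
    (hHK : H ≤ K) {b : Set (IrrCharacter H)} (hb : IsPBlock M b) {C : Set (IrrCharacter K)}
    (hC : IsInducedBlock M (H.subgroupOf K) (trSet (inK hHK) b) C)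
    {B : Set (IrrCharacter G)} : IsInducedBlock M H b B ↔ IsInducedBlock M K C B := by
  have key : ∀ ξ ∈ b, ∀ η ∈ C, ∀ g : G, MemLocalIdeal M
      (inducedCentralChar H (ξ : H → ℂ) g - inducedCentralChar K (η : K → ℂ) g) := by
    intro ξ hξ η hη g
    exact congr_of_induced hHK ξ η (fun k => hC.2.2 _ (tr_mem_trSet.2 hξ) η hη k) g
  constructor
  · rintro ⟨-, hB, h⟩
    refine ⟨hC.2.1, hB, fun η hη χ hχ g => ?_⟩
    obtain ⟨ξ, hξ⟩ := Basic.isPBlock_nonempty hb
    exact memLocalIdeal_sub_trans (memLocalIdeal_sub_comm (key ξ hξ η hη g)) (h ξ hξ χ hχ g)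
  · rintro ⟨-, hB, h⟩
    refine ⟨hb, hB, fun ξ hξ χ hχ g => ?_⟩
    obtain ⟨η, hη⟩ := Basic.isPBlock_nonempty hC.2.1
    exact memLocalIdeal_sub_trans (key ξ hξ η hη g) (h η hη χ hχ g)

/-- A block induces at most one block. -/
theorem induced_unique [Finite G] {M : Ideal AlgInt} [M.IsPrime] {H : Subgroup G}
    {b : Set (IrrCharacter H)} {B B' : Set (IrrCharacter G)} (h : IsInducedBlock M H b B)
    (h' : IsInducedBlock M H b B') : B = B' := by
  obtain ⟨ξ, hξ⟩ := Basic.isPBlock_nonempty h.1
  obtain ⟨χ, hχ⟩ := Basic.isPBlock_nonempty h.2.1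
  obtain ⟨χ', hχ'⟩ := Basic.isPBlock_nonempty h'.2.1
  refine Basic.isPBlock_eq_of_sameBlock h.2.1 h'.2.1 hχ hχ' fun g => ?_
  exact memLocalIdeal_sub_trans (memLocalIdeal_sub_comm (h.2.2 ξ hξ χ hχ g))
    (h'.2.2 ξ hξ χ' hχ' g)

end Cfsg.Agent.H592.Transit
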